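import Groth.Agent.Sga3B.RG.RepAlg
import Mathlib.LinearAlgebra.ExteriorPower.Basis
import Mathlib.LinearAlgebra.Alternating.Curry

/-!
# Exterior powers of algebraic representations

* `extRep ρ n`: the representation on `⋀^n V`, algebraic when `ρ` is (`isAlg_extRep`);
* `wedge e`: the linear map `v ↦ v ∧ e_1 ∧ … ∧ e_d`, with kernel the span of the linearly
  independent family `e`.
-/

set_option autoImplicit false

universe u w w'

open WithConv TensorProduct Coalgebra

namespace K495.ExtRep

open Groth.Agent.Sga3B.RG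

section Fun

variable {K : Type u} [Field K] {A : Type u} [CommRing A] [HopfAlgebra K A]

lemma isFun_prod {ι : Type*} (s : Finset ι) {f : ι → Pt K A → K}
    (hf : ∀ i ∈ s, IsFun (f i)) : IsFun (fun g => ∏ i ∈ s, f i g) := by
  classical
  induction s using Finset.induction_on with
  | empty => simpa using isFun_const (1 : K)
  | insert i s hi ih =>
    have h1 := (hf i (Finset.mem_insert_self _ _)).mul
      (ih fun j hj => hf j (Finset.mem_insert_of_mem hj))
    simpa [Finset.prod_insert hi] using h1

lemma isFun_det {n : Type*} [Fintype n] [DecidableEq n] {M : Pt K A → Matrix n n K}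
    (hM : ∀ i j, IsFun (fun g => M g i j)) : IsFun (fun g => (M g).det) := by
  have h1 : IsFun (fun g => ∑ σ : Equiv.Perm n, ((Equiv.Perm.sign σ : ℤ) : K) *
      ∏ i, M g (σ i) i) :=
    IsFun.sum _ fun σ _ => (isFun_prod _ fun i _ => hM _ _).const_mul _
  obtain ⟨a, ha⟩ := h1
  exact ⟨a, fun g => by rw [← ha g]; exact Matrix.det_apply' _⟩

end Fun

section Rep

variable {K : Type u} [Field K] {G : Type*} [Group G] {V : Type w} [AddCommGroup V] [Module K V]

/-- The representation on the exterior power. -/
noncomputable def extRep (ρ : Representation K G V) (n : ℕ) : Representation K G (⋀[K]^n V) where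
  toFun g := exteriorPower.map n (ρ g)
  map_one' := by rw [map_one]; exact exteriorPower.map_id
  map_mul' g h := by rw [map_mul]; exact (exteriorPower.map_comp (ρ h) (ρ g))

lemma extRep_ιMulti (ρ : Representation K G V) (n : ℕ) (g : G) (v : Fin n → V) :
    extRep ρ n g (exteriorPower.ιMulti K n v) = exteriorPower.ιMulti K n (fun i => ρ g (v i)) :=
  exteriorPower.map_apply_ιMulti _ _

end Rep

section Alg

variable {K : Type u} [Field K] {A : Type u} [CommRing A] [HopfAlgebra K A]
  {V : Type w} [AddCommGroup V] [Module K V] [FiniteDimensional K V]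

theorem isAlg_extRep {ρ : Representation K (Pt K A) V} (hρ : IsAlg ρ) (n : ℕ) :
    IsAlg (extRep ρ n) := by
  classical
  let b := Module.finBasis K V
  intro f x
  have hx : x ∈ Submodule.span K (Set.range (exteriorPower.ιMulti_family K n b)) := by
    rw [exteriorPower.ιMulti_family_span_of_span K b.span_eq]; trivial
  induction hx using Submodule.span_induction with
  | zero => exact ⟨0, fun g => by rw [map_zero, map_zero, Pt.apply_zero]⟩
  | add x y _ _ hx hy =>
    obtain ⟨a, ha⟩ := IsFun.add (A := A) hx hy
    exact ⟨a, fun g => by rw [← ha g, map_add, map_add]⟩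
  | smul c x _ hx =>
    obtain ⟨a, ha⟩ := IsFun.const_mul (A := A) c hx
    exact ⟨a, fun g => by rw [← ha g, map_smul, map_smul, smul_eq_mul]⟩
  | mem x hx =>
    obtain ⟨s, rfl⟩ := hx
    have h1 : IsFun (A := A) (fun g => ∑ t, f (exteriorPower.ιMulti_family K n b t) *
        (Matrix.of fun i j => b.coord (Set.powersetCard.ofFinEmbEquiv.symm t j)
          (ρ g (b (Set.powersetCard.ofFinEmbEquiv.symm s i)))).det) :=
      IsFun.sum _ fun t _ => (isFun_det (M := fun g => Matrix.of fun i j =>
        b.coord (Set.powersetCard.ofFinEmbEquiv.symm t j)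
          (ρ g (b (Set.powersetCard.ofFinEmbEquiv.symm s i)))) fun i j =>
            hρ.isFun (b.coord (Set.powersetCard.ofFinEmbEquiv.symm t j))
              (b (Set.powersetCard.ofFinEmbEquiv.symm s i))).const_mul _
    obtain ⟨a, ha⟩ := h1
    refine ⟨a, fun g => ?_⟩
    rw [← ha g]
    have h2 : exteriorPower.ιMulti_family K n b s =
        exteriorPower.ιMulti K n (b ∘ Set.powersetCard.ofFinEmbEquiv.symm s) := rfl
    rw [h2, extRep_ιMulti]
    conv_lhs => rw [← (b.exteriorPower n).sum_repr
      (exteriorPower.ιMulti K n fun i => ρ g ((b ∘ Set.powersetCard.ofFinEmbEquiv.symm s) i))]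
    rw [map_sum]
    refine Finset.sum_congr rfl fun t _ => ?_
    rw [map_smul, smul_eq_mul, mul_comm, exteriorPower.basis_repr_apply,
      exteriorPower.ιMultiDual_apply_ιMulti, exteriorPower.basis_apply]
    rfl

end Alg

section Wedge

variable {K : Type u} [Field K] {V : Type w} [AddCommGroup V] [Module K V]

/-- The exterior product of a linearly independent family is not zero. -/
theorem ιMulti_ne_zero {m : ℕ} {v : Fin m → V} (hv : LinearIndependent K v) :
    exteriorPower.ιMulti K m v ≠ 0 := by
  classical
  obtain ⟨q, hq⟩ := LinearMap.exists_leftInverse_of_injective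
    (Fintype.linearCombination K v)
    (LinearMap.ker_eq_bot.mpr (linearIndependent_iff_injective_fintypeLinearCombination.mp hv))
  let D : V [⋀^Fin m]→ₗ[K] K := (Matrix.detRowAlternating (R := K) (n := Fin m)).compLinearMap q
  intro h
  have h1 := exteriorPower.alternatingMapLinearEquiv_apply_ιMulti D v
  rw [h, map_zero] at h1
  have h2 : D v = 1 := by
    change Matrix.det (fun i => q (v i)) = 1
    have h3 : (fun i => q (v i)) = (1 : Matrix (Fin m) (Fin m) K) := by
      funext i
      have h4 := LinearMap.congr_fun hq (Pi.single i 1)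
      simp only [LinearMap.comp_apply, Fintype.linearCombination_apply_single, one_smul,
        LinearMap.id_apply] at h4
      rw [h4]
      funext j
      rw [Matrix.one_apply, Pi.single_apply]
      simp [eq_comm]
    rw [h3, Matrix.det_one]
  rw [h2] at h1
  exact zero_ne_one h1

/-- `v ↦ v ∧ e_1 ∧ … ∧ e_d`. -/
noncomputable def wedge {d : ℕ} (e : Fin d → V) : V →ₗ[K] ⋀[K]^(d + 1) V where
  toFun v := (exteriorPower.ιMulti K (d + 1)).curryLeft v e
  map_add' v w := by rw [map_add]; rfl
  map_smul' c v := by rw [map_smul]; rfl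

lemma wedge_apply {d : ℕ} (e : Fin d → V) (v : V) :
    wedge (K := K) e v = exteriorPower.ιMulti K (d + 1) (Fin.cons v e : Fin (d + 1) → V) := rfl

lemma wedge_self {d : ℕ} (e : Fin d → V) (i : Fin d) : wedge (K := K) e (e i) = 0 := by
  rw [wedge_apply]
  refine AlternatingMap.map_eq_zero_of_eq _ _ (i := 0) (j := i.succ) ?_ (Fin.succ_ne_zero i).symm
  simp

lemma ker_wedge {d : ℕ} {e : Fin d → V} (he : LinearIndependent K e) :
    LinearMap.ker (wedge (K := K) e) = Submodule.span K (Set.range e) := by
  apply le_antisymm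
  · intro v hv
    by_contra hcon
    have h1 : LinearIndependent K (Fin.cons v e : Fin (d + 1) → V) :=
      linearIndependent_finCons.2 ⟨he, hcon⟩
    exact ιMulti_ne_zero h1 hv
  · rw [Submodule.span_le]
    rintro _ ⟨i, rfl⟩
    exact wedge_self e i

/-- An alternating map on a family of linear combinations. -/
theorem map_sum_smul {N : Type*} [AddCommGroup N] [Module K N] {d : ℕ}
    (f : V [⋀^Fin d]→ₗ[K] N) (e : Fin d → V) (M : Matrix (Fin d) (Fin d) K) :
    f (fun i => ∑ j, M i j • e j) = M.det • f e := by
  classical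
  let g : (Fin d → K) [⋀^Fin d]→ₗ[K] N := f.compLinearMap (Fintype.linearCombination K e)
  let g' : (Fin d → K) [⋀^Fin d]→ₗ[K] N :=
    (LinearMap.toSpanSingleton K N (f e)).compAlternatingMap (Matrix.detRowAlternating (R := K))
  have h1 : g = g' := by
    refine Module.Basis.ext_alternating (Pi.basisFun K (Fin d)) fun v hv => ?_
    let σ : Equiv.Perm (Fin d) := Equiv.ofBijective v (Finite.injective_iff_bijective.1 hv)
    have hσ : ∀ i, v i = σ i := fun i => rfl
    have e1 : g (fun i => Pi.basisFun K (Fin d) (v i)) = f (fun i => e (σ i)) := by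
      change f (fun i => Fintype.linearCombination K e (Pi.basisFun K (Fin d) (v i))) = _
      congr 1
      funext i
      rw [Pi.basisFun_apply, Fintype.linearCombination_apply_single, one_smul, hσ]
    have e2 : g' (fun i => Pi.basisFun K (Fin d) (v i)) =
        (Matrix.det (fun i => Pi.basisFun K (Fin d) (σ i))) • f e := rfl
    have e3 : (fun i => Pi.basisFun K (Fin d) (σ i) : Matrix (Fin d) (Fin d) K) =
        (1 : Matrix (Fin d) (Fin d) K).submatrix σ id := by
      ext i j
      simp [Matrix.one_apply, Pi.single_apply, eq_comm]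
    rw [e1, e2, e3, Matrix.det_permute, Matrix.det_one, mul_one]
    have e4 := f.map_perm e σ
    have e5 : (fun i => e (σ i)) = e ∘ σ := rfl
    rw [e5, e4]
    rcases Int.units_eq_one_or (Equiv.Perm.sign σ) with h | h <;> simp [h]
  have h2 := congrArg (fun F => F (fun i => M i)) h1
  have h3 : g (fun i => M i) = f (fun i => ∑ j, M i j • e j) := rfl
  have h4 : g' (fun i => M i) = M.det • f e := rfl
  rw [← h3, ← h4]
  exact h2

variable {G : Type*} [Group G]

lemma extRep_ιMulti_eq (ρ : Representation K G V) {d : ℕ} {e : Fin d → V} {g : G}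
    {M : Matrix (Fin d) (Fin d) K} (hM : ∀ i, ρ g (e i) = ∑ j, M i j • e j) :
    extRep ρ d g (exteriorPower.ιMulti K d e) = M.det • exteriorPower.ιMulti K d e := by
  rw [extRep_ιMulti, ← map_sum_smul]
  congr 1
  funext i
  exact hM i

/-- If `g` stabilises the span of `e`, with matrix `M`, then
`g (v ∧ e) = det M • (g v) ∧ e`. -/
lemma extRep_wedge (ρ : Representation K G V) {d : ℕ} {e : Fin d → V} {g : G}
    {M : Matrix (Fin d) (Fin d) K} (hM : ∀ i, ρ g (e i) = ∑ j, M i j • e j) (v : V) :
    extRep ρ (d + 1) g (wedge (K := K) e v) = M.det • wedge (K := K) e (ρ g v) := by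
  rw [wedge_apply, extRep_ιMulti]
  have h1 : (fun i => ρ g ((Fin.cons v e : Fin (d + 1) → V) i)) =
      (Fin.cons (ρ g v) (fun i => ∑ j, M i j • e j) : Fin (d + 1) → V) := by
    funext i
    refine Fin.cases ?_ (fun i => ?_) i
    · simp
    · simp [hM]
  rw [h1]
  exact map_sum_smul ((exteriorPower.ιMulti K (d + 1)).curryLeft (ρ g v)) e M

end Wedge

end K495.ExtRep
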