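import Groth.Agent.AGF.K495.ObsSep
import Groth.Agent.AGF.K495.ExtRep
import Groth.Agent.Sga3B.RG.ChevLine

/-!
# Extension of representations from observable subgroups

* `InvExt H`: if a function `F` with `F(1) ≠ 0` is semi-invariant of weight `χ` under right
  translation by `H`, then there is one of weight `χ⁻¹`;
* `IsObs.invExt`, `isObs_of_invExt`: for `H` closed, `InvExt H` is observability;
* `exists_ext`: for `H` observable every finite-dimensional algebraic representation of `H` embeds in
  the restriction of a finite-dimensional algebraic representation of the whole group.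
-/

set_option autoImplicit false

universe u w w'

open WithConv TensorProduct Coalgebra

namespace K495.ObsExt

open Groth.Agent.Sga3B.RG K495.ObsPt K495.ObsSep K495.ExtRep

section Def

variable {K : Type u} [Field K] {A : Type u} [CommRing A] [HopfAlgebra K A]

/-- `a` is semi-invariant of weight `χ` under right translation by `H`. -/
def IsWt (H : Subgroup (Pt K A)) (χ : Pt K A → K) (a : A) : Prop :=
  ∀ x : Pt K A, ∀ h ∈ H, (x * h) a = χ h * x a

/-- Inverses of extendible characters are extendible. -/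
def InvExt (H : Subgroup (Pt K A)) : Prop :=
  ∀ (χ : Pt K A → K) (F : A), IsWt H χ F → (1 : Pt K A) F ≠ 0 →
    ∃ E : A, (∀ x : Pt K A, ∀ h ∈ H, χ h * (x * h) E = x E) ∧ (1 : Pt K A) E ≠ 0

lemma IsWt.ne_zero {H : Subgroup (Pt K A)} {χ : Pt K A → K} {F : A} (hF : IsWt H χ F)
    (h1 : (1 : Pt K A) F ≠ 0) {h : Pt K A} (hh : h ∈ H) : χ h ≠ 0 := by
  intro h0
  have e1 := hF h⁻¹ h hh
  rw [inv_mul_cancel, h0, zero_mul] at e1
  exact h1 e1

end Def

section Obs

variable {K : Type u} [Field K] {A : Type u} [CommRing A] [HopfAlgebra K A]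
  [IsAlgClosed K] [Algebra.FiniteType K A] [IsReduced A]

theorem _root_.K495.ObsPt.IsObs.invExt {H : Subgroup (Pt K A)} (hH : IsObs H) : InvExt H := by
  intro χ F hF h1
  have hχ : ∀ h ∈ H, χ h ≠ 0 := fun h hh => hF.ne_zero h1 hh
  obtain ⟨a, ha, haZ, ha1⟩ := exists_sep hH (Z := {x : Pt K A | x F = 0})
    (isCl_setOf_apply_eq_zero F)
    (by
      intro z hz h hh
      change (z * h) F = 0
      rw [hF z h hh, show z F = 0 from hz, mul_zero]) h1
  have hrad : a ∈ (Ideal.span {F}).radical := by
    rw [← Groth.Agent.Sga3B.RG.vanIdeal_zeros (K := K)]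
    intro g hg
    exact haZ g (hg F (Ideal.mem_span_singleton_self F))
  obtain ⟨n, hn⟩ := hrad
  obtain ⟨E, hE⟩ := Ideal.mem_span_singleton'.1 hn
  have hpow : ∀ x : Pt K A, x (a ^ n) = x E * x F := by
    intro x; rw [← hE, Pt.apply_mul]
  have hpow' : ∀ x : Pt K A, x (a ^ n) = (x a) ^ n := fun x => map_pow x.ofConv a n
  refine ⟨a * E, ?_, ?_⟩
  · intro x h hh
    rw [Pt.apply_mul, Pt.apply_mul, ha x h hh]
    by_cases hx : x F = 0
    · rw [haZ x hx, zero_mul, zero_mul, mul_zero]
    · have e1 := hpow x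
      have e2 := hpow (x * h)
      rw [hpow', ha x h hh, ← hpow', e1, hF x h hh] at e2
      have e3 : x E = χ h * (x * h) E := by
        have : x F * (x E) = x F * (χ h * (x * h) E) := by linear_combination e2
        exact mul_left_cancel₀ hx this
      rw [e3]; ring
  · rw [Pt.apply_mul]
    refine mul_ne_zero ha1 fun h0 => ?_
    have e1 := hpow 1
    rw [h0, zero_mul, hpow'] at e1
    exact ha1 (eq_zero_of_pow_eq_zero e1)

theorem isObs_of_invExt {H : Subgroup (Pt K A)} (hcl : IsCl (H : Set (Pt K A))) (hH : InvExt H) :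
    IsObs H := by
  obtain ⟨V, _, _, _, ρ, v, hρ, hv0, hst, -⟩ := ChevLine.exists_line H hcl
  obtain ⟨ℓ, hℓ⟩ := Module.Projective.exists_dual_eq_one K hv0
  obtain ⟨F, hF⟩ := hρ ℓ v
  have hwt : ∀ h ∈ H, ρ h v = h F • v := by
    intro h hh
    obtain ⟨c, hc⟩ := (hst h).1 hh
    rw [← hF, hc, map_smul, hℓ, smul_eq_mul, mul_one]
  have hF1 : (1 : Pt K A) F = 1 := by rw [← hF, map_one, Module.End.one_apply, hℓ]
  obtain ⟨E, hE, hE1⟩ := hH (fun h => h F) F (by
    intro x h hh
    rw [← hF, map_mul, Module.End.mul_apply, hwt h hh, map_smul, map_smul, hF, smul_eq_mul])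
    (by rw [hF1]; exact one_ne_zero)
  intro g hg
  rw [inHull_iff] at hg
  have key : ∀ ℓ' : Module.Dual K V, g E * ℓ' (ρ g v) = (1 : Pt K A) E * ℓ' v := by
    intro ℓ'
    obtain ⟨a, ha⟩ := hρ ℓ' v
    have h1 : E * a ∈ rInv (H : Set (Pt K A)) := by
      intro x h hh
      rw [Pt.apply_mul, Pt.apply_mul, ← ha, ← ha, map_mul, Module.End.mul_apply, hwt h hh,
        map_smul, map_smul, smul_eq_mul, ← hE x h hh]
      ring
    have h2 := hg _ h1
    rw [Pt.apply_mul, Pt.apply_mul, ← ha, ← ha, map_one, Module.End.one_apply] at h2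
    exact h2
  have key2 : g E • ρ g v = (1 : Pt K A) E • v := by
    rw [← sub_eq_zero, ← Module.forall_dual_apply_eq_zero_iff K]
    intro ℓ'
    rw [map_sub, map_smul, map_smul, smul_eq_mul, smul_eq_mul, key ℓ', sub_self]
  have hgE : g E ≠ 0 := by
    intro h0
    rw [h0, zero_smul] at key2
    exact (smul_ne_zero hE1 hv0) key2.symm
  rw [hst]
  refine ⟨(g E)⁻¹ * (1 : Pt K A) E, ?_⟩
  rw [mul_smul, ← key2, smul_smul, inv_mul_cancel₀ hgE, one_smul]

/-- For a closed subgroup, observability is the extendibility of inverse characters. -/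
theorem isObs_iff_invExt {H : Subgroup (Pt K A)} (hcl : IsCl (H : Set (Pt K A))) :
    IsObs H ↔ InvExt H :=
  ⟨fun h => h.invExt, isObs_of_invExt hcl⟩

end Obs

section Ext

set_option linter.unusedSectionVars false

variable {K : Type u} [Field K] {A : Type u} [CommRing A] [HopfAlgebra K A]
  [IsAlgClosed K] [Algebra.FiniteType K A] [IsReduced A]
  {B : Type u} [CommRing B] [HopfAlgebra K B] [Algebra.FiniteType K B] [IsReduced B]

omit [Algebra.FiniteType K A] [IsReduced A] in
lemma map_rTr (φ : A →ₐc[K] B) (y : Pt K B) (a : A) :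
    φ (rTr (Pt.map φ y) a) = rTr y (φ a) := by
  apply eq_of_forall_pt (K := K)
  intro x
  rw [rTr_apply_pt, ← Pt.map_apply, rTr_apply_pt, ← map_mul, Pt.map_apply]

/-- The components of the embedding of a representation in a power of the regular one. -/
theorem exists_coeff {V : Type w} [AddCommGroup V] [Module K V] [FiniteDimensional K V]
    {σ : Representation K (Pt K B) V} (hσ : IsAlg σ) :
    ∃ (n : ℕ) (β : Fin n → Fin n → B) (b : Module.Basis (Fin n) K V),
      ∀ (i : Fin n) (v : V) (y : Pt K B),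
        y (∑ l, b.repr v l • β i l) = b.coord i (σ y v) := by
  let b := Module.finBasis K V
  choose β hβ using fun i l => hσ (b.coord i) (b l)
  refine ⟨_, β, b, fun i v y => ?_⟩
  rw [Pt.apply_sum]
  conv_rhs => rw [← b.sum_repr v, map_sum, map_sum]
  refine Finset.sum_congr rfl fun l _ => ?_
  rw [Pt.apply_smul, ← hβ, map_smul, map_smul, smul_eq_mul]

omit [Algebra.FiniteType K B] [IsReduced B] in
/-- Basis of a subspace as a family of vectors. -/
theorem exists_family {U : Type w} [AddCommGroup U] [Module K U] [FiniteDimensional K U]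
    (N : Submodule K U) :
    ∃ (d : ℕ) (e : Fin d → U), LinearIndependent K e ∧ Submodule.span K (Set.range e) = N := by
  let b' := Module.finBasis K N
  refine ⟨_, fun i => (b' i : U), b'.linearIndependent.map' N.subtype (Submodule.ker_subtype _), ?_⟩
  have h1 : (Set.range fun i => (b' i : U)) = N.subtype '' Set.range b' := by
    rw [← Set.range_comp]; rfl
  rw [h1, ← Submodule.map_span, b'.span_eq, Submodule.map_top, Submodule.range_subtype]

omit [Algebra.FiniteType K B] [IsReduced B] in
/-- The abstract form of the extension argument. -/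
theorem ext_aux {U : Type u} [AddCommGroup U] [Module K U] [FiniteDimensional K U]
    {ρU : Representation K (Pt K A) U} (hρU : IsAlg ρU)
    {X : Type w} [AddCommGroup X] [Module K X] (Φ : U →ₗ[K] X)
    {V : Type u} [AddCommGroup V] [Module K V] (s : V →ₗ[K] U)
    (hinj : ∀ v, Φ (s v) = 0 → v = 0) {H : Subgroup (Pt K A)} (hH : InvExt H)
    (τ : H → V → V) (heq : ∀ (h : H) v u, Φ u = Φ (s v) → Φ (ρU (h : Pt K A) u) = Φ (s (τ h v))) :
    ∃ (W : Type u) (_ : AddCommGroup W) (_ : Module K W) (_ : FiniteDimensional K W)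
      (ρ : Representation K (Pt K A) W) (f : V →ₗ[K] W), IsAlg ρ ∧ Function.Injective f ∧
      ∀ (h : H) (v : V), f (τ h v) = ρ h (f v) := by
  classical
  obtain ⟨d, e, he, hespan⟩ := exists_family (K := K) (LinearMap.ker Φ)
  have hker : ∀ u, wedge (K := K) e u = 0 ↔ Φ u = 0 := by
    intro u
    rw [← LinearMap.mem_ker, ker_wedge he, hespan, LinearMap.mem_ker]
  have heker : ∀ i, Φ (e i) = 0 := by
    intro i
    rw [← LinearMap.mem_ker, ← hespan]
    exact Submodule.subset_span ⟨i, rfl⟩
  have hτ0 : ∀ h, τ h 0 = 0 := by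
    intro h
    apply hinj
    have := heq h 0 0 (by rw [map_zero, map_zero, map_zero])
    rw [map_zero, map_zero] at this
    exact this.symm
  -- the action on the kernel
  have hM : ∀ h : H, ∃ M : Matrix (Fin d) (Fin d) K, ∀ i, ρU (h : Pt K A) (e i) = ∑ l, M i l • e l := by
    intro h
    have h1 : ∀ i, ∃ c : Fin d → K, ∑ l, c l • e l = ρU (h : Pt K A) (e i) := by
      intro i
      have h2 := heq h 0 (e i) (by rw [heker, map_zero, map_zero])
      rw [hτ0, map_zero, map_zero, ← LinearMap.mem_ker, ← hespan] at h2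
      exact (Submodule.mem_span_range_iff_exists_fun K).1 h2
    choose c hc using h1
    exact ⟨fun i l => c i l, fun i => (hc i).symm⟩
  choose M hM using hM
  -- the weight function
  have hω0 : exteriorPower.ιMulti K d e ≠ 0 := ιMulti_ne_zero he
  obtain ⟨ℓ, hℓ⟩ := Module.Projective.exists_dual_eq_one K hω0
  obtain ⟨F, hF⟩ := isAlg_extRep hρU d ℓ (exteriorPower.ιMulti K d e)
  have hωM : ∀ h : H, extRep ρU d (h : Pt K A) (exteriorPower.ιMulti K d e) =
      (M h).det • exteriorPower.ιMulti K d e := fun h => extRep_ιMulti_eq ρU (hM h)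
  have hFM : ∀ h : H, (h : Pt K A) F = (M h).det := by
    intro h
    rw [← hF, hωM, map_smul, hℓ, smul_eq_mul, mul_one]
  obtain ⟨E, hE, hE1⟩ := hH (fun h => h F) F (by
    intro x h hh
    rw [← hF, map_mul, Module.End.mul_apply, hωM ⟨h, hh⟩, map_smul, map_smul, hF, smul_eq_mul]
    congr 1
    exact (hFM ⟨h, hh⟩).symm)
    (by rw [← hF, map_one, Module.End.one_apply, hℓ]; exact one_ne_zero)
  have hEr : ∀ h : H, (M h).det • rTr (h : Pt K A) E = E := by
    intro h
    apply eq_of_forall_pt (K := K)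
    intro x
    rw [Pt.apply_smul, rTr_apply_pt, ← hFM]
    exact hE x _ h.2
  have hE0 : E ≠ 0 := by rintro rfl; exact hE1 (Pt.apply_zero _)
  -- a finite-dimensional stable subspace containing `E`
  obtain ⟨W₂, hW₂, hEW, hWst, -⟩ := exists_stable (K := K) (Submodule.span K {E})
  have hEW' : E ∈ W₂ := hEW (Submodule.mem_span_singleton_self E)
  let ρ₂ : Representation K (Pt K A) W₂ := (rTrRep K A).subrepresentation W₂ hWst
  have hρ₂ : IsAlg ρ₂ := (isAlg_rTrRep K A).subrepresentation W₂ hWst
  obtain ⟨E', hE'⟩ : ∃ E' : W₂, (E' : A) = E := ⟨⟨E, hEW'⟩, rfl⟩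
  have hE'0 : E' ≠ 0 := by
    rintro rfl
    exact hE0 hE'.symm
  have hE'r : ∀ h : H, (M h).det • ρ₂ (h : Pt K A) E' = E' := fun h =>
    Subtype.ext (by
      change (M h).det • rTr (h : Pt K A) (E' : A) = (E' : A)
      rw [hE']
      exact hEr h)
  have hf1 : ∀ (h : H) (v : V), extRep ρU (d + 1) (h : Pt K A) (wedge (K := K) e (s v)) =
      (M h).det • wedge (K := K) e (s (τ h v)) := by
    intro h v
    rw [extRep_wedge ρU (hM h)]
    congr 1
    rw [← sub_eq_zero, ← map_sub, hker, map_sub, heq h v (s v) rfl, sub_self]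
  refine ⟨(⋀[K]^(d + 1) U) ⊗[K] W₂, inferInstance, inferInstance, inferInstance,
    (extRep ρU (d + 1)).tprod ρ₂,
    (TensorProduct.mk K (⋀[K]^(d + 1) U) W₂).flip E' ∘ₗ wedge (K := K) e ∘ₗ s,
    (isAlg_extRep hρU _).tprod hρ₂, ?_, ?_⟩
  · rw [injective_iff_map_eq_zero]
    intro v hv
    rw [LinearMap.comp_apply, LinearMap.comp_apply, LinearMap.flip_apply,
      TensorProduct.mk_apply] at hv
    obtain ⟨m, hm⟩ := Module.Projective.exists_dual_eq_one K hE'0
    have h1 := congrArg (fun t => TensorProduct.rid K _ (LinearMap.lTensor _ m t)) hv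
    simp only [LinearMap.lTensor_tmul, TensorProduct.rid_tmul, hm, one_smul, map_zero] at h1
    exact hinj v ((hker _).1 h1)
  · intro h v
    rw [LinearMap.comp_apply, LinearMap.comp_apply, LinearMap.flip_apply,
      TensorProduct.mk_apply, LinearMap.comp_apply, LinearMap.comp_apply, LinearMap.flip_apply,
      TensorProduct.mk_apply, Representation.tprod_apply, TensorProduct.map_tmul, hf1,
      TensorProduct.smul_tmul, hE'r]

/-- **Extension of representations.**  If inverses of extendible characters of the closed subgroup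
`H` are extendible, every finite-dimensional algebraic representation of `H` is a subrepresentation
of the restriction of a finite-dimensional algebraic representation of the whole group. -/
theorem exists_ext {φ : A →ₐc[K] B} (hφ : Function.Surjective φ)
    (hH : InvExt (Pt.map φ).range) {V : Type u} [AddCommGroup V] [Module K V]
    [FiniteDimensional K V] {σ : Representation K (Pt K B) V} (hσ : IsAlg σ) :
    ∃ (W : Type u) (_ : AddCommGroup W) (_ : Module K W) (_ : FiniteDimensional K W)
      (ρ : Representation K (Pt K A) W) (f : V →ₗ[K] W), IsAlg ρ ∧ Function.Injective f ∧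
      ∀ (y : Pt K B) (v : V), f (σ y v) = ρ (Pt.map φ y) (f v) := by
  classical
  obtain ⟨n, β, b, hβ⟩ := exists_coeff hσ
  choose α hα using fun i l => hφ (β i l)
  -- a finite-dimensional stable subspace containing the `α i l`
  let S : Submodule K A := Submodule.span K (Set.range fun p : Fin n × Fin n => α p.1 p.2)
  have hSfin : FiniteDimensional K S :=
    FiniteDimensional.span_of_finite K (Set.finite_range _)
  obtain ⟨U₀, hU₀, hSU, hUst, -⟩ := exists_stable (K := K) S
  let ρ₀ : Representation K (Pt K A) U₀ := (rTrRep K A).subrepresentation U₀ hUst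
  have hρ₀ : IsAlg ρ₀ := (isAlg_rTrRep K A).subrepresentation U₀ hUst
  let ρU : Representation K (Pt K A) (Fin n → U₀) :=
    { toFun := fun g => LinearMap.pi fun i => ρ₀ g ∘ₗ LinearMap.proj i
      map_one' := LinearMap.ext fun v => funext fun i => by simp
      map_mul' := fun g h => LinearMap.ext fun v => funext fun i => by simp }
  have hρU' : ∀ g v i, ρU g v i = ρ₀ g (v i) := fun g v i => rfl
  have hρU : IsAlg ρU := isAlg_finite_pi hρ₀ hρU'
  -- the comparison map
  let Φ : (Fin n → U₀) →ₗ[K] (Fin n → B) :=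
    LinearMap.pi fun i => (φ : A →ₐ[K] B).toLinearMap ∘ₗ U₀.subtype ∘ₗ LinearMap.proj i
  have hΦ : ∀ u i, Φ u i = φ (u i : A) := fun u i => rfl
  have hα' : ∀ i l, α i l ∈ U₀ := fun i l => hSU (Submodule.subset_span ⟨(i, l), rfl⟩)
  let s : V →ₗ[K] (Fin n → U₀) := LinearMap.pi fun i =>
    ∑ l, (b.coord l).smulRight (⟨α i l, hα' i l⟩ : U₀)
  have hs : ∀ v i, ((s v i : U₀) : A) = ∑ l, b.repr v l • α i l := by
    intro v i
    simp [s]
  have hj : ∀ v i, Φ (s v) i = ∑ l, b.repr v l • β i l := by
    intro v i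
    rw [hΦ, hs]
    change (φ : A →ₐ[K] B) _ = _
    rw [map_sum]
    refine Finset.sum_congr rfl fun l _ => ?_
    rw [map_smul]
    congr 1
    exact hα i l
  have hjinj : ∀ v, Φ (s v) = 0 → v = 0 := by
    intro v hv
    apply b.ext_elem
    intro i
    have h1 := hβ i v 1
    rw [← hj, hv, Pi.zero_apply, Pt.apply_zero, map_one, Module.End.one_apply] at h1
    rw [map_zero, Finsupp.zero_apply]
    exact h1.symm
  have hjeq : ∀ (y : Pt K B) v u, Φ u = Φ (s v) → Φ (ρU (Pt.map φ y) u) = Φ (s (σ y v)) := by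
    intro y v u hu
    funext i
    rw [hΦ, hρU']
    change φ (rTr (Pt.map φ y) (u i : A)) = _
    rw [map_rTr, ← hΦ, hu]
    apply eq_of_forall_pt (K := K)
    intro x
    rw [rTr_apply_pt, hj, hj, hβ, hβ, map_mul, Module.End.mul_apply]
  have hinjφ := Pt.map_injective (K := K) hφ
  choose inv hinv using fun h : (Pt.map (K := K) φ).range => h.2
  obtain ⟨W, _, _, _, ρ, f, h1, h2, h3⟩ := ext_aux hρU Φ s hjinj hH
    (fun h v => σ (inv h) v) (by
      intro h v u hu
      rw [← hjeq (inv h) v u hu, hinv])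
  refine ⟨W, inferInstance, inferInstance, inferInstance, ρ, f, h1, h2, fun y v => ?_⟩
  have h4 := h3 ⟨Pt.map φ y, ⟨y, rfl⟩⟩ v
  have h5 : inv ⟨Pt.map φ y, ⟨y, rfl⟩⟩ = y := hinjφ (hinv _)
  rw [h5] at h4
  exact h4

end Ext

end K495.ObsExt
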