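import Groth.Agent.AGF.K495.ObsExt

/-!
# Observable subgroups: formal properties

* `isObs_of_compl`: closed subgroups with closed complement are observable;
* `IsObs.comp`, `IsObs.restrict`: transitivity and restriction;
* `IsObs.of_relIndex`: a subgroup containing an observable subgroup with finite index is observable;
* `exists_restrict`: surjectivity of the restriction of invariant functions to an observable subgroup.
-/

set_option autoImplicit false
set_option linter.unusedSectionVars false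

universe u w w'

open WithConv TensorProduct Coalgebra

namespace K495.ObsMore

open Groth.Agent.Sga3B.RG K495.ObsPt K495.ObsSep K495.ObsExt

variable {K : Type u} [Field K] {A : Type u} [CommRing A] [HopfAlgebra K A]
  [IsAlgClosed K] [Algebra.FiniteType K A] [IsReduced A]
  {B : Type u} [CommRing B] [HopfAlgebra K B] [Algebra.FiniteType K B] [IsReduced B]

/-- Two disjoint closed sets are separated by a function. -/
theorem exists_sep_of_disjoint {X Y : Set (Pt K A)} (hX : IsCl X) (hY : IsCl Y)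
    (h : Disjoint X Y) : ∃ a : A, (∀ x ∈ X, x a = 1) ∧ ∀ y ∈ Y, y a = 0 := by
  have h1 : vanIdeal X ⊔ vanIdeal Y = ⊤ := by
    by_contra hne
    obtain ⟨f, hf⟩ := exists_algHom_of_ne_top (K := K) hne
    have h2 : (toConv f : Pt K A) ∈ X := hX fun a ha => hf a (Ideal.mem_sup_left ha)
    have h3 : (toConv f : Pt K A) ∈ Y := hY fun a ha => hf a (Ideal.mem_sup_right ha)
    exact Set.disjoint_left.1 h h2 h3
  have h2 : (1 : A) ∈ vanIdeal X ⊔ vanIdeal Y := by rw [h1]; trivial
  obtain ⟨i, hi, j, hj, hij⟩ := Submodule.mem_sup.1 h2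
  refine ⟨j, fun x hx => ?_, fun y hy => hj y hy⟩
  have h3 := Pt.apply_one x
  rw [← hij, Pt.apply_add, hi x hx, zero_add] at h3
  exact h3

/-- A closed subgroup with closed complement is observable. -/
theorem isObs_of_compl {H : Subgroup (Pt K A)} (hH : IsCl (H : Set (Pt K A)))
    (hH' : IsCl ((H : Set (Pt K A))ᶜ)) : IsObs H := by
  obtain ⟨a, ha1, ha0⟩ := exists_sep_of_disjoint hH hH' disjoint_compl_right
  have ha : a ∈ rInv (H : Set (Pt K A)) := by
    intro x h hh
    by_cases hx : x ∈ H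
    · rw [ha1 x hx, ha1 _ (H.mul_mem hx hh)]
    · rw [ha0 x hx, ha0 _ (fun h' => hx ((H.mul_mem_cancel_right hh).1 h'))]
  intro g hg
  by_contra hne
  have h1 := inHull_iff.1 hg a ha
  rw [ha0 g hne, ha1 1 H.one_mem] at h1
  exact zero_ne_one h1

/-- **Transitivity.** -/
theorem _root_.K495.ObsPt.IsObs.comp {φ : A →ₐc[K] B} (hφ : Function.Surjective φ)
    {H : Subgroup (Pt K B)} (hH : IsObs H) (hG : IsObs (Pt.map (K := K) φ).range) :
    IsObs (H.map (Pt.map φ)) := by
  obtain ⟨V, _, _, _, σ, v, hσ, hv⟩ := hH.exists_vec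
  obtain ⟨W, _, _, _, ρ, f, hρ, hf, hfe⟩ := exists_ext hφ hG.invExt hσ
  intro g hg
  have h1 : g ∈ (Pt.map (K := K) φ).range := by
    apply hG
    intro a ha x
    refine hg a (rInv_anti ?_ ha) x
    rintro _ ⟨y, -, rfl⟩
    exact ⟨y, rfl⟩
  obtain ⟨y, rfl⟩ := h1
  refine ⟨y, ?_, rfl⟩
  have h2 : ρ (Pt.map φ y) (f v) = f v := by
    refine fixed_of_hull hρ ?_ hg
    rintro _ ⟨z, hz, rfl⟩
    rw [← hfe, (hv z).1 hz]
  rw [← hfe] at h2
  exact (hv y).2 (hf h2)

/-- A subgroup of `H` observable in the whole group is observable in `H`. -/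
theorem isObs_of_map {φ : A →ₐc[K] B} (hφ : Function.Surjective φ)
    {H : Subgroup (Pt K B)} (hH : IsObs (H.map (Pt.map φ))) : IsObs H := by
  intro g hg
  have h1 : Pt.map φ g ∈ H.map (Pt.map φ) := by
    apply hH
    rw [inHull_iff]
    intro a ha
    have h2 : φ a ∈ rInv (H : Set (Pt K B)) := by
      intro x h hh
      rw [← Pt.map_apply, ← Pt.map_apply, map_mul]
      exact ha _ _ ⟨h, hh, rfl⟩
    have h3 := (inHull_iff.1 hg) _ h2
    rw [← Pt.map_apply, ← Pt.map_apply, map_one] at h3
    exact h3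
  obtain ⟨y, hy, hyg⟩ := h1
  rwa [Pt.map_injective hφ hyg] at hy

/-- Interpolation: an algebra of functions separating finitely many points takes prescribed
values `0` and `1` on two disjoint finite sets. -/
theorem exists_interp (R : Subalgebra K A) {ι κ : Type*} [Finite ι] [Finite κ]
    (p : ι → Pt K A) (q : κ → Pt K A) (h : ∀ i j, ∃ r ∈ R, p i r ≠ q j r) :
    ∃ r ∈ R, (∀ i, p i r = 0) ∧ ∀ j, q j r = 1 := by
  classical
  have := Fintype.ofFinite ι
  have := Fintype.ofFinite κ
  have h1 : ∀ i j, ∃ r ∈ R, p i r = 0 ∧ q j r = 1 := by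
    intro i j
    obtain ⟨r, hr, hne⟩ := h i j
    refine ⟨(q j r - p i r)⁻¹ • (r - algebraMap K A (p i r)),
      R.smul_mem (R.sub_mem hr (R.algebraMap_mem _)) _, ?_, ?_⟩
    · rw [Pt.apply_smul, Pt.apply_sub, Pt.apply_algebraMap, sub_self, mul_zero]
    · rw [Pt.apply_smul, Pt.apply_sub, Pt.apply_algebraMap]
      exact inv_mul_cancel₀ (sub_ne_zero.2 (Ne.symm hne))
  choose r hrR hr0 hr1 using h1
  -- for each `j` a function vanishing at all `p i` and equal to `1` at `q j`
  have h2 : ∀ j, ∃ s ∈ R, (∀ i, p i s = 0) ∧ q j s = 1 := by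
    intro j
    refine ⟨∏ i, r i j, R.prod_mem fun i _ => hrR i j, fun i => ?_, ?_⟩
    · have : p i (∏ i, r i j) = ∏ i', p i (r i' j) := map_prod (p i).ofConv _ _
      rw [this]
      exact Finset.prod_eq_zero (Finset.mem_univ i) (hr0 i j)
    · have : q j (∏ i, r i j) = ∏ i', q j (r i' j) := map_prod (q j).ofConv _ _
      rw [this]
      exact Finset.prod_eq_one fun i _ => hr1 i j
  choose s hsR hs0 hs1 using h2
  refine ⟨1 - ∏ j, (1 - s j), R.sub_mem R.one_mem (R.prod_mem fun j _ =>
    R.sub_mem R.one_mem (hsR j)), fun i => ?_, fun j => ?_⟩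
  · have : p i (∏ j, (1 - s j)) = ∏ j, p i (1 - s j) := map_prod (p i).ofConv _ _
    rw [Pt.apply_sub, Pt.apply_one, this]
    rw [Finset.prod_eq_one fun j _ => by rw [Pt.apply_sub, Pt.apply_one, hs0, sub_zero], sub_self]
  · have : q j (∏ j, (1 - s j)) = ∏ j', q j (1 - s j') := map_prod (q j).ofConv _ _
    rw [Pt.apply_sub, Pt.apply_one, this]
    rw [Finset.prod_eq_zero (Finset.mem_univ j) (by rw [Pt.apply_sub, Pt.apply_one, hs1, sub_self]),
      sub_zero]

/-- A subgroup containing an observable subgroup with finite index is observable. -/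
theorem _root_.K495.ObsPt.IsObs.of_relIndex {H' H : Subgroup (Pt K A)} (hle : H' ≤ H)
    (hfin : H'.relIndex H ≠ 0) (hH' : IsObs H') : IsObs H := by
  classical
  have : Finite (H ⧸ H'.subgroupOf H) := by
    rw [← Subgroup.index_ne_zero_iff_finite]; exact hfin
  have := Fintype.ofFinite (H ⧸ H'.subgroupOf H)
  let c : H ⧸ H'.subgroupOf H → Pt K A := fun q => ((q.out : H) : Pt K A)
  have hc : ∀ q, c q ∈ H := fun q => (q.out : H).2
  intro g hg
  by_contra hne
  obtain ⟨F, hFR, hF0, hF1⟩ := exists_interp (rInv (H' : Set (Pt K A)))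
    (fun q => c q) (fun q => g * c q) (by
      intro q q'
      by_contra! hcon
      have h1 := hH'.mem_of_eq hcon
      have h2 := H.mul_mem (H.mul_mem (hc q) (hle h1)) (H.inv_mem (hc q'))
      apply hne
      have h3 : c q * ((c q)⁻¹ * (g * c q')) * (c q')⁻¹ = g := by group
      rwa [h3] at h2)
  -- the product of the translates
  let f : A := ∏ q, rTr (c q) F
  have hf : ∀ x : Pt K A, x f = ∏ q, (x * c q) F := by
    intro x
    have h1 : x f = ∏ q, x (rTr (c q) F) := map_prod x.ofConv _ _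
    rw [h1]
    exact Finset.prod_congr rfl fun q _ => rTr_apply_pt _ _ _
  have hfH : f ∈ rInv (H : Set (Pt K A)) := by
    intro x h hh
    rw [hf, hf]
    let h₀ : H := ⟨h, hh⟩
    refine Fintype.prod_equiv (MulAction.toPerm h₀) _ _ fun q => ?_
    have h1 : (QuotientGroup.mk (h₀ * q.out) : H ⧸ H'.subgroupOf H) = h₀ • q := by
      conv_rhs => rw [← QuotientGroup.out_eq' q]
      rfl
    have h2 : (h₀ • q).out⁻¹ * (h₀ * q.out) ∈ H'.subgroupOf H := by
      rw [← QuotientGroup.eq, h1]
      exact QuotientGroup.out_eq' _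
    have h3 : (c (h₀ • q))⁻¹ * (h * c q) ∈ H' := h2
    have h4 := hFR (x * c (h₀ • q)) _ h3
    rw [MulAction.toPerm_apply, ← h4]
    congr 2
    group
  have h1 := (inHull_iff.1 hg) f hfH
  rw [hf, hf] at h1
  rw [Finset.prod_eq_one fun q _ => hF1 q, Finset.prod_eq_zero (Finset.mem_univ
    (QuotientGroup.mk 1)) (by rw [one_mul]; exact hF0 _)] at h1
  exact one_ne_zero h1

/-- **Surjectivity of restriction.**  Let the closed subgroup `φ` satisfy `InvExt` (be
observable) and `L` be a subgroup of it: every right `L`-invariant function on the subgroup is the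
restriction of a right `L`-invariant function on the whole group. -/
theorem exists_restrict {φ : A →ₐc[K] B} (hφ : Function.Surjective φ)
    (hG : InvExt (Pt.map (K := K) φ).range) {L : Set (Pt K B)} {b : B} (hb : b ∈ rInv L) :
    ∃ a ∈ rInv (Pt.map φ '' L), φ a = b := by
  classical
  -- the left translates of `b`
  obtain ⟨U, hU, hbU, -, hUst⟩ := exists_stable (K := K) (Submodule.span K {b})
  let M : Submodule K B := U ⊓ Subalgebra.toSubmodule (rInv L)
  have hM : FiniteDimensional K M := Submodule.finiteDimensional_inf_left _ _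
  have hMst : ∀ g : Pt K B, M ≤ M.comap (lTrRep K B g) := fun g a ha =>
    ⟨hUst g ha.1, lTr_mem_rInv ha.2 g⟩
  have hbM : b ∈ M := ⟨hbU (Submodule.mem_span_singleton_self b), hb⟩
  let σ : Representation K (Pt K B) M := (lTrRep K B).subrepresentation M hMst
  have hσ : IsAlg σ := (isAlg_lTrRep K B).subrepresentation M hMst
  obtain ⟨W, _, _, _, ρ, f, hρ, hf, hfe⟩ := exists_ext hφ hG hσ.dual
  -- the evaluation at `1`
  let ev : Module.Dual K M := (counit (R := K) (A := B)) ∘ₗ M.subtype
  -- a vector of the dual of `W` restricting to `b`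
  obtain ⟨w, hw⟩ : ∃ w : Module.Dual K W, ∀ m : Module.Dual K M, w (f m) = m ⟨b, hbM⟩ := by
    obtain ⟨r, hr⟩ := f.exists_leftInverse_of_injective (LinearMap.ker_eq_bot.2 hf)
    refine ⟨(Module.Dual.eval K M ⟨b, hbM⟩) ∘ₗ r, fun m => ?_⟩
    have := LinearMap.congr_fun hr m
    rw [LinearMap.comp_apply, LinearMap.id_apply] at this
    rw [LinearMap.comp_apply, this]
    rfl
  obtain ⟨a, ha⟩ := hρ w (f ev)
  have hev : ∀ (y : Pt K B) (m : M), σ.dual y ev m = y (m : B) := by
    intro y m
    change counit (R := K) (lTr y⁻¹ (m : B)) = _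
    rw [← Pt.one_apply (K := K), lTr_apply_pt, inv_inv, mul_one]
  have hevL : ∀ l ∈ L, σ.dual l ev = ev := by
    intro l hl
    ext m
    rw [hev]
    change _ = counit (R := K) (m : B)
    rw [← Pt.one_apply (K := K)]
    have h1 := m.2.2 1 l hl
    rwa [one_mul] at h1
  refine ⟨a, ?_, ?_⟩
  · rintro x _ ⟨l, hl, rfl⟩
    rw [← ha, ← ha, map_mul, Module.End.mul_apply, ← hfe, hevL l hl]
  · apply eq_of_forall_pt (K := K)
    intro y
    rw [← Pt.map_apply, ← ha, ← hfe, hw, hev]

end K495.ObsMore
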