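import Groth.Agent.AGF.K495.Bridge2
import Groth.Agent.AGF.K495.ObsMore
import Groth.Agent.Localalg.GrpSchPts

/-!
# Open subgroups

* `index_ne_zero`: a subgroup of the group of points with closed complement has finite index;
* `isClosedImmersion_of_open`: an open subgroup scheme is closed;
* `isCl_compl_psub`: the points of an open subgroup have closed complement.
-/

set_option autoImplicit false
set_option linter.unusedSectionVars false

universe u

namespace K495.OpenSub

section points

open WithConv TensorProduct Coalgebra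
open Groth.Agent.Sga3B.RG K495.ObsPt

variable {K : Type u} [Field K] {A : Type u} [CommRing A] [HopfAlgebra K A]
  [IsAlgClosed K] [Algebra.FiniteType K A] [IsReduced A]

/-- A subgroup with closed complement has finite index. -/
theorem index_ne_zero {N : Subgroup (Pt K A)} (hN : IsCl ((N : Set (Pt K A))ᶜ)) : N.index ≠ 0 := by
  classical
  let T : Set A := {t | ∃ (g : Pt K A) (a : A), a ∈ vanIdeal ((N : Set (Pt K A))ᶜ) ∧ t = lTr g a}
  have h1 : Ideal.span T = ⊤ := by
    by_contra hne
    obtain ⟨f, hf⟩ := exists_algHom_of_ne_top (K := K) hne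
    let p : Pt K A := toConv f
    have h2 : (1 : Pt K A) ∈ zeros (vanIdeal ((N : Set (Pt K A))ᶜ)) := by
      intro a ha
      have h3 : p (lTr p a) = 0 := hf _ (Ideal.subset_span ⟨p, a, ha, rfl⟩)
      rwa [lTr_apply_pt, inv_mul_cancel] at h3
    exact hN h2 N.one_mem
  have h2 : (1 : A) ∈ Submodule.span A T := by
    change (1 : A) ∈ Ideal.span T
    rw [h1]; trivial
  obtain ⟨T', hT', h3⟩ := Submodule.mem_span_finite_of_mem_span h2
  have h4 : ∀ t : T', ∃ (g : Pt K A) (a : A), a ∈ vanIdeal ((N : Set (Pt K A))ᶜ) ∧ (t : A) = lTr g a :=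
    fun t => hT' t.2
  choose g a ha hga using h4
  have h5 : Function.Surjective (fun t : T' => (QuotientGroup.mk (g t) : Pt K A ⧸ N)) := by
    intro q
    obtain ⟨p, rfl⟩ := QuotientGroup.mk_surjective q
    by_contra! hcon
    have h6 : ∀ b ∈ Submodule.span A (T' : Set A), p b = 0 := by
      intro b hb
      induction hb using Submodule.span_induction with
      | mem c hc =>
        have h7 := hcon ⟨c, hc⟩
        have h8 : (g ⟨c, hc⟩)⁻¹ * p ∉ N := fun h => h7 (QuotientGroup.eq.2 h)
        have h9 := ha ⟨c, hc⟩ _ h8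
        rw [show c = lTr (g ⟨c, hc⟩) (a ⟨c, hc⟩) from hga ⟨c, hc⟩, lTr_apply_pt]
        exact h9
      | zero => exact Pt.apply_zero p
      | add x y _ _ hx hy => rw [Pt.apply_add, hx, hy, add_zero]
      | smul x y _ hy => rw [smul_eq_mul, Pt.apply_mul, hy, mul_zero]
    have h7 := h6 1 h3
    rw [Pt.apply_one] at h7
    exact one_ne_zero h7
  have : Finite (Pt K A ⧸ N) := Finite.of_surjective _ h5
  exact Subgroup.index_ne_zero_iff_finite.2 this

end points

section schemes

open CategoryTheory MonoidalCategory CartesianMonoidalCategory MonObj GrpObj AlgebraicGeometry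
open Groth.Agent.Books.AffBridge Groth.Agent.Books.AffBridge2
open Groth.Agent.Sga3B.RG Groth.Agent.Sga3B.RG.BrPts K495.ObsPt K495.Bridge K495.ObsSep

variable {k : Type u} [Field k]

/-- Open subgroup schemes are closed. -/
theorem isClosedImmersion_of_open {G H : Over (Spec (CommRingCat.of k))} [GrpObj G] [GrpObj H]
    (i : H ⟶ G) [IsMonHom i] [IsOpenImmersion i.left] : IsClosedImmersion i.left := by
  have h1 : IsClosed (Set.range i.left) :=
    (Groth.Agent.Localalg.GrpSchPts.isSubgroupSet_range G i).isClosed_of_isOpen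
      i.left.isOpenEmbedding.isOpen_range
  exact IsClosedImmersion.of_isPreimmersion _ h1

variable [IsAlgClosed k] {A : Type u} [CommRing A] [HopfAlgebra k A]
  {G : Over (Spec (CommRingCat.of k))} [GrpObj G] (e : G ≅ SpecOver k A) [IsMonHom e.hom]
  {H : Over (Spec (CommRingCat.of k))} [GrpObj H] (i : H ⟶ G) [IsMonHom i]

lemma isAffine_of_open [IsAffine G.left] [IsOpenImmersion i.left] : IsAffine H.left := by
  have := isClosedImmersion_of_open i
  exact isAffine_of_isAffineHom i.left

lemma smooth_of_open [Smooth G.hom] [IsOpenImmersion i.left] : Smooth H.hom := by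
  rw [← Over.w i]
  infer_instance

theorem isCl_compl_psub [IsAffine G.left] [Smooth H.hom] [IsClosedImmersion i.left]
    [IsOpenImmersion i.left] : IsCl ((psub e i : Set (Pt k A))ᶜ) := by
  obtain ⟨C, _, _, e', _, φ, _, _, hφ, hi⟩ := exists_hom_data e i
  have h1 : IsOpen (Set.range (PrimeSpectrum.comap (φ : A →ₐ[k] C).toRingHom)) := by
    have h2 : IsIso e.hom.left := (Over.forget _).map_isIso e.hom
    have h3 : IsIso e'.inv.left := (Over.forget _).map_isIso e'.inv
    have h4 : specMap k (φ : A →ₐ[k] C) = e'.inv ≫ i ≫ e.hom := by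
      rw [hi, Iso.inv_hom_id_assoc]
    have h5 : IsOpenImmersion (specMap k (φ : A →ₐ[k] C)).left := by
      rw [h4, Over.comp_left, Over.comp_left]
      infer_instance
    exact (specMap k (φ : A →ₐ[k] C)).left.isOpenEmbedding.isOpen_range
  rw [range_comap_of_surjective _ _ hφ, ← isClosed_compl_iff,
    PrimeSpectrum.isClosed_iff_zeroLocus] at h1
  obtain ⟨S, hS⟩ := h1
  have key : ∀ p : Pt k A, p ∉ psub e i ↔ pp p ∈ PrimeSpectrum.zeroLocus S := by
    intro p
    rw [← hS, psub_eq_range e i e' φ hi, ← SetLike.mem_coe, Pt.range_map hφ, Set.mem_compl_iff,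
      not_iff_not]
    exact Iff.rfl
  intro p hp hp2
  refine (key p).2 (fun s hs => hp s fun q hq => ?_) hp2
  exact (key q).1 hq hs

end schemes

end K495.OpenSub
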