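import Groth.Agent.AGF.K495.Bridge2
import Groth.Agent.AGF.K495.ObsExt
import Groth.Prelude.Def_GmPts

/-!
# Characters of a smooth affine group and group-like functions on points
-/

set_option autoImplicit false
set_option linter.unusedSectionVars false

universe u

open CategoryTheory MonoidalCategory CartesianMonoidalCategory MonObj GrpObj AlgebraicGeometry
open scoped TensorProduct

namespace K495.Chars

open Groth.Agent.Books.AffBridge Groth.Agent.Books.AffBridge2
open Groth.Agent.Sga3B.RG Groth.Agent.Sga3B.RG.BrPts K495.ObsPt K495.Bridge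

section units

variable {K : Type u} [Field K] {A : Type u} [CommRing A] [HopfAlgebra K A]
  [IsAlgClosed K] [Algebra.FiniteType K A] [_root_.IsReduced A]

/-- A function multiplicative on points is invertible. -/
lemma isUnit_of_mul {c : A} (h1 : (1 : Pt K A) c = 1)
    (hc : ∀ y z : Pt K A, (y * z) c = y c * z c) : IsUnit c := by
  rw [isUnit_iff_exists_inv]
  refine ⟨HopfAlgebra.antipode K c, ?_⟩
  apply eq_of_forall_pt (K := K)
  intro g
  rw [Pt.apply_mul, Pt.apply_one, ← Pt.inv_apply, ← hc, mul_inv_cancel, h1]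

end units

variable {k : Type u} [Field k] [IsAlgClosed k] {C : Type u} [CommRing C] [HopfAlgebra k C]
  {H : Over (Spec (CommRingCat.of k))} [GrpObj H] [IsAffine H.left] [Smooth H.hom]
  (e : H ≅ SpecOver k C) [IsMonHom e.hom]

lemma ev_mul_fn (x y : VecGrp.pt k k ⟶ H) (f : Γ(H.left, ⊤)) :
    ev (x * y) f = (ptE e k x * ptE e k y) (fn e f) := by
  rw [ev_fn e, map_mul]

/-- A homomorphism to the multiplicative group from a group-like unit. -/
theorem exists_char {c : C} (h1 : (1 : Pt k C) c = 1) (hu : IsUnit c)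
    (hc : ∀ y z : Pt k C, (y * z) c = y c * z c) :
    ∃ χ : H ⟶ Red.Gm (Spec (CommRingCat.of k)), IsMonHom χ ∧ fn e (Red.gmFn χ) = c := by
  let v : (Γ(H.left, ⊤))ˣ := (hu.map (fn e).symm).unit
  have hv : (v : Γ(H.left, ⊤)) = (fn e).symm c := rfl
  let χ : H ⟶ Red.Gm (Spec (CommRingCat.of k)) := GmPts.ptOfUnit v
  have hχ : Red.gmFn χ = (fn e).symm c := by rw [GmPts.gmFn_ptOfUnit, hv]
  have hrg : Red.gmFn (1 : 𝟙_ (Over (Spec (CommRingCat.of k))) ⟶ Red.Gm (Spec (CommRingCat.of k))) = 1 :=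
    GmPts.gmFn_one
  have hred1 : AlgebraicGeometry.IsReduced (𝟙_ (Over (Spec (CommRingCat.of k)))).left :=
    inferInstanceAs (AlgebraicGeometry.IsReduced (Spec (CommRingCat.of k)))
  have haff1 : IsAffine (𝟙_ (Over (Spec (CommRingCat.of k)))).left :=
    inferInstanceAs (IsAffine (Spec (CommRingCat.of k)))
  have hft1 : LocallyOfFiniteType (𝟙_ (Over (Spec (CommRingCat.of k)))).hom :=
    inferInstanceAs (LocallyOfFiniteType (𝟙 (Spec (CommRingCat.of k))))
  have hred : AlgebraicGeometry.IsReduced (H ⊗ H).left :=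
    Groth.Agent.Books.AlgPtsSmooth.isReduced_of_smooth (H ⊗ H)
  refine ⟨χ, ?_, by rw [hχ, RingEquiv.apply_symm_apply]⟩
  constructor
  · apply GmPts.gmFn_injective
    dsimp only
    rw [GmPts.gmFn_comp, show η[Red.Gm (Spec (CommRingCat.of k))] =
      (1 : 𝟙_ (Over (Spec (CommRingCat.of k))) ⟶ Red.Gm (Spec (CommRingCat.of k))) from by
        rw [Hom.one_def, toUnit_unit, Category.id_comp], hrg, hχ]
    apply section_ext
    intro z
    rw [← ev_comp, ev_fn e, RingEquiv.apply_symm_apply]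
    have h2 : z ≫ η[H] = 1 := by
      rw [Hom.one_def]
      congr 1
      exact toUnit_unique _ _
    rw [h2, map_one]
    refine h1.trans ?_
    rw [ev, map_one]
    exact (map_one _).symm
  · apply GmPts.gmFn_injective
    dsimp only
    have h2 : (χ ⊗ₘ χ) ≫ μ[Red.Gm (Spec (CommRingCat.of k))] =
        (fst H H ≫ χ) * (snd H H ≫ χ) := by
      rw [Hom.mul_def]
      congr 1
    rw [h2, GmPts.gmFn_mul, GmPts.gmFn_comp, GmPts.gmFn_comp, GmPts.gmFn_comp, hχ]
    apply section_ext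
    intro z
    have h3 : ∀ s t : Γ((H ⊗ H).left, ⊤), ev z (s * t) = ev z s * ev z t := fun s t => by
      rw [ev, ev, ev, map_mul, map_mul]
    rw [h3, ← ev_comp, ← ev_comp, ← ev_comp]
    have h4 : z ≫ μ[H] = (z ≫ fst H H) * (z ≫ snd H H) := by
      rw [Hom.mul_def]
      congr 1
      rw [← comp_lift, lift_fst_snd, Category.comp_id]
    rw [h4, ev_mul_fn e, ev_fn e, ev_fn e, RingEquiv.apply_symm_apply, hc]

/-- The group-like function of a character. -/
theorem char_mul (χ : H ⟶ Red.Gm (Spec (CommRingCat.of k))) [IsMonHom χ] (y z : Pt k C) :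
    (y * z) (fn e (Red.gmFn χ)) = y (fn e (Red.gmFn χ)) * z (fn e (Red.gmFn χ)) := by
  obtain ⟨y, rfl⟩ := (ptE e k).surjective y
  obtain ⟨z, rfl⟩ := (ptE e k).surjective z
  have h1 := ev_mul_fn e y z (Red.gmFn χ)
  have h2 := ev_fn e y (Red.gmFn χ)
  have h3 := ev_fn e z (Red.gmFn χ)
  refine h1.symm.trans (Eq.trans ?_ (congrArg₂ (· * ·) h2 h3))
  have h4 : (y * z) ≫ χ = (y ≫ χ) * (z ≫ χ) := MonObj.mul_comp y z χ
  rw [ev, ev, ev, ← GmPts.gmFn_comp, ← GmPts.gmFn_comp, ← GmPts.gmFn_comp, h4,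
    GmPts.gmFn_mul, map_mul]

theorem char_one (χ : H ⟶ Red.Gm (Spec (CommRingCat.of k))) [IsMonHom χ] :
    (1 : Pt k C) (fn e (Red.gmFn χ)) = 1 := by
  have h0 : (1 : Pt k C) = ptE e k 1 := (map_one _).symm
  have h2 := ev_fn e (1 : VecGrp.pt k k ⟶ H) (Red.gmFn χ)
  rw [h0]
  refine h2.symm.trans ?_
  have h4 : (1 : VecGrp.pt k k ⟶ H) ≫ χ = 1 := MonObj.one_comp χ
  rw [ev, ← GmPts.gmFn_comp, h4, GmPts.gmFn_one, map_one]

lemma fn_gmFn_eq_one_iff (χ : H ⟶ Red.Gm (Spec (CommRingCat.of k))) :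
    fn e (Red.gmFn χ) = 1 ↔ χ = 1 := by
  constructor
  · intro h
    apply GmPts.gmFn_injective
    dsimp only
    rw [GmPts.gmFn_one]
    apply (fn e).injective
    rw [h, map_one]
  · rintro rfl
    rw [GmPts.gmFn_one, map_one]


section obs

variable {A : Type u} [CommRing A] [HopfAlgebra k A] [Algebra.FiniteType k C]
  [_root_.IsReduced C]

open K495.ObsExt

/-- **Subgroups all of whose extendible characters are trivial are observable.** -/
theorem invExt_of_forall {φ : A →ₐc[k] C}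
    (h : ∀ c : C, (1 : Pt k C) c = 1 → (∀ y z : Pt k C, (y * z) c = y c * z c) →
      IsUnit c → ∃ a : A, φ a = c ∧ (∀ y z : Pt k A, (y * z) a = y a * z a) ∧ (1 : Pt k A) a = 1) :
    InvExt (Pt.map (K := k) φ).range := by
  intro χ F hF h1
  have hχ : ∀ h ∈ (Pt.map (K := k) φ).range, h F = χ h * (1 : Pt k A) F := by
    intro h hh
    have := hF 1 h hh
    rwa [_root_.one_mul] at this
  let c : C := ((1 : Pt k A) F)⁻¹ • φ F
  have hc : ∀ y : Pt k C, y c = χ (Pt.map φ y) := by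
    intro y
    rw [Pt.apply_smul, ← Pt.map_apply, hχ _ ⟨y, rfl⟩, mul_comm (χ _), inv_mul_cancel_left₀ h1]
  have hc1 : (1 : Pt k C) c = 1 := by
    rw [hc, map_one]
    apply mul_right_cancel₀ h1
    rw [← hχ _ (one_mem _), _root_.one_mul]
  have hmul : ∀ y z : Pt k C, (y * z) c = y c * z c := by
    intro y z
    rw [hc, hc, hc]
    apply mul_right_cancel₀ h1
    rw [← hχ _ ⟨_, rfl⟩, map_mul, hF _ _ ⟨z, rfl⟩, hχ _ ⟨y, rfl⟩]
    ring
  obtain ⟨a, hac, ham, ha1⟩ := h c hc1 hmul (isUnit_of_mul hc1 hmul)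
  have hinv : ∀ x : Pt k A, x (HopfAlgebra.antipode k a) * x a = 1 := by
    intro x
    rw [← Pt.inv_apply, ← ham, inv_mul_cancel, ha1]
  refine ⟨HopfAlgebra.antipode k a, ?_, ?_⟩
  · rintro x _ ⟨y, rfl⟩
    have h2 : (Pt.map φ y) a = χ (Pt.map φ y) := by rw [Pt.map_apply, hac, hc]
    have h3 := hinv (x * Pt.map φ y)
    have h4 := hinv x
    have hne : x a ≠ 0 := fun h0 => by rw [h0, mul_zero] at h4; exact zero_ne_one h4
    rw [ham, h2] at h3
    apply mul_right_cancel₀ hne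
    rw [h4]
    have h5 : (Pt.map φ) y = Pt.map φ y := rfl
    rw [← h3]
    ring
  · intro h0
    have h4 := hinv 1
    rw [h0, zero_mul] at h4
    exact zero_ne_one h4

end obs

end K495.Chars
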