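import Groth.Agent.AGF.K495.Bridge2
import Groth.Agent.An.H22.Assemble

/-!
# The ring of invariant functions on a connected group is integrally closed
-/

set_option autoImplicit false
set_option linter.unusedSectionVars false

universe u

open CategoryTheory MonoidalCategory CartesianMonoidalCategory MonObj GrpObj AlgebraicGeometry
open scoped TensorProduct

namespace K495.Norm

open Groth.Agent.Books.AffBridge Groth.Agent.Books.AffBridge2
open Groth.Agent.Sga3B.RG Groth.Agent.Sga3B.RG.BrPts K495.ObsPt K495.Bridge

variable {k : Type u} [Field k] [IsAlgClosed k]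

/-- The coordinate ring of a connected smooth affine group is a domain. -/
theorem isDomain_of_connected {A : Type u} [CommRing A] [HopfAlgebra k A] [Algebra.FiniteType k A]
    [_root_.IsReduced A] {G : Over (Spec (CommRingCat.of k))}
    (e : G ≅ SpecOver k A) [ConnectedSpace G.left] : IsDomain A := by
  rw [← isDomain_iff (K := k)]
  refine ⟨(smooth_iff A).2 inferInstance, ?_⟩
  have h1 : IsIso e.hom.left := (Over.forget _).map_isIso e.hom
  exact (e.hom.left.homeomorph).surjective.connectedSpace e.hom.left.continuous

/-- A Hopf algebra of finite type over an algebraically closed field which is a domain is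
integrally closed. -/
theorem isIntegrallyClosed_hopf (A : Type u) [CommRing A] [HopfAlgebra k A]
    [Algebra.FiniteType k A] [IsDomain A] : IsIntegrallyClosed A := by
  have h1 : Smooth (SpecOver k A).hom := (smooth_iff A).2 inferInstance
  have h2 : Algebra.Smooth k A := (smooth_specOver_iff k A).1 h1
  exact Groth.Agent.An.H22.Assemble.isIntegrallyClosed_of_smooth (k := k) A

/-- The invariants of a group of automorphisms-like family in an integrally closed domain. -/
theorem isIntegrallyClosed_of_eq {A : Type u} [CommRing A] [IsDomain A] [IsIntegrallyClosed A]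
    (R : Subring A) (h : ∀ a b c : A, a ∈ R → b ∈ R → b ≠ 0 → b * c = a → c ∈ R) :
    IsIntegrallyClosed R := by
  rw [isIntegrallyClosed_iff (FractionRing R)]
  intro x hx
  obtain ⟨⟨a, b⟩, hab⟩ := IsLocalization.surj (nonZeroDivisors R) x
  dsimp only at hab
  let j : R →+* FractionRing A := (algebraMap A (FractionRing A)).comp R.subtype
  have hj : Function.Injective j :=
    (IsFractionRing.injective A (FractionRing A)).comp Subtype.val_injective
  let J : FractionRing R →+* FractionRing A := IsFractionRing.lift hj
  have hJ : ∀ r : R, J (algebraMap R (FractionRing R) r) = algebraMap A (FractionRing A) (r : A) :=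
    fun r => IsFractionRing.lift_algebraMap hj r
  have hJx : IsIntegral A (J x) := by
    obtain ⟨p, hp, hpx⟩ := hx
    refine ⟨p.map R.subtype, hp.map _, ?_⟩
    rw [Polynomial.eval₂_map]
    have h1 : (algebraMap A (FractionRing A)).comp R.subtype =
        J.comp (algebraMap R (FractionRing R)) := by
      ext r
      exact (hJ r).symm
    rw [h1, ← Polynomial.hom_eval₂, hpx, map_zero]
  obtain ⟨c, hc⟩ := (IsIntegrallyClosed.isIntegral_iff).1 hJx
  have hb : ((b : R) : A) ≠ 0 := by
    intro h0
    exact nonZeroDivisors.coe_ne_zero b (Subtype.ext h0)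
  have h2 : ((b : R) : A) * c = (a : A) := by
    apply IsFractionRing.injective A (FractionRing A)
    rw [map_mul, hc, ← hJ, ← hJ, ← hab, map_mul, mul_comm]
  have h3 := h _ _ c a.2 (b : R).2 hb h2
  refine ⟨⟨c, h3⟩, ?_⟩
  apply J.injective
  rw [hJ, ← hc]

end K495.Norm
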