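import Groth.Agent.AGF.K495.GModPt
import Groth.Agent.AGF.K495.OpenSub

/-!
# Extension of modules along an observable subgroup
-/

set_option autoImplicit false
set_option linter.unusedSectionVars false

universe u

open CategoryTheory MonoidalCategory CartesianMonoidalCategory MonObj GrpObj AlgebraicGeometry
open scoped TensorProduct

namespace K495.ExtAlong

open Groth.Agent.Books.AffBridge Groth.Agent.Books.AffBridge2
open Groth.Agent.Sga3B.RG Groth.Agent.Sga3B.RG.BrPts K495.ObsPt K495.Bridge

variable {k : Type u} [Field k] [IsAlgClosed k]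
  {G : Over (Spec (CommRingCat.of k))} [GrpObj G] [IsAffine G.left] [Smooth G.hom]
  {H : Over (Spec (CommRingCat.of k))} [GrpObj H] [Smooth H.hom] (i : H ⟶ G) [IsMonHom i]

theorem extendsAlong [IsClosedImmersion i.left] (h : AGF.IsObservableIn k i)
    {V : Type u} [AddCommGroup V] [Module k V] [Module.Finite k V] (σ : VecGrp.GMod H V) :
    σ.ExtendsAlong i := by
  obtain ⟨A, _, _, e, he, hft, hred⟩ := exists_data G
  have hHa : IsAffine H.left := isAffine_of_isAffineHom i.left
  obtain ⟨C, _, _, e', he', φ, hft', hred', hφ, hi⟩ := exists_hom_data e i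
  rw [isObservableIn_iff e, psub_eq_range e i e' φ hi] at h
  obtain ⟨W, _, _, _, ρ, f, hρ, hf, hfe⟩ :=
    K495.ObsExt.exists_ext hφ h.invExt (K495.GModPt.isAlg_rep e' σ)
  obtain ⟨m, hm⟩ := K495.GModPt.exists_gmod e ρ hρ
  refine ⟨W, inferInstance, inferInstance, inferInstance, m, f, hf, ?_⟩
  refine (K495.GModPt.equivariant_iff e' σ (K495.GModPt.res i m) f).2 ?_
  intro p x
  rw [K495.GModPt.rep_res e e' i φ hi, hm]
  exact hfe p x

theorem isObservableIn_of_open [IsClosedImmersion i.left] [IsOpenImmersion i.left] :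
    AGF.IsObservableIn k i := by
  obtain ⟨A, _, _, e, he, hft, hred⟩ := exists_data G
  have hHa : IsAffine H.left := isAffine_of_isAffineHom i.left
  rw [isObservableIn_iff e]
  exact K495.ObsMore.isObs_of_compl (isCl_psub e i) (K495.OpenSub.isCl_compl_psub e i)

/-- A subgroup containing an observable one as an open subgroup. -/
theorem isObservableIn_of_open_sub [IsClosedImmersion i.left]
    {L : Over (Spec (CommRingCat.of k))} [GrpObj L] (j : L ⟶ H) [IsMonHom j]
    [IsOpenImmersion j.left] (h : AGF.IsObservableIn k (j ≫ i)) :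
    AGF.IsObservableIn k i := by
  obtain ⟨A, _, _, e, he, hft, hred⟩ := exists_data G
  have hHa : IsAffine H.left := isAffine_of_isAffineHom i.left
  have hj : IsClosedImmersion j.left := K495.OpenSub.isClosedImmersion_of_open j
  have hLa : IsAffine L.left := isAffine_of_isAffineHom j.left
  have hLs : Smooth L.hom := K495.OpenSub.smooth_of_open j
  obtain ⟨C, _, _, e', he', φ, hft', hred', hφ, hi⟩ := exists_hom_data e i
  rw [isObservableIn_iff e] at h
  rw [isObservableIn_iff e]
  refine h.of_relIndex (psub_comp_le e i j) ?_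
  rw [psub_comp_eq_map e i e' φ hi j, psub_eq_range e i e' φ hi]
  have h1 : (Pt.map (K := k) φ).range = (⊤ : Subgroup (Pt k C)).map (Pt.map φ) :=
    MonoidHom.range_eq_map _
  rw [h1, Subgroup.relIndex_map_map_of_injective _ _ (Pt.map_injective hφ),
    Subgroup.relIndex_top_right]
  exact K495.OpenSub.index_ne_zero (K495.OpenSub.isCl_compl_psub e' j)

/-- Transitivity. -/
theorem isObservableIn_comp [IsClosedImmersion i.left]
    {L : Over (Spec (CommRingCat.of k))} [GrpObj L] [Smooth L.hom] (j : L ⟶ H) [IsMonHom j]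
    [IsClosedImmersion j.left] (hj : AGF.IsObservableIn k j) (h : AGF.IsObservableIn k i) :
    AGF.IsObservableIn k (j ≫ i) := by
  obtain ⟨A, _, _, e, he, hft, hred⟩ := exists_data G
  have hHa : IsAffine H.left := isAffine_of_isAffineHom i.left
  have hLa : IsAffine L.left := isAffine_of_isAffineHom j.left
  obtain ⟨C, _, _, e', he', φ, hft', hred', hφ, hi⟩ := exists_hom_data e i
  rw [isObservableIn_iff e] at h
  rw [isObservableIn_iff e'] at hj
  rw [isObservableIn_iff e, psub_comp_eq_map e i e' φ hi j]
  rw [psub_eq_range e i e' φ hi] at h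
  exact hj.comp hφ h

/-- A subgroup of `H` observable in `G` is observable in `H`. -/
theorem isObservableIn_of_comp [IsClosedImmersion i.left]
    {L : Over (Spec (CommRingCat.of k))} [GrpObj L] [Smooth L.hom] [IsAffine L.left] (j : L ⟶ H)
    [IsMonHom j] (h : AGF.IsObservableIn k (j ≫ i)) : AGF.IsObservableIn k j := by
  obtain ⟨A, _, _, e, he, hft, hred⟩ := exists_data G
  have hHa : IsAffine H.left := isAffine_of_isAffineHom i.left
  obtain ⟨C, _, _, e', he', φ, hft', hred', hφ, hi⟩ := exists_hom_data e i
  rw [isObservableIn_iff e, psub_comp_eq_map e i e' φ hi j] at h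
  rw [isObservableIn_iff e']
  exact K495.ObsMore.isObs_of_map hφ h

end K495.ExtAlong
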