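import Groth.Agent.AGF.K495.GModPt

/-!
# Rational modules as representations of the group of points, II

* `exists_gmod_of_rat`: a representation with coaction vectors comes from a `GMod` (any dimension);
* `isStable_iff`, `isStable_iff_psub`: stability on rational points;
* `isMult_iff`: multiplicative actions on rational points;
* `isCompat_iff`: compatibility of actions on rational points;
* `mem_fixedSubalgebra_iff`;
* `regR`, `regL`: the translations on the coordinate ring.
-/

set_option autoImplicit false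
set_option linter.unusedSectionVars false

universe u v

open CategoryTheory MonoidalCategory CartesianMonoidalCategory MonObj GrpObj AlgebraicGeometry
open scoped TensorProduct

namespace K495.GModPt

open Groth.Agent.Books.AffBridge Groth.Agent.Books.AffBridge2
open Groth.Agent.Sga3B.RG Groth.Agent.Sga3B.RG.BrPts K495.ObsPt K495.Bridge

noncomputable section

section rat

variable {k : Type u} [Field k] [IsAlgClosed k] {A : Type u} [CommRing A] [HopfAlgebra k A]
  [Algebra.FiniteType k A] [_root_.IsReduced A]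
  {G : Over (Spec (CommRingCat.of k))} [GrpObj G] (e : G ≅ SpecOver k A) [IsMonHom e.hom]
  {M : Type v} [AddCommGroup M] [Module k M]

/-- A representation all of whose orbit maps come from `A ⊗ M` has a coaction map. -/
theorem exists_isCoact_of_rat (ρ : Representation k (Pt k A) M)
    (h : ∀ x : M, ∃ t : A ⊗[k] M, ∀ p : Pt k A, ρ p x = evT M p.ofConv t) :
    ∃ δ : M →ₗ[k] A ⊗[k] M, IsCoact ρ δ := by
  choose δ hδ using h
  refine ⟨{ toFun := δ, map_add' := fun x y => ?_, map_smul' := fun c x => ?_ }, fun p x => ?_⟩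
  · apply evT_ext
    intro p
    rw [map_add, ← hδ _ (WithConv.toConv p), ← hδ _ (WithConv.toConv p), ← hδ _ (WithConv.toConv p),
      map_add]
  · apply evT_ext
    intro p
    rw [map_smul, ← hδ _ (WithConv.toConv p), ← hδ _ (WithConv.toConv p), map_smul]
    rfl
  · exact (hδ x p).symm

theorem exists_gmod_of_rat (ρ : Representation k (Pt k A) M)
    (h : ∀ x : M, ∃ t : A ⊗[k] M, ∀ p : Pt k A, ρ p x = evT M p.ofConv t) :
    ∃ m : VecGrp.GMod G M, rep e m = ρ := by
  obtain ⟨δ, hδ⟩ := exists_isCoact_of_rat ρ h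
  exact ⟨ofRep e ρ δ hδ, rep_ofRep e ρ δ hδ⟩

end rat

section stable

variable {k : Type u} [Field k] {M : Type u} [AddCommGroup M] [Module k M] (W : Submodule k M)

lemma mem_baseChange_iff {B : Type u} [CommRing B] [Algebra k B] (z : B ⊗[k] M) :
    z ∈ W.baseChange B ↔ W.mkQ.baseChange B z = 0 := by
  have h1 : LinearMap.ker (W.mkQ.lTensor B) = LinearMap.range (W.subtype.lTensor B) :=
    lTensor_mkQ B W
  have h2 : z ∈ LinearMap.ker (W.mkQ.lTensor B) ↔ W.mkQ.baseChange B z = 0 := Iff.rfl
  rw [← h2, h1]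
  exact Iff.rfl

lemma one_tmul_mem_iff {x : M} : ((1 : k) ⊗ₜ[k] x) ∈ W.baseChange k ↔ x ∈ W := by
  rw [mem_baseChange_iff, LinearMap.baseChange_tmul]
  constructor
  · intro h
    have h1 := congrArg (TensorProduct.lid k (M ⧸ W)) h
    rw [map_zero, TensorProduct.lid_tmul, one_smul, Submodule.mkQ_apply,
      Submodule.Quotient.mk_eq_zero] at h1
    exact h1
  · intro h
    rw [Submodule.mkQ_apply, (Submodule.Quotient.mk_eq_zero W).2 h, TensorProduct.tmul_zero]

lemma Wmap_mem_baseChange {B B' : Type u} [CommRing B] [Algebra k B] [CommRing B'] [Algebra k B']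
    (φ : B →ₐ[k] B') {z : B ⊗[k] M} (h : z ∈ W.baseChange B) :
    VecGrp.Wmap φ z ∈ W.baseChange B' := by
  rw [mem_baseChange_iff] at h ⊢
  rw [← VecGrp.baseChange_natural, h, map_zero]

variable {A : Type u} [CommRing A] [HopfAlgebra k A]
  {G : Over (Spec (CommRingCat.of k))} [GrpObj G] (e : G ≅ SpecOver k A) [IsMonHom e.hom]
  {C : Type u} [CommRing C] [HopfAlgebra k C] {H : Over (Spec (CommRingCat.of k))} [GrpObj H]
  (e' : H ≅ SpecOver k C) [IsMonHom e'.hom] (i : H ⟶ G) [IsMonHom i]
  (φ : A →ₐc[k] C) (hφ : i ≫ e.hom = e'.hom ≫ specMap k (φ : A →ₐ[k] C))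
  [IsAlgClosed k] [Algebra.FiniteType k C] [_root_.IsReduced C]

lemma coact_mem_baseChange {m : VecGrp.GMod H M} {x : M}
    (h : ∀ p : Pt k C, rep e' m p x ∈ W) : coact e' m x ∈ W.baseChange C := by
  rw [mem_baseChange_iff]
  apply evT_ext
  intro p
  rw [evT_baseChange, map_zero]
  have h1 := h (WithConv.toConv p)
  rw [rep_apply] at h1
  rw [Submodule.mkQ_apply, Submodule.Quotient.mk_eq_zero]
  exact h1

include hφ in
theorem isStable_iff (m : VecGrp.GMod G M) :
    m.IsStable i W ↔ ∀ (p : Pt k C), ∀ x ∈ W, rep e m (Pt.map φ p) x ∈ W := by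
  constructor
  · intro h p x hx
    have h1 := h k ((ptE e' k).symm p) x hx
    rw [← res_ρ, ρ_k e', MulEquiv.apply_symm_apply, rep_res e e' i φ hφ] at h1
    exact (one_tmul_mem_iff W).1 h1
  · intro h B _ _ g x hx
    rw [← res_ρ, ρ_one_tmul e']
    apply Wmap_mem_baseChange
    apply coact_mem_baseChange
    intro p
    rw [rep_res e e' i φ hφ]
    exact h p x hx

theorem isStable_iff_psub [IsAffine G.left] [Smooth G.hom] [IsAffine H.left] [Smooth H.hom]
    (m : VecGrp.GMod G M) :
    m.IsStable i W ↔ ∀ p ∈ psub e i, ∀ x ∈ W, rep e m p x ∈ W := by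
  obtain ⟨C, _, _, e', he', hft, hred⟩ := exists_data H
  have h1 : IsMonHom (e'.inv ≫ i ≫ e.hom) := inferInstance
  obtain ⟨φ, hφ⟩ := exists_bialgHom_of_isMonHom k (e'.inv ≫ i ≫ e.hom)
  have h2 : i ≫ e.hom = e'.hom ≫ specMap k (φ : A →ₐ[k] C) := by
    rw [hφ, Iso.hom_inv_id_assoc]
  rw [isStable_iff W e e' i φ h2, psub_eq_range e i e' φ h2]
  constructor
  · rintro h _ ⟨y, rfl⟩
    exact h y
  · intro h p
    exact h _ ⟨p, rfl⟩

/-- Stability under the whole group. -/
theorem isStable_id_iff [_root_.IsReduced A] [Algebra.FiniteType k A] (m : VecGrp.GMod G M) :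
    m.IsStable (𝟙 G) W ↔ ∀ (p : Pt k A), ∀ x ∈ W, rep e m p x ∈ W := by
  have h := isStable_iff W e e (𝟙 G) (BialgHom.id k A) (by
    have h1 : specMap k ((BialgHom.id k A : A →ₐc[k] A) : A →ₐ[k] A) = 𝟙 _ := by
      exact specMap_id k
    rw [h1, Category.id_comp, Category.comp_id]) m
  rw [h]
  refine forall_congr' fun p => ?_
  have h2 : Pt.map (BialgHom.id k A) p = p := rfl
  rw [h2]

theorem mem_fixedUnder_id_iff [_root_.IsReduced A] [Algebra.FiniteType k A] (m : VecGrp.GMod G M)
    (x : M) : x ∈ m.fixedUnder (𝟙 G) ↔ ∀ (p : Pt k A), rep e m p x = x := by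
  have h := mem_fixedUnder_iff e e (𝟙 G) (BialgHom.id k A) (by
    have h1 : specMap k ((BialgHom.id k A : A →ₐc[k] A) : A →ₐ[k] A) = 𝟙 _ := by
      exact specMap_id k
    rw [h1, Category.id_comp, Category.comp_id]) m x
  rw [h]
  refine forall_congr' fun p => ?_
  have h2 : Pt.map (BialgHom.id k A) p = p := rfl
  rw [h2]

end stable

section mult

variable {k : Type u} [Field k] {A : Type u} [CommRing A] [HopfAlgebra k A]
  {G : Over (Spec (CommRingCat.of k))} [GrpObj G] (e : G ≅ SpecOver k A) [IsMonHom e.hom]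
  {R : Type u} [CommRing R] [Algebra k R]

lemma Wmap_mul {B B' : Type u} [CommRing B] [Algebra k B] [CommRing B'] [Algebra k B']
    (φ : B →ₐ[k] B') (x y : B ⊗[k] R) :
    VecGrp.Wmap φ (x * y) = VecGrp.Wmap φ x * VecGrp.Wmap φ y := by
  have h : ∀ z : B ⊗[k] R, VecGrp.Wmap φ z = Algebra.TensorProduct.map φ (AlgHom.id k R) z :=
    fun z => rfl
  rw [h, h, h, map_mul]

lemma evT_mul (p : A →ₐ[k] k) (x y : A ⊗[k] R) : evT R p (x * y) = evT R p x * evT R p y := by
  have h : ∀ z : A ⊗[k] R, evT R p z = Algebra.TensorProduct.lid k R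
    (Algebra.TensorProduct.map p (AlgHom.id k R) z) := fun z => rfl
  rw [h, h, h, map_mul, map_mul]

lemma evT_one (p : A →ₐ[k] k) : evT R p (1 : A ⊗[k] R) = 1 := by
  rw [Algebra.TensorProduct.one_def, evT_tmul, map_one, one_smul]

variable [IsAlgClosed k] [Algebra.FiniteType k A] [_root_.IsReduced A]

/-- An action is by algebra automorphisms iff it is on rational points. -/
theorem isMult_iff (m : VecGrp.GMod G R) :
    m.IsMult ↔ ∀ p : Pt k A, (∀ x y : R, rep e m p (x * y) = rep e m p x * rep e m p y) ∧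
      rep e m p 1 = 1 := by
  constructor
  · intro h p
    obtain ⟨g, rfl⟩ := (ptE e k).surjective p
    have hinj : Function.Injective (fun x : R => (1 : k) ⊗ₜ[k] x) :=
      (TensorProduct.lid k R).symm.injective
    constructor
    · intro x y
      apply hinj
      have h1 := (h k g).1 ((1 : k) ⊗ₜ[k] x) ((1 : k) ⊗ₜ[k] y)
      rw [Algebra.TensorProduct.tmul_mul_tmul, _root_.one_mul, ρ_k e, ρ_k e, ρ_k e,
        Algebra.TensorProduct.tmul_mul_tmul, _root_.one_mul] at h1
      exact h1
    · apply hinj
      have h1 := (h k g).2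
      rw [Algebra.TensorProduct.one_def, ρ_k e] at h1
      exact h1
  · intro h B _ _ g
    have hmul : ∀ x y : R, coact e m (x * y) = coact e m x * coact e m y := by
      intro x y
      apply evT_ext
      intro p
      rw [evT_mul]
      have h1 := (h (WithConv.toConv p)).1 x y
      rw [rep_apply, rep_apply, rep_apply] at h1
      exact h1
    have hone : coact e m 1 = 1 := by
      apply evT_ext
      intro p
      rw [evT_one]
      have h1 := (h (WithConv.toConv p)).2
      rw [rep_apply] at h1
      exact h1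
    constructor
    · intro x y
      induction x using TensorProduct.induction_on with
      | zero => rw [zero_mul, map_zero, zero_mul]
      | add x₁ x₂ h₁ h₂ => rw [add_mul, map_add, h₁, h₂, map_add, add_mul]
      | tmul b x =>
        induction y using TensorProduct.induction_on with
        | zero => rw [mul_zero, map_zero, mul_zero]
        | add y₁ y₂ h₁ h₂ => rw [mul_add, map_add, h₁, h₂, map_add, mul_add]
        | tmul b' y =>
          rw [Algebra.TensorProduct.tmul_mul_tmul, ρ_tmul e, ρ_tmul e, ρ_tmul e, hmul, Wmap_mul,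
            smul_mul_smul_comm]
    · rw [Algebra.TensorProduct.one_def, ρ_one_tmul e, hone, Algebra.TensorProduct.one_def,
        VecGrp.Wmap_tmul, map_one]

theorem mem_fixedSubalgebra_iff_psub {H : Over (Spec (CommRingCat.of k))} [GrpObj H] (i : H ⟶ G)
    [IsMonHom i] [IsAffine G.left] [Smooth G.hom] [IsAffine H.left] [Smooth H.hom]
    (m : VecGrp.GMod G R) (hm : m.IsMult) (x : R) :
    x ∈ m.fixedSubalgebra hm i ↔ ∀ p ∈ psub e i, rep e m p x = x :=
  mem_fixedUnder_iff_psub e i m x

/-- Compatibility of actions on an algebra and a module. -/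
theorem isCompat_iff {N : Type u} [AddCommGroup N] [Module R N] [Module k N]
    [IsScalarTower k R N] (m : VecGrp.GMod G R) (n : VecGrp.GMod G N) :
    VecGrp.GMod.IsCompat m n ↔
      ∀ (p : Pt k A) (a : R) (x : N), rep e n p (a • x) = rep e m p a • rep e n p x := by
  have hev : ∀ (p : A →ₐ[k] k) (x : A ⊗[k] R) (y : A ⊗[k] N),
      evT N p (VecGrp.GMod.smulW k R N A x y) = evT R p x • evT N p y := by
    intro p x y
    induction x using TensorProduct.induction_on with
    | zero => simp
    | add x₁ x₂ h₁ h₂ => rw [map_add, LinearMap.add_apply, map_add, h₁, h₂, map_add, add_smul]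
    | tmul b x =>
      induction y using TensorProduct.induction_on with
      | zero => simp
      | add y₁ y₂ h₁ h₂ => rw [map_add, map_add, h₁, h₂, map_add, smul_add]
      | tmul b' y =>
        have : VecGrp.GMod.smulW k R N A (b ⊗ₜ x) (b' ⊗ₜ y) = (b * b') ⊗ₜ (x • y) := rfl
        rw [this, evT_tmul, evT_tmul, evT_tmul, map_mul, smul_assoc, smul_comm x (p b') y,
          smul_smul]
  have hsm : ∀ (B B' : Type u) [CommRing B] [Algebra k B] [CommRing B'] [Algebra k B']
      (ψ : B →ₐ[k] B') (x : B ⊗[k] R) (y : B ⊗[k] N),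
      VecGrp.Wmap ψ (VecGrp.GMod.smulW k R N B x y) =
        VecGrp.GMod.smulW k R N B' (VecGrp.Wmap ψ x) (VecGrp.Wmap ψ y) := by
    intro B B' _ _ _ _ ψ x y
    induction x using TensorProduct.induction_on with
    | zero => simp
    | add x₁ x₂ h₁ h₂ =>
      rw [map_add, LinearMap.add_apply, map_add, h₁, h₂, map_add, map_add, LinearMap.add_apply]
    | tmul b x =>
      induction y using TensorProduct.induction_on with
      | zero => simp
      | add y₁ y₂ h₁ h₂ => rw [map_add, map_add, h₁, h₂, map_add, map_add]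
      | tmul b' y =>
        have h1 : VecGrp.GMod.smulW k R N B (b ⊗ₜ x) (b' ⊗ₜ y) = (b * b') ⊗ₜ (x • y) := rfl
        have h2 : VecGrp.GMod.smulW k R N B' (ψ b ⊗ₜ x) (ψ b' ⊗ₜ y) = (ψ b * ψ b') ⊗ₜ (x • y) :=
          rfl
        rw [h1, VecGrp.Wmap_tmul, VecGrp.Wmap_tmul, VecGrp.Wmap_tmul, h2, map_mul]
  have hbs : ∀ (B : Type u) [CommRing B] [Algebra k B] (b b' : B) (x : B ⊗[k] R) (y : B ⊗[k] N),
      VecGrp.GMod.smulW k R N B (b • x) (b' • y) = (b * b') • VecGrp.GMod.smulW k R N B x y := by
    intro B _ _ b b' x y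
    induction x using TensorProduct.induction_on with
    | zero => simp
    | add x₁ x₂ h₁ h₂ =>
      rw [smul_add, map_add, LinearMap.add_apply, h₁, h₂, map_add, LinearMap.add_apply, smul_add]
    | tmul c x =>
      induction y using TensorProduct.induction_on with
      | zero => simp
      | add y₁ y₂ h₁ h₂ => rw [smul_add, map_add, map_add, h₁, h₂, smul_add]
      | tmul c' y =>
        have h1 : ∀ b b' : B, VecGrp.GMod.smulW k R N B (b ⊗ₜ x) (b' ⊗ₜ y) =
          (b * b') ⊗ₜ (x • y) := fun _ _ => rfl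
        rw [TensorProduct.smul_tmul', TensorProduct.smul_tmul', h1, h1, TensorProduct.smul_tmul',
          smul_eq_mul, smul_eq_mul, smul_eq_mul]
        congr 1
        ring
  constructor
  · intro h p a x
    obtain ⟨g, rfl⟩ := (ptE e k).surjective p
    have hinj : Function.Injective (fun x : N => (1 : k) ⊗ₜ[k] x) :=
      (TensorProduct.lid k N).symm.injective
    apply hinj
    have h1 := h k g ((1 : k) ⊗ₜ[k] a) ((1 : k) ⊗ₜ[k] x)
    have h2 : ∀ (a : R) (x : N), VecGrp.GMod.smulW k R N k ((1 : k) ⊗ₜ a) ((1 : k) ⊗ₜ x) =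
      (1 : k) ⊗ₜ (a • x) := fun a x => by
        have : VecGrp.GMod.smulW k R N k ((1 : k) ⊗ₜ a) ((1 : k) ⊗ₜ x) =
          ((1 : k) * 1) ⊗ₜ (a • x) := rfl
        rw [this, _root_.one_mul]
    rw [h2, ρ_k e, ρ_k e, ρ_k e, h2] at h1
    exact h1
  · intro h B _ _ g x y
    have hco : ∀ (a : R) (x : N), coact e n (a • x) =
        VecGrp.GMod.smulW k R N A (coact e m a) (coact e n x) := by
      intro a x
      apply evT_ext
      intro p
      rw [hev]
      have h1 := h (WithConv.toConv p) a x
      rw [rep_apply, rep_apply, rep_apply] at h1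
      exact h1
    induction x using TensorProduct.induction_on with
    | zero => simp
    | add x₁ x₂ h₁ h₂ =>
      rw [map_add, LinearMap.add_apply, map_add, h₁, h₂, map_add, map_add, LinearMap.add_apply]
    | tmul b x =>
      induction y using TensorProduct.induction_on with
      | zero => simp
      | add y₁ y₂ h₁ h₂ => rw [map_add, map_add, h₁, h₂, map_add, map_add]
      | tmul b' y =>
        have h1 : VecGrp.GMod.smulW k R N B (b ⊗ₜ x) (b' ⊗ₜ y) = (b * b') ⊗ₜ (x • y) := rfl
        rw [h1, ρ_tmul e, ρ_tmul e, ρ_tmul e, hco, hsm, hbs]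

end mult

section reg

variable {k : Type u} [Field k] [IsAlgClosed k] {A : Type u} [CommRing A] [HopfAlgebra k A]
  [Algebra.FiniteType k A] [_root_.IsReduced A]

/-- The coaction of right translations. -/
def coR (k : Type u) [Field k] (A : Type u) [CommRing A] [HopfAlgebra k A] : A →ₗ[k] A ⊗[k] A :=
  (TensorProduct.comm k A A).toLinearMap ∘ₗ Coalgebra.comul

lemma isCoact_coR : IsCoact (rTrRep k A) (coR k A) := by
  intro p a
  change evT A p.ofConv (TensorProduct.comm k A A (Coalgebra.comul a)) =
    (TensorProduct.rid k A) ((TensorProduct.map LinearMap.id p.ofConv.toLinearMap)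
      (Coalgebra.comul (R := k) a))
  induction (Coalgebra.comul (R := k) a) using TensorProduct.induction_on with
  | zero => simp
  | tmul x y =>
    rw [TensorProduct.comm_tmul, evT_tmul, TensorProduct.map_tmul, TensorProduct.rid_tmul]
    rfl
  | add x y hx hy => rw [map_add, map_add, hx, hy, map_add, map_add]

/-- The coaction of left translations. -/
def coL (k : Type u) [Field k] (A : Type u) [CommRing A] [HopfAlgebra k A] : A →ₗ[k] A ⊗[k] A :=
  (TensorProduct.map (HopfAlgebra.antipode k) LinearMap.id) ∘ₗ Coalgebra.comul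

lemma isCoact_coL : IsCoact (lTrRep k A) (coL k A) := by
  intro p a
  change evT A p.ofConv ((TensorProduct.map (HopfAlgebra.antipode k) LinearMap.id)
      (Coalgebra.comul (R := k) a)) =
    (TensorProduct.lid k A) ((TensorProduct.map (p⁻¹ : Pt k A).ofConv.toLinearMap LinearMap.id)
      (Coalgebra.comul (R := k) a))
  induction (Coalgebra.comul (R := k) a) using TensorProduct.induction_on with
  | zero => simp
  | tmul x y =>
    rw [TensorProduct.map_tmul, evT_tmul, TensorProduct.map_tmul, TensorProduct.lid_tmul]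
    have := Pt.inv_apply p x
    change p (HopfAlgebra.antipode k x) • y = (p⁻¹ : Pt k A) x • y
    rw [this]
  | add x y hx hy => rw [map_add, map_add, hx, hy, map_add, map_add]

variable {G : Over (Spec (CommRingCat.of k))} [GrpObj G] (e : G ≅ SpecOver k A) [IsMonHom e.hom]

/-- The coordinate ring as a module under right translations: `(g a)(x) = a(x g)`. -/
def regR : VecGrp.GMod G A := ofRep e (rTrRep k A) (coR k A) isCoact_coR

/-- The coordinate ring as a module under left translations: `(g a)(x) = a(g⁻¹ x)`. -/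
def regL : VecGrp.GMod G A := ofRep e (lTrRep k A) (coL k A) isCoact_coL

lemma rep_regR : rep e (regR e) = rTrRep k A := rep_ofRep e _ _ _

lemma rep_regL : rep e (regL e) = lTrRep k A := rep_ofRep e _ _ _

theorem isMult_regR : (regR e).IsMult := by
  rw [isMult_iff e]
  intro p
  rw [rep_regR]
  exact ⟨fun x y => map_mul (rTr p) x y, map_one (rTr p)⟩

theorem isMult_regL : (regL e).IsMult := by
  rw [isMult_iff e]
  intro p
  rw [rep_regL]
  exact ⟨fun x y => map_mul (lTr p) x y, map_one (lTr p)⟩

end reg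

end

end K495.GModPt
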