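import Groth.Agent.AGF.K495.ObsPt
import Groth.Agent.Sga3B.RG.BrPts
import Groth.Prelude.Def_W4bk4grossh111Obs

/-!
# Bridge: observable subgroups of group schemes and of groups of points

For an affine group scheme `G` over a field with an isomorphism `e : G ≅ SpecOver k A`
(`A` a Hopf algebra):
* `ptE e B : (VecGrp.pt k B ⟶ G) ≃* WithConv (A →ₐ[k] B)`;
* `fn e : Γ(G.left, ⊤) ≃+* A`, `ev_fn`: evaluation of functions at points;
* `isRTransInv_iff`: invariance tested on rational points;
* `psub e i`: the subgroup of rational points of `H`, for `i : H ⟶ G`;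
* `isObservableIn_iff`.
-/

set_option autoImplicit false
set_option linter.unusedSectionVars false

universe u

open CategoryTheory MonoidalCategory CartesianMonoidalCategory MonObj GrpObj AlgebraicGeometry
open scoped TensorProduct

namespace K495.Bridge

open Groth.Agent.Books.AffBridge Groth.Agent.Books.AffBridge2
open Groth.Agent.Sga3B.RG Groth.Agent.Sga3B.RG.BrPts K495.ObsPt

noncomputable section

section pts

variable {k : Type u} [Field k]

/-- The two models of the affine test object, on morphisms. -/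
def ptS (B : Type u) [CommRing B] [Algebra k B] (G : Over (Spec (CommRingCat.of k))) [GrpObj G] :
    (VecGrp.pt k B ⟶ G) ≃* (SpecOver k B ⟶ G) where
  toFun g := g
  invFun g := g
  left_inv _ := rfl
  right_inv _ := rfl
  map_mul' _ _ := rfl

variable {A : Type u} [CommRing A] [HopfAlgebra k A]
  {G : Over (Spec (CommRingCat.of k))} [GrpObj G] (e : G ≅ SpecOver k A) [IsMonHom e.hom]

/-- The points of `G` with values in an algebra. -/
def ptE (B : Type u) [CommRing B] [Algebra k B] :
    (VecGrp.pt k B ⟶ G) ≃* WithConv (A →ₐ[k] B) :=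
  (ptS B G).trans
  { toFun := fun g => (rptEquiv k A B).symm (g ≫ e.hom)
    invFun := fun x => rptEquiv k A B x ≫ e.inv
    left_inv := fun g => by
      dsimp only
      rw [MulEquiv.apply_symm_apply, Category.assoc, Iso.hom_inv_id, Category.comp_id]
    right_inv := fun x => by
      dsimp only
      rw [Category.assoc, Iso.inv_hom_id, Category.comp_id, MulEquiv.symm_apply_apply]
    map_mul' := fun g h => by
      apply (rptEquiv k A B).injective
      rw [map_mul, MulEquiv.apply_symm_apply, MulEquiv.apply_symm_apply,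
        MulEquiv.apply_symm_apply, MonObj.mul_comp] }

lemma specMap_ptE {B : Type u} [CommRing B] [Algebra k B] (g : VecGrp.pt k B ⟶ G) :
    specMap k (ptE e B g).ofConv = ptS B G g ≫ e.hom :=
  (rptEquiv k A B).apply_symm_apply (ptS B G g ≫ e.hom)

lemma ptS_ptE_symm {B : Type u} [CommRing B] [Algebra k B] (x : WithConv (A →ₐ[k] B)) :
    ptS B G ((ptE e B).symm x) = specMap k x.ofConv ≫ e.inv := rfl

/-- Change of the test algebra. -/
lemma ptS_ptMap {B B' : Type u} [CommRing B] [Algebra k B] [CommRing B'] [Algebra k B']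
    (ψ : B →ₐ[k] B') (g : VecGrp.pt k B ⟶ G) :
    ptS B' G (VecGrp.ptMap ψ ≫ g) = specMap k ψ ≫ ptS B G g := rfl

lemma ptE_ptMap {B B' : Type u} [CommRing B] [Algebra k B] [CommRing B'] [Algebra k B']
    (ψ : B →ₐ[k] B') (g : VecGrp.pt k B ⟶ G) :
    ptE e B' (VecGrp.ptMap ψ ≫ g) = WithConv.toConv (ψ.comp (ptE e B g).ofConv) := by
  apply (rptEquiv k A B').injective
  rw [rptEquiv_apply, rptEquiv_apply, specMap_ptE, ptS_ptMap, Category.assoc, ← specMap_ptE]
  exact (specMap_comp k _ _).symm

/-- The universal point. -/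
def univ : VecGrp.pt k A ⟶ G := (ptE e A).symm (WithConv.toConv (AlgHom.id k A))

lemma ptE_univ : ptE e A (univ e) = WithConv.toConv (AlgHom.id k A) :=
  (ptE e A).apply_symm_apply _

/-- Every point comes from the universal one. -/
lemma ptMap_univ {B : Type u} [CommRing B] [Algebra k B] (g : VecGrp.pt k B ⟶ G) :
    VecGrp.ptMap (ptE e B g).ofConv ≫ univ e = g := by
  apply (ptE e B).injective
  rw [ptE_ptMap, ptE_univ]
  rfl

/-- Functoriality: points and homomorphisms. -/
lemma ptE_comp {C : Type u} [CommRing C] [HopfAlgebra k C] {H : Over (Spec (CommRingCat.of k))}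
    [GrpObj H] (e' : H ≅ SpecOver k C) [IsMonHom e'.hom] (i : H ⟶ G) [IsMonHom i]
    (φ : A →ₐc[k] C) (hφ : i ≫ e.hom = e'.hom ≫ specMap k (φ : A →ₐ[k] C))
    {B : Type u} [CommRing B] [Algebra k B] (h : VecGrp.pt k B ⟶ H) :
    ptE e B (h ≫ i) = WithConv.toConv ((ptE e' B h).ofConv.comp (φ : A →ₐ[k] C)) := by
  apply (rptEquiv k A B).injective
  rw [rptEquiv_apply, rptEquiv_apply, specMap_ptE]
  change (ptS B H h ≫ i) ≫ e.hom = specMap k ((ptE e' B h).ofConv.comp (φ : A →ₐ[k] C))
  rw [Category.assoc, hφ, ← Category.assoc, ← specMap_ptE]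
  exact (specMap_comp k _ _).symm

end pts

section functions

variable {k : Type u} [Field k]

/-- Evaluation of a function at a point. -/
def ev {B : Type u} [CommRing B] [Algebra k B] {X : Over (Spec (CommRingCat.of k))}
    (g : VecGrp.pt k B ⟶ X) (f : Γ(X.left, ⊤)) : B :=
  (Scheme.ΓSpecIso (CommRingCat.of B)).hom (g.left.appTop f)

lemma ev_eq_iff {B : Type u} [CommRing B] [Algebra k B] {X Y : Over (Spec (CommRingCat.of k))}
    (g : VecGrp.pt k B ⟶ X) (g' : VecGrp.pt k B ⟶ Y) (f : Γ(X.left, ⊤)) (f' : Γ(Y.left, ⊤)) :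
    ev g f = ev g' f' ↔ g.left.appTop f = g'.left.appTop f' :=
  ⟨fun h => ((ConcreteCategory.isIso_iff_bijective
    (Scheme.ΓSpecIso (CommRingCat.of B)).hom).1 inferInstance).1 h, fun h => by
      rw [ev, ev, h]⟩

lemma ev_comp {B : Type u} [CommRing B] [Algebra k B] {X Y : Over (Spec (CommRingCat.of k))}
    (g : VecGrp.pt k B ⟶ X) (i : X ⟶ Y) (f : Γ(Y.left, ⊤)) :
    ev (g ≫ i) f = ev g (i.left.appTop f) := by
  rw [ev, ev, Over.comp_left, Scheme.Hom.comp_appTop]
  rfl

variable {A : Type u} [CommRing A] [Algebra k A] {X : Over (Spec (CommRingCat.of k))}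
  (e : X ≅ SpecOver k A)

/-- The functions on an affine scheme. -/
def fn : Γ(X.left, ⊤) ≃+* A :=
  RingEquiv.ofBijective
    ((Scheme.ΓSpecIso (CommRingCat.of A)).hom.hom.comp e.inv.left.appTop.hom) (by
    have h1 : IsIso e.inv.left := (Over.forget _).map_isIso e.inv
    have h3 : IsIso e.inv.left.appTop := inferInstanceAs (IsIso (Scheme.Γ.map e.inv.left.op))
    have h4 : IsIso (Scheme.ΓSpecIso (CommRingCat.of A)).hom := inferInstance
    have h2 : IsIso (e.inv.left.appTop ≫ (Scheme.ΓSpecIso (CommRingCat.of A)).hom) :=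
      @IsIso.comp_isIso _ _ _ _ _ _ _ h3 h4
    exact (ConcreteCategory.isIso_iff_bijective
      (e.inv.left.appTop ≫ (Scheme.ΓSpecIso (CommRingCat.of A)).hom)).1 h2)

lemma fn_apply (f : Γ(X.left, ⊤)) :
    fn e f = (Scheme.ΓSpecIso (CommRingCat.of A)).hom (e.inv.left.appTop f) := rfl

lemma ev_specMap {B : Type u} [CommRing B] [Algebra k B] (x : A →ₐ[k] B) (f : Γ(X.left, ⊤)) :
    ev (specMap k x ≫ e.inv : VecGrp.pt k B ⟶ X) f = x (fn e f) := by
  have h2 : (specMap k x ≫ e.inv).left.appTop f =
      (specMap k x).left.appTop (e.inv.left.appTop f) := by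
    rw [Over.comp_left, Scheme.Hom.comp_appTop]
    rfl
  have h3 : ev (specMap k x ≫ e.inv : VecGrp.pt k B ⟶ X) f =
    (Scheme.ΓSpecIso (CommRingCat.of B)).hom ((specMap k x ≫ e.inv).left.appTop f) := rfl
  rw [h3, h2, fn_apply]
  have h4 := Scheme.ΓSpecIso_naturality (CommRingCat.ofHom x.toRingHom)
  exact congrArg (fun (F : Γ(Spec (CommRingCat.of A), ⊤) ⟶ CommRingCat.of B) =>
    F (e.inv.left.appTop f)) h4

end functions

section functionsGrp

variable {k : Type u} [Field k] {A : Type u} [CommRing A] [HopfAlgebra k A]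
  {G : Over (Spec (CommRingCat.of k))} [GrpObj G] (e : G ≅ SpecOver k A) [IsMonHom e.hom]

lemma ev_fn {B : Type u} [CommRing B] [Algebra k B] (g : VecGrp.pt k B ⟶ G) (f : Γ(G.left, ⊤)) :
    ev g f = (ptE e B g).ofConv (fn e f) := by
  have h1 : g = specMap k (ptE e B g).ofConv ≫ e.inv := by
    apply (ptS B G).injective
    change _ = specMap k (ptE e B g).ofConv ≫ e.inv
    rw [specMap_ptE, Category.assoc, Iso.hom_inv_id, Category.comp_id]
  conv_lhs => rw [h1]
  exact ev_specMap e _ f

end functionsGrp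

section affine

variable {k : Type u} [Field k]

/-- An affine scheme over `k` is the spectrum of a `k`-algebra. -/
theorem exists_specOver (X : Over (Spec (CommRingCat.of k))) [IsAffine X.left] :
    ∃ (A : Type u) (_ : CommRing A) (_ : Algebra k A), Nonempty (X ≅ SpecOver k A) := by
  let γ : CommRingCat.of k ⟶ Γ(X.left, ⊤) :=
    (Scheme.ΓSpecIso (CommRingCat.of k)).inv ≫ X.hom.appTop
  let _ : Algebra k Γ(X.left, ⊤) := γ.hom.toAlgebra
  refine ⟨Γ(X.left, ⊤), inferInstance, inferInstance, ⟨Over.isoMk X.left.isoSpec ?_⟩⟩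
  change X.left.isoSpec.hom ≫ Spec.map γ = X.hom
  have h1 : X.left.isoSpec.hom ≫ Spec.map X.hom.appTop =
      X.hom ≫ (Spec (CommRingCat.of k)).isoSpec.hom := Scheme.isoSpec_hom_naturality X.hom
  rw [Spec.map_comp, ← Category.assoc, h1, Category.assoc, ← Scheme.isoSpec_Spec_inv,
    Iso.hom_inv_id, Category.comp_id]

variable [IsAlgClosed k]

/-- Functions on a reduced affine `k`-scheme of finite type are determined by their values at the
rational points. -/
theorem section_ext {Z : Over (Spec (CommRingCat.of k))} [IsAffine Z.left]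
    [LocallyOfFiniteType Z.hom] [AlgebraicGeometry.IsReduced Z.left] {s t : Γ(Z.left, ⊤)}
    (h : ∀ z : VecGrp.pt k k ⟶ Z, ev z s = ev z t) : s = t := by
  obtain ⟨A, _, _, ⟨e⟩⟩ := exists_specOver Z
  have hft : Algebra.FiniteType k A := by
    rw [← locallyOfFiniteType_specOver_iff]
    have h1 : e.inv.left ≫ Z.hom = (SpecOver k A).hom := Over.w e.inv
    have h2 : IsIso e.inv.left := (Over.forget _).map_isIso e.inv
    rw [← h1]
    infer_instance
  have hred : _root_.IsReduced A := by
    have h1 : _root_.IsReduced Γ(Z.left, ⊤) := inferInstance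
    exact isReduced_of_injective (fn e).symm (fn e).symm.injective
  apply (fn e).injective
  rw [← sub_eq_zero]
  apply Groth.Agent.Books.PointsAC.eq_zero_of_forall_point k A
  intro g
  rw [map_sub, sub_eq_zero, ← ev_specMap, ← ev_specMap]
  exact h _

/-- The test object of rational points is terminal. -/
lemma pt_hom_ext {T : Over (Spec (CommRingCat.of k))} (x y : T ⟶ VecGrp.pt k k) : x = y := by
  have h1 : IsIso (VecGrp.pt k k).hom := by
    change IsIso (Spec.map (CommRingCat.ofHom (algebraMap k k)))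
    have : CommRingCat.ofHom (algebraMap k k) = 𝟙 _ := rfl
    rw [this]
    infer_instance
  ext1
  rw [← cancel_mono (VecGrp.pt k k).hom, Over.w x, Over.w y]

end affine

section inv

variable {k : Type u} [Field k] [IsAlgClosed k]

instance smooth_pt : Smooth (VecGrp.pt k k).hom := by
  change Smooth (Spec.map (CommRingCat.ofHom (algebraMap k k)))
  have : CommRingCat.ofHom (algebraMap k k) = 𝟙 _ := rfl
  rw [this]
  infer_instance

instance isAffine_pt (B : Type u) [CommRing B] [Algebra k B] :
    IsAffine (VecGrp.pt k B).left := inferInstanceAs (IsAffine (Spec (CommRingCat.of B)))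

instance isAffine_tensor (X Y : Over (Spec (CommRingCat.of k))) [IsAffine X.left]
    [IsAffine Y.left] : IsAffine (X ⊗ Y).left :=
  inferInstanceAs (IsAffine (Limits.pullback X.hom Y.hom))

instance smooth_tensor (X Y : Over (Spec (CommRingCat.of k))) [Smooth X.hom] [Smooth Y.hom] :
    Smooth (X ⊗ Y).hom := by
  rw [show (X ⊗ Y).hom = Limits.pullback.fst X.hom Y.hom ≫ X.hom from rfl]
  infer_instance

/-- Invariance under right translation can be tested on rational points. -/
theorem isRTransInv_iff {G T : Over (Spec (CommRingCat.of k))} [GrpObj G] [IsAffine G.left]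
    [IsAffine T.left] [Smooth G.hom] [Smooth T.hom] (g : T ⟶ G) (f : Γ(G.left, ⊤)) :
    AGF.IsRTransInv g f ↔ ∀ (x : VecGrp.pt k k ⟶ G) (t : VecGrp.pt k k ⟶ T),
      ev (x * (t ≫ g)) f = ev x f := by
  have hred : AlgebraicGeometry.IsReduced (G ⊗ T).left :=
    Groth.Agent.Books.AlgPtsSmooth.isReduced_of_smooth (G ⊗ T)
  constructor
  · intro h x t
    have h1 : x * (t ≫ g) = lift x t ≫ (G ◁ g) ≫ μ[G] := by
      rw [← Category.assoc, lift_whiskerLeft]
      rfl
    have h2 : x = lift x t ≫ fst G T := (lift_fst x t).symm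
    rw [h1, ev_comp]
    conv_rhs => rw [h2, ev_comp]
    exact congrArg _ h
  · intro h
    apply section_ext
    intro z
    rw [← ev_comp, ← ev_comp]
    have h1 := h (z ≫ fst G T) (z ≫ snd G T)
    have h2 : (z ≫ fst G T) * ((z ≫ snd G T) ≫ g) = z ≫ (G ◁ g) ≫ μ[G] := by
      have h3 : z = lift (z ≫ fst G T) (z ≫ snd G T) := by
        rw [← comp_lift, lift_fst_snd, Category.comp_id]
      conv_rhs => rw [h3, ← Category.assoc, lift_whiskerLeft]
      rfl
    rw [h2] at h1
    exact h1

/-- Invariance under a rational point. -/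
theorem isRTransInv_pt_iff {G : Over (Spec (CommRingCat.of k))} [GrpObj G] [IsAffine G.left]
    [Smooth G.hom] (g : VecGrp.pt k k ⟶ G) (f : Γ(G.left, ⊤)) :
    AGF.IsRTransInv g f ↔ ∀ x : VecGrp.pt k k ⟶ G, ev (x * g) f = ev x f := by
  rw [isRTransInv_iff]
  refine forall_congr' fun x => ⟨fun h => ?_, fun h t => ?_⟩
  · have := h (𝟙 _)
    rwa [Category.id_comp] at this
  · rw [pt_hom_ext t (𝟙 _), Category.id_comp]
    exact h

end inv

end

end K495.Bridge
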