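import Groth.Agent.AGF.K495.Bridge
import Groth.Agent.Sga3B.RG.Closed2

/-!
# Bridge, II: observability in terms of the group of points
-/

set_option autoImplicit false
set_option linter.unusedSectionVars false

universe u

open CategoryTheory MonoidalCategory CartesianMonoidalCategory MonObj GrpObj AlgebraicGeometry
open scoped TensorProduct

namespace K495.Bridge

open Groth.Agent.Books.AffBridge Groth.Agent.Books.AffBridge2
open Groth.Agent.Sga3B.RG Groth.Agent.Sga3B.RG.BrPts K495.ObsPt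

noncomputable section

variable {k : Type u} [Field k] {A : Type u} [CommRing A] [HopfAlgebra k A]
  {G : Over (Spec (CommRingCat.of k))} [GrpObj G] (e : G ≅ SpecOver k A) [IsMonHom e.hom]
  {H : Over (Spec (CommRingCat.of k))} [GrpObj H] (i : H ⟶ G) [IsMonHom i]

/-- The group of rational points of `H` in that of `G = Spec A`. -/
def psub : Subgroup (Pt k A) where
  carrier := {p | ∃ h : VecGrp.pt k k ⟶ H, ptE e k (h ≫ i) = p}
  one_mem' := ⟨1, by rw [MonObj.one_comp, map_one]⟩
  mul_mem' := by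
    rintro _ _ ⟨x, rfl⟩ ⟨y, rfl⟩
    exact ⟨x * y, by rw [MonObj.mul_comp, map_mul]⟩
  inv_mem' := by
    rintro _ ⟨x, rfl⟩
    exact ⟨x⁻¹, by rw [GrpObj.inv_comp, map_inv]⟩

lemma mem_psub {p : Pt k A} : p ∈ psub e i ↔ ∃ h : VecGrp.pt k k ⟶ H, ptE e k (h ≫ i) = p :=
  Iff.rfl

lemma ptE_mem_psub {g : VecGrp.pt k k ⟶ G} :
    ptE e k g ∈ psub e i ↔ ∃ h : VecGrp.pt k k ⟶ H, h ≫ i = g := by
  rw [mem_psub]
  exact exists_congr fun h => (ptE e k).injective.eq_iff

lemma psub_eq_range {C : Type u} [CommRing C] [HopfAlgebra k C]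
    (e' : H ≅ SpecOver k C) [IsMonHom e'.hom] (φ : A →ₐc[k] C)
    (hφ : i ≫ e.hom = e'.hom ≫ specMap k (φ : A →ₐ[k] C)) :
    psub e i = (Pt.map (K := k) φ).range := by
  ext p
  rw [mem_psub]
  constructor
  · rintro ⟨h, rfl⟩
    exact ⟨ptE e' k h, (ptE_comp e e' i φ hφ h).symm⟩
  · rintro ⟨y, rfl⟩
    refine ⟨(ptE e' k).symm y, ?_⟩
    rw [ptE_comp e e' i φ hφ, MulEquiv.apply_symm_apply]
    rfl

/-- Nested subgroups. -/
lemma psub_comp_le {L : Over (Spec (CommRingCat.of k))} [GrpObj L] (j : L ⟶ H) [IsMonHom j] :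
    psub e (j ≫ i) ≤ psub e i := by
  rintro _ ⟨h, rfl⟩
  exact ⟨h ≫ j, by rw [Category.assoc]⟩

lemma psub_comp_eq_map {C : Type u} [CommRing C] [HopfAlgebra k C]
    (e' : H ≅ SpecOver k C) [IsMonHom e'.hom] (φ : A →ₐc[k] C)
    (hφ : i ≫ e.hom = e'.hom ≫ specMap k (φ : A →ₐ[k] C))
    {L : Over (Spec (CommRingCat.of k))} [GrpObj L] (j : L ⟶ H) [IsMonHom j] :
    psub e (j ≫ i) = (psub e' j).map (Pt.map φ) := by
  ext p
  constructor
  · rintro ⟨h, rfl⟩
    exact ⟨ptE e' k (h ≫ j), ⟨h, rfl⟩, by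
      rw [← Category.assoc, ptE_comp e e' i φ hφ]; rfl⟩
  · rintro ⟨_, ⟨h, rfl⟩, rfl⟩
    exact ⟨h, by rw [← Category.assoc, ptE_comp e e' i φ hφ]; rfl⟩

section data

theorem exists_data [IsAlgClosed k] (G : Over (Spec (CommRingCat.of k))) [GrpObj G]
    [IsAffine G.left] [Smooth G.hom] :
    ∃ (A : Type u) (_ : CommRing A) (_ : HopfAlgebra k A) (e : G ≅ SpecOver k A),
      IsMonHom e.hom ∧ Algebra.FiniteType k A ∧ _root_.IsReduced A := by
  obtain ⟨A, _, _, e, he⟩ := exists_hopf k G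
  have h1 : e.inv.left ≫ G.hom = (SpecOver k A).hom := Over.w e.inv
  have h2 : IsIso e.inv.left := (Over.forget _).map_isIso e.inv
  have h3 : Smooth (SpecOver k A).hom := by
    rw [← h1]; infer_instance
  have hft : Algebra.FiniteType k A := by
    rw [← locallyOfFiniteType_specOver_iff]
    infer_instance
  exact ⟨A, inferInstance, inferInstance, e, he, hft, (smooth_iff A).1 h3⟩

theorem exists_hom_data [IsAlgClosed k] [IsAffine G.left] [Smooth H.hom]
    [IsClosedImmersion i.left] :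
    ∃ (C : Type u) (_ : CommRing C) (_ : HopfAlgebra k C) (e' : H ≅ SpecOver k C)
      (_ : IsMonHom e'.hom) (φ : A →ₐc[k] C), Algebra.FiniteType k C ∧ _root_.IsReduced C ∧
      Function.Surjective φ ∧ i ≫ e.hom = e'.hom ≫ specMap k (φ : A →ₐ[k] C) := by
  have haff : IsAffine H.left := isAffine_of_isAffineHom i.left
  obtain ⟨C, _, _, e', he', hft, hred⟩ := exists_data H
  have h1 : IsMonHom (e'.inv ≫ i ≫ e.hom) := inferInstance
  obtain ⟨φ, hφ⟩ := exists_bialgHom_of_isMonHom k (e'.inv ≫ i ≫ e.hom)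
  have h2 : i ≫ e.hom = e'.hom ≫ specMap k (φ : A →ₐ[k] C) := by
    rw [hφ, Iso.hom_inv_id_assoc]
  refine ⟨C, inferInstance, inferInstance, e', he', φ, hft, hred, ?_, h2⟩
  have h3 : IsClosedImmersion (specMap k (φ : A →ₐ[k] C)).left := by
    rw [hφ, Over.comp_left, Over.comp_left]
    have h4 : IsIso e'.inv.left := (Over.forget _).map_isIso e'.inv
    have h5 : IsIso e.hom.left := (Over.forget _).map_isIso e.hom
    infer_instance
  exact (isClosedImmersion_specMap_iff k _).1 h3

lemma isCl_psub [IsAlgClosed k] [IsAffine G.left] [Smooth H.hom] [IsClosedImmersion i.left] :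
    IsCl (psub e i : Set (Pt k A)) := by
  obtain ⟨C, _, _, e', _, φ, -, -, h1, h2⟩ := exists_hom_data e i
  rw [psub_eq_range e i e' φ h2]
  exact Pt.isCl_range_map h1

end data

section obs

variable [IsAlgClosed k] [IsAffine G.left] [Smooth G.hom]

/-- Invariance under right translation by a rational point. -/
lemma isRTransInv_pt_iff' (g : VecGrp.pt k k ⟶ G) (f : Γ(G.left, ⊤)) :
    AGF.IsRTransInv g f ↔ ∀ x : Pt k A, (x * ptE e k g) (fn e f) = x (fn e f) := by
  rw [isRTransInv_pt_iff]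
  constructor
  · intro h x
    have := h ((ptE e k).symm x)
    rw [ev_fn e, ev_fn e, map_mul, MulEquiv.apply_symm_apply] at this
    exact this
  · intro h x
    rw [ev_fn e, ev_fn e, map_mul]
    exact h _

/-- Invariance under right translation by a smooth affine subgroup. -/
lemma isRTransInv_iff_mem [IsAffine H.left] [Smooth H.hom] (f : Γ(G.left, ⊤)) :
    AGF.IsRTransInv i f ↔ fn e f ∈ rInv (psub e i : Set (Pt k A)) := by
  rw [isRTransInv_iff]
  constructor
  · rintro h x _ ⟨y, rfl⟩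
    have := h ((ptE e k).symm x) y
    rw [ev_fn e, ev_fn e, map_mul, MulEquiv.apply_symm_apply] at this
    exact this
  · intro h x y
    rw [ev_fn e, ev_fn e, map_mul]
    exact h _ _ ⟨y, rfl⟩

lemma forall_inv_iff [IsAffine H.left] [Smooth H.hom] (g : VecGrp.pt k k ⟶ G) :
    (∀ f : Γ(G.left, ⊤), AGF.IsRTransInv i f → AGF.IsRTransInv g f) ↔
      InHull (psub e i : Set (Pt k A)) (ptE e k g) := by
  constructor
  · intro h a ha
    have h1 := h ((fn e).symm a)
    rw [isRTransInv_iff_mem e, isRTransInv_pt_iff' e, RingEquiv.apply_symm_apply] at h1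
    exact h1 ha
  · intro h f hf
    rw [isRTransInv_iff_mem e] at hf
    rw [isRTransInv_pt_iff' e]
    exact h _ hf

/-- **Observability in terms of points.** -/
theorem isObservableIn_iff [IsAffine H.left] [Smooth H.hom] :
    AGF.IsObservableIn k i ↔ IsObs (psub e i) := by
  constructor
  · intro h p hp
    obtain ⟨g, rfl⟩ := (ptE e k).surjective p
    rw [ptE_mem_psub]
    exact h g ((forall_inv_iff e i g).2 hp)
  · intro h g hg
    rw [← ptE_mem_psub e]
    exact h _ ((forall_inv_iff e i g).1 hg)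

end obs

end

end K495.Bridge
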