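import Groth.Agent.AGF.K495.ObsMore
import Groth.Agent.Sga3B.RG.IdComp
import Groth.Agent.Sga3B.RG.SolvLine

/-!
# Closed subgroups of solvable groups are observable
-/

set_option autoImplicit false
set_option linter.unusedSectionVars false

universe u

open WithConv TensorProduct Coalgebra
open scoped Pointwise

namespace K495.Solv

open Groth.Agent.Sga3B.RG K495.ObsPt K495.ObsExt K495.ObsMore

variable {K : Type u} [Field K] {A : Type u} [CommRing A] [HopfAlgebra K A]
  [IsAlgClosed K] [Algebra.FiniteType K A]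

/-- A subgroup of finite index which is closed has closed complement. -/
theorem isCl_compl {N : Subgroup (Pt K A)} (hN : IsCl (N : Set (Pt K A))) (hfin : N.index ≠ 0) :
    IsCl ((N : Set (Pt K A))ᶜ) := by
  classical
  have : Finite (Pt K A ⧸ N) := Subgroup.index_ne_zero_iff_finite.1 hfin
  have := Fintype.ofFinite (Pt K A ⧸ N)
  have h1 : ∀ s : Finset (Pt K A ⧸ N),
      IsCl (⋃ q ∈ s, (q.out : Pt K A) • (N : Set (Pt K A))) := by
    intro s
    induction s using Finset.induction_on with
    | empty => simpa using (isCl_empty : IsCl (∅ : Set (Pt K A)))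
    | insert a s _ ih =>
      rw [Finset.set_biUnion_insert]
      exact (hN.smul _).union ih
  have h2 : ((N : Set (Pt K A))ᶜ) =
      ⋃ q ∈ (Finset.univ.erase (QuotientGroup.mk 1 : Pt K A ⧸ N)),
        (q.out : Pt K A) • (N : Set (Pt K A)) := by
    ext x
    simp only [Set.mem_compl_iff, Set.mem_iUnion, Finset.mem_erase, Finset.mem_univ, and_true,
      Set.mem_smul_set_iff_inv_smul_mem, SetLike.mem_coe, smul_eq_mul, exists_prop]
    constructor
    · intro hx
      refine ⟨QuotientGroup.mk x, ?_, ?_⟩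
      · intro h
        apply hx
        have h3 := QuotientGroup.eq.1 h.symm
        rwa [inv_one, one_mul] at h3
      · rw [← QuotientGroup.eq]
        exact QuotientGroup.out_eq' _
    · rintro ⟨q, hq, h⟩ hx
      apply hq
      rw [← QuotientGroup.out_eq' q, QuotientGroup.eq.2 h, QuotientGroup.eq, mul_one]
      exact inv_mem hx
  rw [h2]
  exact h1 _

/-- The connected case: extendible characters extend to characters of the whole group. -/
theorem invExt_of_isSolvable [IsDomain A] [Group.IsSolvable (Pt K A)] (H : Subgroup (Pt K A)) :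
    InvExt H := by
  intro χ F hF h1
  -- the semi-invariants, stable under left translations
  let S : Submodule K A :=
    { carrier := {a | IsWt H χ a}
      add_mem' := fun {a b} ha hb x h hh => by
        rw [Pt.apply_add, Pt.apply_add, ha x h hh, hb x h hh, mul_add]
      zero_mem' := fun x h hh => by rw [Pt.apply_zero, Pt.apply_zero, mul_zero]
      smul_mem' := fun c a ha x h hh => by
        rw [Pt.apply_smul, Pt.apply_smul, ha x h hh]; ring }
  have hS : ∀ g : Pt K A, ∀ a ∈ S, lTr g a ∈ S := by
    intro g a ha x h hh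
    rw [lTr_apply_pt, lTr_apply_pt, ← mul_assoc]
    exact ha _ _ hh
  obtain ⟨U, hU, hFU, -, hUst⟩ := exists_stable (K := K) (Submodule.span K {F})
  let M : Submodule K A := U ⊓ S
  have hM : FiniteDimensional K M := Submodule.finiteDimensional_inf_left _ _
  have hMst : ∀ g : Pt K A, M ≤ M.comap (lTrRep K A g) := fun g a ha =>
    ⟨hUst g ha.1, hS g a ha.2⟩
  have hFM : F ∈ M := ⟨hFU (Submodule.mem_span_singleton_self F), hF⟩
  have hF0 : F ≠ 0 := by
    rintro rfl
    exact h1 (Pt.apply_zero _)
  have : Nontrivial M := ⟨⟨⟨F, hFM⟩, 0, fun h => hF0 (congrArg Subtype.val h)⟩⟩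
  obtain ⟨⟨E, hEM⟩, hE0, hE⟩ := SolvLine.exists_eigenvector
    (ρ := (lTrRep K A).subrepresentation M hMst) ((isAlg_lTrRep K A).subrepresentation M hMst)
  have hE' : ∀ g : Pt K A, ∃ c : K, ∀ x : Pt K A, (g * x) E = c * x E := by
    intro g
    obtain ⟨c, hc⟩ := hE g⁻¹
    refine ⟨c, fun x => ?_⟩
    have h2 : lTr g⁻¹ E = c • E := congrArg Subtype.val hc
    have h3 := lTr_apply_pt (g⁻¹) x E
    rw [h2, Pt.apply_smul, inv_inv] at h3
    exact h3.symm
  have hE1 : (1 : Pt K A) E ≠ 0 := by
    intro h0
    apply hE0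
    apply Subtype.ext
    change E = 0
    apply eq_zero_of_forall_pt (K := K)
    intro g
    obtain ⟨c, hc⟩ := hE' g
    have := hc 1
    rwa [mul_one, h0, mul_zero] at this
  have hmul : ∀ x y : Pt K A, (x * y) E * (1 : Pt K A) E = x E * y E := by
    intro x y
    obtain ⟨c, hc⟩ := hE' x
    have h2 := hc 1
    rw [mul_one] at h2
    rw [hc, h2]
    ring
  have hne : ∀ x : Pt K A, x E ≠ 0 := by
    intro x h0
    have h2 := hmul x x⁻¹
    rw [mul_inv_cancel, h0, zero_mul] at h2
    exact mul_ne_zero hE1 hE1 h2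
  refine ⟨HopfAlgebra.antipode K E, ?_, ?_⟩
  · intro x h hh
    have h2 : (x * h) E = χ h * x E := hEM.2 x h hh
    have h3 := hmul (x * h) (x * h)⁻¹
    have h4 := hmul x x⁻¹
    rw [mul_inv_cancel] at h3 h4
    rw [← Pt.inv_apply, ← Pt.inv_apply]
    apply mul_left_cancel₀ (hne x)
    rw [← h4, h3, h2]
    ring
  · rw [← Pt.inv_apply, inv_one]
    exact hE1

/-- **Closed subgroups of solvable groups are observable.** -/
theorem isObs_of_isSolvable [IsReduced A] [Group.IsSolvable (Pt K A)] {H : Subgroup (Pt K A)}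
    (hcl : IsCl (H : Set (Pt K A))) : IsObs H := by
  classical
  let N : Subgroup (Pt K A) := idComp ⊤
  have hN : IsCl (N : Set (Pt K A)) := isCl_idComp _
  have hNc : IsConn (N : Set (Pt K A)) := isConn_idComp _
  have hNf : N.index ≠ 0 := by
    rw [← Subgroup.relIndex_top_right]
    exact relIndex_idComp_ne_zero isCl_univ
  have hNobs : IsObs N := isObs_of_compl hN (isCl_compl hN hNf)
  let J : Ideal A := vanIdeal (N : Set (Pt K A))
  have hJp : J.IsPrime := hNc
  have hdom : IsDomain (A ⧸ J) := Ideal.Quotient.isDomain J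
  have hsolv : Group.IsSolvable (Pt K (A ⧸ J)) :=
    Group.isSolvable_of_isSolvable_injective (quotMap_injective (K := K) (J := J))
  let H₁ : Subgroup (Pt K (A ⧸ J)) := H.comap (quotMap J)
  have hH₁ : IsCl (H₁ : Set (Pt K (A ⧸ J))) := by
    have := hcl.preimage_map (Bialgebra.Quotient.mkBialgHom J)
    exact this
  have h1 : IsObs H₁ := isObs_of_invExt hH₁ (invExt_of_isSolvable H₁)
  have hr : (quotMap (K := K) J).range = N := range_quotMap_vanIdeal N hN
  have h2 : IsObs (H₁.map (quotMap J)) :=
    h1.comp Ideal.Quotient.mk_surjective (by rw [hr]; exact hNobs)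
  have h3 : H₁.map (quotMap J) = H ⊓ N := by
    rw [Subgroup.map_comap_eq, hr, inf_comm]
  rw [h3] at h2
  refine h2.of_relIndex inf_le_left ?_
  rw [Subgroup.inf_relIndex_left]
  have : N.FiniteIndex := ⟨hNf⟩
  exact (inferInstance : (N.subgroupOf H).FiniteIndex).index_ne_zero

end K495.Solv
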