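import Groth.Agent.AGF.K495.Bridge2
import Groth.Agent.AGF.K495.ObsMore

/-!
# Finite generation of rings of invariant functions, on the coordinate ring
-/

set_option autoImplicit false
set_option linter.unusedSectionVars false

universe u

open CategoryTheory MonoidalCategory CartesianMonoidalCategory MonObj GrpObj AlgebraicGeometry
open scoped TensorProduct

namespace K495.SubFG

open Groth.Agent.Books.AffBridge Groth.Agent.Books.AffBridge2
open Groth.Agent.Sga3B.RG Groth.Agent.Sga3B.RG.BrPts K495.ObsPt K495.Bridge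

section const

variable {k : Type u} [Field k] {A : Type u} [CommRing A] [Algebra k A]
  {X : Over (Spec (CommRingCat.of k))} (e : X ≅ SpecOver k A)

lemma fn_const (c : k) :
    fn e (X.hom.appTop ((Scheme.ΓSpecIso (CommRingCat.of k)).inv c)) = algebraMap k A c := by
  have h1 : e.inv.left ≫ X.hom = (SpecOver k A).hom := Over.w e.inv
  have h2 : e.inv.left.appTop (X.hom.appTop ((Scheme.ΓSpecIso (CommRingCat.of k)).inv c)) =
      (SpecOver k A).hom.appTop ((Scheme.ΓSpecIso (CommRingCat.of k)).inv c) := by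
    rw [← h1, Scheme.Hom.comp_appTop]
    rfl
  rw [fn_apply, h2]
  have h3 := Scheme.ΓSpecIso_naturality (CommRingCat.ofHom (algebraMap k A))
  have h4 := congrArg (fun (F : Γ(Spec (CommRingCat.of k), ⊤) ⟶ CommRingCat.of A) =>
    F ((Scheme.ΓSpecIso (CommRingCat.of k)).inv c)) h3
  refine Eq.trans h4 ?_
  change algebraMap k A ((Scheme.ΓSpecIso (CommRingCat.of k)).hom
    ((Scheme.ΓSpecIso (CommRingCat.of k)).inv c)) = _
  congr 1
  exact congrArg (fun (F : CommRingCat.of k ⟶ CommRingCat.of k) => F c)
    (Scheme.ΓSpecIso (CommRingCat.of k)).inv_hom_id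

/-- Finite generation over the constants, on the coordinate ring. -/
theorem subringFGOver_iff (S : Subring Γ(X.left, ⊤)) (R : Subalgebra k A)
    (h : ∀ f, f ∈ S ↔ fn e f ∈ R) : AGF.SubringFGOver k X S ↔ R.FG := by
  classical
  have hcl : ∀ (s : Set Γ(X.left, ⊤)), (Subring.closure
      (Set.range (fun c : k => X.hom.appTop ((Scheme.ΓSpecIso (CommRingCat.of k)).inv c)) ∪ s)).map
      (fn e : Γ(X.left, ⊤) →+* A) = (Algebra.adjoin k ((fn e) '' s)).toSubring := by
    intro s
    rw [RingHom.map_closure, Set.image_union, Algebra.adjoin_eq_ring_closure]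
    congr 2
    rw [← Set.range_comp]
    ext a
    constructor
    · rintro ⟨c, rfl⟩
      exact ⟨c, (fn_const e c).symm⟩
    · rintro ⟨c, rfl⟩
      exact ⟨c, fn_const e c⟩
  constructor
  · rintro ⟨s, hs, hle⟩
    refine ⟨s.image (fn e), le_antisymm ?_ ?_⟩
    · refine Algebra.adjoin_le fun a ha => ?_
      obtain ⟨f, hf, rfl⟩ := Finset.mem_image.1 (Finset.mem_coe.1 ha)
      exact (h f).1 (hs hf)
    · intro a ha
      have h1 : (fn e).symm a ∈ S := by
        rw [h, RingEquiv.apply_symm_apply]; exact ha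
      have h2 : a ∈ (Subring.closure
        (Set.range (fun c : k => X.hom.appTop ((Scheme.ΓSpecIso (CommRingCat.of k)).inv c)) ∪
          ↑s)).map (fn e : Γ(X.left, ⊤) →+* A) :=
        ⟨_, hle h1, RingEquiv.apply_symm_apply _ _⟩
      rw [hcl] at h2
      rw [Finset.coe_image]
      exact h2
  · rintro ⟨t, ht⟩
    refine ⟨t.image (fn e).symm, ?_, ?_⟩
    · intro f hf
      obtain ⟨a, ha, rfl⟩ := Finset.mem_image.1 (Finset.mem_coe.1 hf)
      rw [SetLike.mem_coe, h, RingEquiv.apply_symm_apply, ← ht]
      exact Algebra.subset_adjoin ha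
    · intro f hf
      have h1 : fn e f ∈ (Algebra.adjoin k ((fn e) '' (↑(t.image (fn e).symm) : Set _))).toSubring := by
        have h2 : (fn e) '' (↑(t.image (fn e).symm) : Set Γ(X.left, ⊤)) = ↑t := by
          rw [Finset.coe_image, ← Set.image_comp]
          have : (fun a => fn e ((fn e).symm a)) = (id : A → A) :=
            funext fun a => RingEquiv.apply_symm_apply _ _
          change (fun a => fn e ((fn e).symm a)) '' _ = _
          rw [this, Set.image_id]
        rw [h2, ht]
        exact (h f).1 hf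
      rw [← hcl] at h1
      obtain ⟨f', hf', hff⟩ := h1
      rwa [← (fn e).injective hff]

end const

section grp

variable {k : Type u} [Field k] [IsAlgClosed k] {A : Type u} [CommRing A] [HopfAlgebra k A]
  {G : Over (Spec (CommRingCat.of k))} [GrpObj G] [IsAffine G.left] [Smooth G.hom]
  (e : G ≅ SpecOver k A) [IsMonHom e.hom]
  {H : Over (Spec (CommRingCat.of k))} [GrpObj H] [IsAffine H.left] [Smooth H.hom] (i : H ⟶ G)
  [IsMonHom i]

theorem subringFGOver_rTransInv_iff :
    AGF.SubringFGOver k G (AGF.rTransInv i) ↔ (rInv (psub e i : Set (Pt k A))).FG :=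
  subringFGOver_iff e _ _ fun f => by
    rw [AGF.mem_rTransInv_iff, isRTransInv_iff_mem e]

end grp

section pts

open WithConv TensorProduct Coalgebra K495.ObsExt

variable {K : Type u} [Field K] {A : Type u} [CommRing A] [HopfAlgebra K A]
  [IsAlgClosed K] [Algebra.FiniteType K A] [_root_.IsReduced A]
  {B : Type u} [CommRing B] [HopfAlgebra K B] [Algebra.FiniteType K B] [_root_.IsReduced B]

lemma map_rInv_le {φ : A →ₐc[K] B} {L : Set (Pt K B)} :
    (rInv (Pt.map φ '' L)).map (φ : A →ₐ[K] B) ≤ rInv L := by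
  rintro _ ⟨a, ha, rfl⟩ x h hh
  have h1 := ha (Pt.map φ x) _ ⟨h, hh, rfl⟩
  rw [← map_mul, Pt.map_apply, Pt.map_apply] at h1
  exact h1

/-- The invariants of a subgroup `L` on an observable subgroup are the restrictions of the
invariants on the whole group. -/
theorem map_rInv_eq {φ : A →ₐc[K] B} (hφ : Function.Surjective φ)
    (hG : InvExt (Pt.map (K := K) φ).range) (L : Set (Pt K B)) :
    (rInv (Pt.map φ '' L)).map (φ : A →ₐ[K] B) = rInv L := by
  refine le_antisymm map_rInv_le fun b hb => ?_
  obtain ⟨a, ha, hab⟩ := K495.ObsMore.exists_restrict hφ hG hb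
  exact ⟨a, ha, hab⟩

end pts

end K495.SubFG
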