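import Groth.Agent.AGF.K495.IntFG
import Groth.Agent.AGF.K495.SubFG
import Groth.Agent.AGF.K495.OpenSub
import Groth.Agent.AGF.K495.Solv

/-!
# Finite generation of rings of invariants and subgroups of finite index
-/

set_option autoImplicit false
set_option linter.unusedSectionVars false

universe u

open WithConv TensorProduct Coalgebra Polynomial
open scoped Pointwise

namespace K495.FGPt

open Groth.Agent.Sga3B.RG K495.ObsPt K495.ObsExt K495.ObsMore

variable {K : Type u} [Field K] {A : Type u} [CommRing A] [HopfAlgebra K A]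
  [IsAlgClosed K] [Algebra.FiniteType K A] [IsReduced A]

lemma rTr_mul_apply (x y : Pt K A) (a : A) : rTr (x * y) a = rTr x (rTr y a) := by
  apply eq_of_forall_pt (K := K)
  intro g
  rw [rTr_apply_pt, rTr_apply_pt, rTr_apply_pt, mul_assoc]

/-- Invariants of a subgroup of finite index are integral over the invariants. -/
theorem isIntegral_rInv {L H : Subgroup (Pt K A)} (hfin : L.relIndex H ≠ 0)
    {b : A} (hb : b ∈ rInv (L : Set (Pt K A))) : IsIntegral (rInv (H : Set (Pt K A))) b := by
  classical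
  have : Finite (H ⧸ L.subgroupOf H) := by
    rw [← Subgroup.index_ne_zero_iff_finite]; exact hfin
  have := Fintype.ofFinite (H ⧸ L.subgroupOf H)
  let c : H ⧸ L.subgroupOf H → Pt K A := fun q => ((q.out : H) : Pt K A)
  have hbL : ∀ l ∈ L, rTr l b = b := fun l hl => (mem_rInv_iff_rTr.1 hb) l hl
  have hc1 : rTr (c (QuotientGroup.mk 1)) b = b := by
    apply hbL
    have h1 : (QuotientGroup.mk (QuotientGroup.mk (s := L.subgroupOf H) 1).out : H ⧸ L.subgroupOf H)
      = QuotientGroup.mk 1 := QuotientGroup.out_eq' _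
    have h2 := QuotientGroup.eq.1 h1.symm
    rw [inv_one, one_mul] at h2
    exact h2
  have hperm : ∀ (h : Pt K A) (hh : h ∈ H) (q : H ⧸ L.subgroupOf H),
      rTr h (rTr (c q) b) = rTr (c ((⟨h, hh⟩ : H) • q)) b := by
    intro h hh q
    rw [← rTr_mul_apply]
    let h₀ : H := ⟨h, hh⟩
    have h1 : (QuotientGroup.mk (h₀ * q.out) : H ⧸ L.subgroupOf H) = h₀ • q := by
      conv_rhs => rw [← QuotientGroup.out_eq' q]
      rfl
    have h2 : (h₀ • q).out⁻¹ * (h₀ * q.out) ∈ L.subgroupOf H := by
      rw [← QuotientGroup.eq, h1]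
      exact QuotientGroup.out_eq' _
    have h3 : (c (h₀ • q))⁻¹ * (h * c q) ∈ L := h2
    have h4 := congrArg (rTr (c (h₀ • q))) (hbL _ h3)
    rw [← rTr_mul_apply, mul_inv_cancel_left] at h4
    exact h4
  let P : A[X] := ∏ q, (X - Polynomial.C (rTr (c q) b))
  have hPm : P.Monic := monic_prod_of_monic _ _ fun q _ => monic_X_sub_C _
  have hPinv : ∀ h ∈ H, P.map (rTr h : A →ₐ[K] A).toRingHom = P := by
    intro h hh
    rw [Polynomial.map_prod]
    refine Fintype.prod_equiv (MulAction.toPerm (⟨h, hh⟩ : H)) _ _ fun q => ?_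
    rw [Polynomial.map_sub, Polynomial.map_X, Polynomial.map_C, MulAction.toPerm_apply]
    congr 2
    exact hperm h hh q
  have hcoef : ∀ n, P.coeff n ∈ rInv (H : Set (Pt K A)) := by
    intro n
    rw [mem_rInv_iff_rTr]
    intro h hh
    have h1 := congrArg (fun Q => Polynomial.coeff Q n) (hPinv h hh)
    rw [Polynomial.coeff_map] at h1
    exact h1
  have hlift : P ∈ Polynomial.lifts (algebraMap (rInv (H : Set (Pt K A))) A) := by
    rw [Polynomial.lifts_iff_coeff_lifts]
    exact fun n => ⟨⟨_, hcoef n⟩, rfl⟩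
  have hnt : Nontrivial A := ⟨⟨1, 0, fun h0 => by
    have h1 := Pt.apply_one (1 : Pt K A)
    rw [h0, Pt.apply_zero] at h1
    exact zero_ne_one h1⟩⟩
  obtain ⟨Q, hQP, -, hQm⟩ := Polynomial.lifts_and_degree_eq_and_monic hlift hPm
  refine ⟨Q, hQm, ?_⟩
  rw [← Polynomial.eval_map, hQP, Polynomial.eval_prod]
  apply Finset.prod_eq_zero (Finset.mem_univ (QuotientGroup.mk 1))
  rw [Polynomial.eval_sub, Polynomial.eval_X, Polynomial.eval_C, hc1, sub_self]

theorem fg_iff_of_relIndex {L H : Subgroup (Pt K A)} (hle : L ≤ H) (hfin : L.relIndex H ≠ 0) :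
    (rInv (H : Set (Pt K A))).FG ↔ (rInv (L : Set (Pt K A))).FG :=
  K495.IntFG.fg_iff_fg (rInv_anti hle) fun _ hb => isIntegral_rInv hfin hb

variable {B : Type u} [CommRing B] [HopfAlgebra K B] [Algebra.FiniteType K B] [IsReduced B]

lemma lTr_mul_apply (x y : Pt K A) (a : A) : lTr (x * y) a = lTr x (lTr y a) := by
  apply eq_of_forall_pt (K := K)
  intro g
  rw [lTr_apply_pt, lTr_apply_pt, lTr_apply_pt, mul_inv_rev, mul_assoc]

/-- Invariants of `L` on a subgroup of finite index. -/
theorem fg_map_iff {φ : A →ₐc[K] B} (hφ : Function.Surjective φ)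
    (hfin : (Pt.map (K := K) φ).range.index ≠ 0) (L : Subgroup (Pt K B)) :
    (rInv ((L.map (Pt.map φ) : Subgroup (Pt K A)) : Set (Pt K A))).FG ↔
      (rInv (L : Set (Pt K B))).FG := by
  classical
  let N : Subgroup (Pt K A) := (Pt.map (K := K) φ).range
  have hN : IsCl (N : Set (Pt K A)) := Pt.isCl_range_map hφ
  have hN' : IsCl ((N : Set (Pt K A))ᶜ) := K495.Solv.isCl_compl hN hfin
  have hNobs : IsObs N := isObs_of_compl hN hN'
  have hmapeq := K495.SubFG.map_rInv_eq hφ hNobs.invExt (L : Set (Pt K B))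
  rw [← Subgroup.coe_map] at hmapeq
  constructor
  · intro h
    rw [← hmapeq]
    exact h.map _
  · intro h
    obtain ⟨e, he1, he0⟩ := exists_sep_of_disjoint hN hN' disjoint_compl_right
    -- lifts of the generators
    obtain ⟨T, hT⟩ := h
    have hlift : ∀ t : T, ∃ a ∈ rInv ((L.map (Pt.map φ) : Subgroup (Pt K A)) : Set (Pt K A)),
        φ a = t := by
      intro t
      have h1 : (t : B) ∈ rInv (L : Set (Pt K B)) := by
        rw [← hT]; exact Algebra.subset_adjoin t.2
      rw [← hmapeq] at h1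
      obtain ⟨a, ha, hat⟩ := h1
      exact ⟨a, ha, hat⟩
    choose s hs hst using hlift
    have : Finite (Pt K A ⧸ N) := Subgroup.index_ne_zero_iff_finite.1 hfin
    have := Fintype.ofFinite (Pt K A ⧸ N)
    have heinv : e ∈ rInv (N : Set (Pt K A)) := by
      intro x h hh
      by_cases hx : x ∈ N
      · rw [he1 x hx, he1 _ (N.mul_mem hx hh)]
      · rw [he0 x hx, he0 _ (fun h' => hx ((N.mul_mem_cancel_right hh).1 h'))]
    have hLN : ((L.map (Pt.map φ) : Subgroup (Pt K A)) : Set (Pt K A)) ⊆ N := by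
      rintro _ ⟨y, -, rfl⟩
      exact ⟨y, rfl⟩
    have heL := rInv_anti hLN heinv
    let c : Pt K A ⧸ N → Pt K A := fun q => q.out
    let S : Finset A := (Finset.univ.image fun q => lTr (c q) e) ∪
      (Finset.univ.image fun p : (Pt K A ⧸ N) × T => lTr (c p.1) (s p.2))
    refine ⟨S, le_antisymm ?_ ?_⟩
    · refine Algebra.adjoin_le fun a ha => ?_
      rcases Finset.mem_union.1 (Finset.mem_coe.1 ha) with ha | ha
      · obtain ⟨q, -, rfl⟩ := Finset.mem_image.1 ha
        exact lTr_mem_rInv heL _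
      · obtain ⟨p, -, rfl⟩ := Finset.mem_image.1 ha
        exact lTr_mem_rInv (hs _) _
    · intro a ha
      have hsum : a = ∑ q, lTr (c q) e * a := by
        apply eq_of_forall_pt (K := K)
        intro x
        have h1 : x (∑ q, lTr (c q) e * a) = ∑ q, x (lTr (c q) e * a) := map_sum x.ofConv _ _
        rw [h1, Finset.sum_eq_single (QuotientGroup.mk x : Pt K A ⧸ N)]
        · rw [Pt.apply_mul, lTr_apply_pt, he1, one_mul]
          have h2 : (QuotientGroup.mk (QuotientGroup.mk (s := N) x).out : Pt K A ⧸ N) =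
            QuotientGroup.mk x := QuotientGroup.out_eq' _
          exact QuotientGroup.eq.1 h2
        · intro q _ hq
          rw [Pt.apply_mul, lTr_apply_pt, he0, zero_mul]
          intro hmem
          apply hq
          rw [← QuotientGroup.out_eq' q]
          exact QuotientGroup.eq.2 hmem
        · intro h; exact absurd (Finset.mem_univ _) h
      rw [hsum]
      refine Subalgebra.sum_mem _ fun q _ => ?_
      -- translate to `N`
      have h1 : lTr (c q)⁻¹ a ∈
          rInv ((L.map (Pt.map φ) : Subgroup (Pt K A)) : Set (Pt K A)) := lTr_mem_rInv ha _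
      have h2 : φ (lTr (c q)⁻¹ a) ∈ Algebra.adjoin K (↑T : Set B) := by
        rw [hT, ← hmapeq]
        exact ⟨_, h1, rfl⟩
      have h3 : (↑T : Set B) = (φ : A →ₐ[K] B) '' (Set.range s) := by
        ext b
        constructor
        · intro hb
          exact ⟨s ⟨b, hb⟩, ⟨_, rfl⟩, hst ⟨b, hb⟩⟩
        · rintro ⟨_, ⟨t, rfl⟩, rfl⟩
          have := hst t
          rw [show (φ : A →ₐ[K] B) (s t) = φ (s t) from rfl, this]
          exact t.2
      rw [h3, ← AlgHom.map_adjoin] at h2
      obtain ⟨P, hP, hPe⟩ := h2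
      have h4 : e * lTr (c q)⁻¹ a = e * P := by
        apply eq_of_forall_pt (K := K)
        intro x
        rw [Pt.apply_mul, Pt.apply_mul]
        by_cases hx : x ∈ N
        · obtain ⟨y, rfl⟩ := hx
          rw [Pt.map_apply φ y (lTr (c q)⁻¹ a), Pt.map_apply φ y P]
          congr 2
          exact hPe.symm
        · rw [he0 x hx, zero_mul, zero_mul]
      have h5 : lTr (c q) e * a = lTr (c q) e * lTr (c q) P := by
        have h6 := congrArg (lTr (c q)) h4
        rw [map_mul, map_mul, ← lTr_mul_apply, mul_inv_cancel] at h6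
        have h7 : lTr (1 : Pt K A) a = a := by
          apply eq_of_forall_pt (K := K)
          intro g
          rw [lTr_apply_pt, inv_one, one_mul]
        rwa [h7] at h6
      rw [h5]
      have h8 : lTr (c q) P ∈ Algebra.adjoin K (↑S : Set A) := by
        have h9 : (Algebra.adjoin K (Set.range s)).map (lTr (c q)) ≤
            Algebra.adjoin K (↑S : Set A) := by
          rw [AlgHom.map_adjoin]
          refine Algebra.adjoin_le ?_
          rintro _ ⟨_, ⟨t, rfl⟩, rfl⟩
          exact Algebra.subset_adjoin (Finset.mem_coe.2 (Finset.mem_union_right _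
            (Finset.mem_image.2 ⟨(q, t), Finset.mem_univ _, rfl⟩)))
        exact h9 ⟨P, hP, rfl⟩
      exact Subalgebra.mul_mem _ (Algebra.subset_adjoin (Finset.mem_coe.2
        (Finset.mem_union_left _ (Finset.mem_image.2 ⟨q, Finset.mem_univ _, rfl⟩)))) h8

end K495.FGPt
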