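import Groth.Agent.AGF.K495.Bridge2
import Groth.Agent.Sga3B.RG.Nullst
import Groth.Prelude.Def_W4bk4grossh1223Act

/-!
# Rational modules `VecGrp.GMod` as representations of the group of rational points

`G` is an affine group scheme over `k` with an isomorphism `e : G ≅ SpecOver k A`.

* `evT p : A ⊗ M → M`, evaluation at a rational point of the algebra `A`; `evT_ext`;
* `coact e m : M → A ⊗ M`, `ρ_tmul`: the module is determined by it;
* `rep e m : Representation k (Pt k A) M`, `rep_apply`;
* `ofCoact`, `ofRep`: construction of a `GMod` from a representation of the group of points with a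
  coaction map (`k` algebraically closed, `A` reduced of finite type); `rep_ofRep`;
* `exists_coact_of_isAlg`: an algebraic finite-dimensional representation has a coaction map;
* `isAlg_rep`;
* `mem_fixedUnder_iff`, `isStable_iff`, `isMult_iff`, `equivariant_iff`: all tested on rational points.
-/

set_option autoImplicit false
set_option linter.unusedSectionVars false

universe u v

open CategoryTheory MonoidalCategory CartesianMonoidalCategory MonObj GrpObj AlgebraicGeometry
open scoped TensorProduct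

namespace K495.GModPt

open Groth.Agent.Books.AffBridge Groth.Agent.Books.AffBridge2
open Groth.Agent.Sga3B.RG Groth.Agent.Sga3B.RG.BrPts K495.ObsPt K495.Bridge

noncomputable section

section evT

variable {k : Type u} [Field k] {A : Type u} [CommRing A] [Algebra k A]
  {M : Type v} [AddCommGroup M] [Module k M]

/-- Evaluation of `A ⊗ M` at a point of `A`. -/
def evT (M : Type v) [AddCommGroup M] [Module k M] (p : A →ₐ[k] k) : A ⊗[k] M →ₗ[k] M :=
  (TensorProduct.lid k M).toLinearMap ∘ₗ VecGrp.Wmap (M := M) p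

@[simp] lemma evT_tmul (p : A →ₐ[k] k) (a : A) (x : M) : evT M p (a ⊗ₜ x) = p a • x := by
  rw [evT, LinearMap.comp_apply, VecGrp.Wmap_tmul]
  exact TensorProduct.lid_tmul _ _

lemma evT_smul (p : A →ₐ[k] k) (a : A) (x : A ⊗[k] M) : evT M p (a • x) = p a • evT M p x := by
  rw [evT, LinearMap.comp_apply, VecGrp.Wmap_smul]
  exact map_smul _ _ _

lemma evT_Wmap {B : Type u} [CommRing B] [Algebra k B] (p : B →ₐ[k] k) (φ : A →ₐ[k] B)
    (x : A ⊗[k] M) : evT M p (VecGrp.Wmap φ x) = evT M (p.comp φ) x := by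
  induction x using TensorProduct.induction_on with
  | zero => simp
  | tmul a m => simp
  | add x y hx hy => rw [map_add, map_add, hx, hy, map_add]

lemma evT_baseChange {N : Type v} [AddCommGroup N] [Module k N] (p : A →ₐ[k] k) (f : M →ₗ[k] N)
    (x : A ⊗[k] M) : evT N p (f.baseChange A x) = f (evT M p x) := by
  induction x using TensorProduct.induction_on with
  | zero => simp
  | tmul a m => simp
  | add x y hx hy => rw [map_add, map_add, hx, hy, map_add, map_add]

lemma repr_evT {J : Type*} [DecidableEq J] (b : Module.Basis J k M) (p : A →ₐ[k] k)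
    (x : A ⊗[k] M) (j : J) :
    b.repr (evT M p x) j = p (TensorProduct.equivFinsuppOfBasisRight b x j) := by
  induction x using TensorProduct.induction_on with
  | zero => simp
  | tmul a m =>
    rw [evT_tmul, TensorProduct.equivFinsuppOfBasisRight_apply_tmul_apply, map_smul, map_smul,
      Finsupp.smul_apply, smul_eq_mul, smul_eq_mul, mul_comm]
  | add x y hx hy => rw [map_add, map_add, map_add, Finsupp.add_apply, Finsupp.add_apply, hx, hy, map_add]

/-- Elements of `A ⊗ M` are determined by their values at the rational points. -/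
theorem evT_ext [IsAlgClosed k] [Algebra.FiniteType k A] [_root_.IsReduced A] {x y : A ⊗[k] M}
    (h : ∀ p : A →ₐ[k] k, evT M p x = evT M p y) : x = y := by
  classical
  let b := Module.Basis.ofVectorSpace k M
  apply (TensorProduct.equivFinsuppOfBasisRight (M := A) b).injective
  ext j
  rw [← sub_eq_zero]
  apply Groth.Agent.Books.PointsAC.eq_zero_of_forall_point k A
  intro p
  rw [map_sub, sub_eq_zero, ← repr_evT, ← repr_evT, h]

end evT

section coact

variable {k : Type u} [Field k] {A : Type u} [CommRing A] [HopfAlgebra k A]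
  {G : Over (Spec (CommRingCat.of k))} [GrpObj G] (e : G ≅ SpecOver k A) [IsMonHom e.hom]
  {M : Type v} [AddCommGroup M] [Module k M] (m : VecGrp.GMod G M)

/-- The coaction of a `G`-module. -/
def coact : M →ₗ[k] A ⊗[k] M :=
  ((m.ρ A (univ e)).toLinearMap.restrictScalars k) ∘ₗ TensorProduct.mk k A M 1

lemma coact_apply (x : M) : coact e m x = m.ρ A (univ e) ((1 : A) ⊗ₜ[k] x) := rfl

/-- The action of any point is obtained from the coaction. -/
theorem ρ_one_tmul {B : Type u} [CommRing B] [Algebra k B] (g : VecGrp.pt k B ⟶ G) (x : M) :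
    m.ρ B g ((1 : B) ⊗ₜ[k] x) = VecGrp.Wmap (ptE e B g).ofConv (coact e m x) := by
  rw [coact_apply, m.naturality, ptMap_univ, VecGrp.Wmap_tmul, map_one]

theorem ρ_tmul {B : Type u} [CommRing B] [Algebra k B] (g : VecGrp.pt k B ⟶ G) (b : B) (x : M) :
    m.ρ B g (b ⊗ₜ[k] x) = b • VecGrp.Wmap (ptE e B g).ofConv (coact e m x) := by
  rw [← ρ_one_tmul, ← map_smul, TensorProduct.smul_tmul', smul_eq_mul, _root_.mul_one]

/-- Two `B`-linear maps on `B ⊗ M` agreeing on `1 ⊗ M` are equal. -/
lemma lin_ext {B : Type u} [CommRing B] [Algebra k B] {N : Type*} [AddCommGroup N] [Module B N]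
    {f g : B ⊗[k] M →ₗ[B] N} (h : ∀ x : M, f ((1 : B) ⊗ₜ x) = g ((1 : B) ⊗ₜ x)) : f = g := by
  apply LinearMap.ext
  intro y
  induction y using TensorProduct.induction_on with
  | zero => rw [map_zero, map_zero]
  | tmul b x =>
    have : b ⊗ₜ[k] x = b • ((1 : B) ⊗ₜ[k] x) := by
      rw [TensorProduct.smul_tmul', smul_eq_mul, _root_.mul_one]
    rw [this, map_smul, map_smul, h]
  | add x y hx hy => rw [map_add, map_add, hx, hy]

/-- Extensionality of module structures. -/
theorem gmod_ext {m m' : VecGrp.GMod G M} (h : ∀ (B : Type u) [CommRing B] [Algebra k B]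
    (g : VecGrp.pt k B ⟶ G) (x : M), m.ρ B g ((1 : B) ⊗ₜ[k] x) = m'.ρ B g ((1 : B) ⊗ₜ[k] x)) :
    m = m' := by
  obtain ⟨ρ, h1⟩ := m
  obtain ⟨ρ', h2⟩ := m'
  congr
  funext B _ _
  ext1 g
  apply LinearEquiv.toLinearMap_injective
  exact lin_ext fun x => h B g x

theorem gmod_ext_coact {m m' : VecGrp.GMod G M} (h : coact e m = coact e m') : m = m' := by
  apply gmod_ext
  intro B _ _ g x
  rw [ρ_one_tmul e, ρ_one_tmul e, h]

/-- The action of a point given by a coaction map. -/
def act (δ : M →ₗ[k] A ⊗[k] M) {B : Type u} [CommRing B] [Algebra k B]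
    (g : VecGrp.pt k B ⟶ G) : B ⊗[k] M →ₗ[B] B ⊗[k] M :=
  LinearMap.liftBaseChange B ((VecGrp.Wmap (M := M) (ptE e B g).ofConv) ∘ₗ δ)

lemma act_tmul (δ : M →ₗ[k] A ⊗[k] M) {B : Type u} [CommRing B] [Algebra k B]
    (g : VecGrp.pt k B ⟶ G) (b : B) (x : M) :
    act e δ g (b ⊗ₜ x) = b • VecGrp.Wmap (ptE e B g).ofConv (δ x) := rfl

lemma act_one_tmul (δ : M →ₗ[k] A ⊗[k] M) {B : Type u} [CommRing B] [Algebra k B]
    (g : VecGrp.pt k B ⟶ G) (x : M) :
    act e δ g ((1 : B) ⊗ₜ x) = VecGrp.Wmap (ptE e B g).ofConv (δ x) := by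
  rw [act_tmul, one_smul]

lemma Wmap_comp {B B' B'' : Type u} [CommRing B] [Algebra k B] [CommRing B'] [Algebra k B']
    [CommRing B''] [Algebra k B''] (ψ : B' →ₐ[k] B'') (φ : B →ₐ[k] B') (x : B ⊗[k] M) :
    VecGrp.Wmap ψ (VecGrp.Wmap φ x) = VecGrp.Wmap (ψ.comp φ) x := by
  induction x using TensorProduct.induction_on with
  | zero => simp
  | tmul a m => simp
  | add x y hx hy => rw [map_add, map_add, hx, hy, map_add]

lemma act_natural (δ : M →ₗ[k] A ⊗[k] M) {B B' : Type u} [CommRing B] [Algebra k B] [CommRing B']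
    [Algebra k B'] (ψ : B →ₐ[k] B') (g : VecGrp.pt k B ⟶ G) (x : B ⊗[k] M) :
    VecGrp.Wmap ψ (act e δ g x) = act e δ (VecGrp.ptMap ψ ≫ g) (VecGrp.Wmap ψ x) := by
  induction x using TensorProduct.induction_on with
  | zero => simp
  | tmul b m =>
    rw [act_tmul, VecGrp.Wmap_smul, Wmap_comp, VecGrp.Wmap_tmul, act_tmul, ptE_ptMap]
  | add x y hx hy => rw [map_add, map_add, hx, hy, map_add, map_add]

/-- A module structure from a coaction map satisfying the axioms on all points. -/
def ofCoact (δ : M →ₗ[k] A ⊗[k] M)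
    (h1 : ∀ (B : Type u) [CommRing B] [Algebra k B], act e δ (1 : VecGrp.pt k B ⟶ G) = LinearMap.id)
    (h2 : ∀ (B : Type u) [CommRing B] [Algebra k B] (g h : VecGrp.pt k B ⟶ G),
      act e δ (g * h) = act e δ g ∘ₗ act e δ h) : VecGrp.GMod G M where
  ρ B _ _ :=
    { toFun := fun g => LinearEquiv.ofLinearMap (act e δ g) (act e δ g⁻¹)
        (by rw [← h2, mul_inv_cancel, h1]) (by rw [← h2, inv_mul_cancel, h1])
      map_one' := by
        apply LinearEquiv.toLinearMap_injective
        exact h1 B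
      map_mul' := fun g h => by
        apply LinearEquiv.toLinearMap_injective
        exact h2 B g h }
  naturality ψ g x := act_natural e δ ψ g x

lemma ofCoact_ρ (δ : M →ₗ[k] A ⊗[k] M)
    (h1 : ∀ (B : Type u) [CommRing B] [Algebra k B], act e δ (1 : VecGrp.pt k B ⟶ G) = LinearMap.id)
    (h2 : ∀ (B : Type u) [CommRing B] [Algebra k B] (g h : VecGrp.pt k B ⟶ G),
      act e δ (g * h) = act e δ g ∘ₗ act e δ h) {B : Type u} [CommRing B] [Algebra k B]
    (g : VecGrp.pt k B ⟶ G) (x : B ⊗[k] M) : (ofCoact e δ h1 h2).ρ B g x = act e δ g x := rfl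

/-- The representation of the group of rational points on a `G`-module. -/
def rep : Representation k (Pt k A) M where
  toFun p := (TensorProduct.lid k M).toLinearMap ∘ₗ
    (m.ρ k ((ptE e k).symm p)).toLinearMap ∘ₗ (TensorProduct.lid k M).symm.toLinearMap
  map_one' := by
    ext x
    rw [map_one, map_one]
    change (TensorProduct.lid k M) ((TensorProduct.lid k M).symm x) = x
    rw [LinearEquiv.apply_symm_apply]
  map_mul' p q := by
    ext x
    rw [map_mul, map_mul]
    change (TensorProduct.lid k M) (m.ρ k _ (m.ρ k _ ((TensorProduct.lid k M).symm x))) =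
      (TensorProduct.lid k M) (m.ρ k _ ((TensorProduct.lid k M).symm ((TensorProduct.lid k M)
        (m.ρ k _ ((TensorProduct.lid k M).symm x)))))
    rw [LinearEquiv.symm_apply_apply]

lemma rep_def (p : Pt k A) (x : M) :
    rep e m p x = TensorProduct.lid k M (m.ρ k ((ptE e k).symm p) ((1 : k) ⊗ₜ x)) := rfl

lemma ρ_k (g : VecGrp.pt k k ⟶ G) (x : M) :
    m.ρ k g ((1 : k) ⊗ₜ[k] x) = (1 : k) ⊗ₜ[k] rep e m (ptE e k g) x := by
  rw [rep_def, MulEquiv.symm_apply_apply]
  exact ((TensorProduct.lid k M).symm_apply_apply _).symm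

theorem rep_apply (p : Pt k A) (x : M) : rep e m p x = evT M p.ofConv (coact e m x) := by
  rw [rep_def, ρ_one_tmul e, MulEquiv.apply_symm_apply]
  rfl

lemma evT_ρ {B : Type u} [CommRing B] [Algebra k B] (q : B →ₐ[k] k) (g : VecGrp.pt k B ⟶ G)
    (x : B ⊗[k] M) : evT M q (m.ρ B g x) =
      rep e m (WithConv.toConv (q.comp (ptE e B g).ofConv)) (evT M q x) := by
  induction x using TensorProduct.induction_on with
  | zero => simp
  | tmul b x =>
    rw [ρ_tmul e, evT_smul, evT_Wmap, evT_tmul, map_smul, rep_apply]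
  | add x y hx hy => rw [map_add, map_add, hx, hy, map_add, map_add]

/-- Matrix coefficients are regular functions. -/
theorem isAlg_rep : IsAlg (rep e m) := by
  intro f v
  refine ⟨TensorProduct.rid k A (f.lTensor A (coact e m v)), fun p => ?_⟩
  rw [rep_apply]
  induction coact e m v using TensorProduct.induction_on with
  | zero =>
    rw [map_zero, map_zero, map_zero, map_zero]
    exact (map_zero p.ofConv).symm
  | tmul a x =>
    rw [evT_tmul, map_smul, LinearMap.lTensor_tmul, TensorProduct.rid_tmul]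
    refine Eq.trans ?_ (map_smul p.ofConv _ _).symm
    rw [smul_eq_mul, smul_eq_mul, mul_comm]
  | add x y hx hy =>
    rw [map_add, map_add, hx, hy, map_add, map_add]
    exact (map_add p.ofConv _ _).symm

lemma IsStabOnPts_iff {H : Over (Spec (CommRingCat.of k))} [GrpObj H] (i : H ⟶ G) [IsMonHom i]
    {V : Type u} [AddCommGroup V] [Module k V] (ρ : VecGrp.GMod G V) (v : V) :
    AGF.IsStabOnPts k i ρ v ↔ ∀ p : Pt k A, rep e ρ p v = v ↔ p ∈ psub e i := by
  constructor
  · intro h p
    obtain ⟨g, rfl⟩ := (ptE e k).surjective p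
    rw [ptE_mem_psub, ← h g, ρ_k e]
    refine ⟨fun h => by rw [h], fun h => ?_⟩
    exact (TensorProduct.lid k V).symm.injective h
  · intro h g
    rw [← ptE_mem_psub e, ← h, ρ_k e]
    refine ⟨fun h => ?_, fun h => by rw [h]⟩
    exact (TensorProduct.lid k V).symm.injective h

end coact

section ofRep

variable {k : Type u} [Field k] {A : Type u} [CommRing A] [HopfAlgebra k A]
  {G : Over (Spec (CommRingCat.of k))} [GrpObj G] (e : G ≅ SpecOver k A) [IsMonHom e.hom]
  {M : Type v} [AddCommGroup M] [Module k M]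

/-- `δ` is a coaction map of the representation. -/
def IsCoact (ρ : Representation k (Pt k A) M) (δ : M →ₗ[k] A ⊗[k] M) : Prop :=
  ∀ (p : Pt k A) (x : M), evT M p.ofConv (δ x) = ρ p x

lemma isCoact_coact (m : VecGrp.GMod G M) : IsCoact (rep e m) (coact e m) :=
  fun p x => (rep_apply e m p x).symm

lemma evT_act {ρ : Representation k (Pt k A) M} {δ : M →ₗ[k] A ⊗[k] M} (hδ : IsCoact ρ δ)
    {B : Type u} [CommRing B] [Algebra k B] (q : B →ₐ[k] k) (g : VecGrp.pt k B ⟶ G)
    (x : B ⊗[k] M) : evT M q (act e δ g x) =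
      ρ (WithConv.toConv (q.comp (ptE e B g).ofConv)) (evT M q x) := by
  induction x using TensorProduct.induction_on with
  | zero => simp
  | tmul b x =>
    rw [act_tmul, evT_smul, evT_Wmap, evT_tmul, map_smul, ← hδ]
  | add x y hx hy => rw [map_add, map_add, hx, hy, map_add, map_add]

lemma ptE_toConv_comp {B : Type u} [CommRing B] [Algebra k B] (q : B →ₐ[k] k)
    (g : VecGrp.pt k B ⟶ G) :
    WithConv.toConv (q.comp (ptE e B g).ofConv) = ptE e k (VecGrp.ptMap q ≫ g) :=
  (ptE_ptMap e q g).symm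

variable [IsAlgClosed k] [Algebra.FiniteType k A] [_root_.IsReduced A]

lemma act_one {ρ : Representation k (Pt k A) M} {δ : M →ₗ[k] A ⊗[k] M} (hδ : IsCoact ρ δ)
    (B : Type u) [CommRing B] [Algebra k B] :
    act e δ (1 : VecGrp.pt k B ⟶ G) = LinearMap.id := by
  have key : ∀ x : M, act e δ (1 : VecGrp.pt k k ⟶ G) ((1 : k) ⊗ₜ x) = (1 : k) ⊗ₜ x := by
    intro x
    apply evT_ext
    intro p
    rw [evT_act e hδ, ptE_toConv_comp, MonObj.comp_one, map_one, map_one]
    rfl
  apply lin_ext
  intro x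
  have h1 := act_natural e δ (Algebra.ofId k B) (1 : VecGrp.pt k k ⟶ G) ((1 : k) ⊗ₜ x)
  rw [key, VecGrp.Wmap_tmul, map_one, MonObj.comp_one] at h1
  rw [← h1]
  rfl

lemma act_mul {ρ : Representation k (Pt k A) M} {δ : M →ₗ[k] A ⊗[k] M} (hδ : IsCoact ρ δ)
    (B : Type u) [CommRing B] [Algebra k B] (g h : VecGrp.pt k B ⟶ G) :
    act e δ (g * h) = act e δ g ∘ₗ act e δ h := by
  -- universal case
  have : Algebra.FiniteType A (A ⊗[k] A) := inferInstance
  have : Algebra.FiniteType k (A ⊗[k] A) := Algebra.FiniteType.trans (S := A) inferInstance this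
  have : _root_.IsReduced (A ⊗[k] A) := inferInstance
  let g₀ : VecGrp.pt k (A ⊗[k] A) ⟶ G := (ptE e _).symm
    (WithConv.toConv (Algebra.TensorProduct.includeLeft : A →ₐ[k] A ⊗[k] A))
  let h₀ : VecGrp.pt k (A ⊗[k] A) ⟶ G := (ptE e _).symm
    (WithConv.toConv (Algebra.TensorProduct.includeRight : A →ₐ[k] A ⊗[k] A))
  have key : ∀ x : M, act e δ (g₀ * h₀) ((1 : A ⊗[k] A) ⊗ₜ x) =
      act e δ g₀ (act e δ h₀ ((1 : A ⊗[k] A) ⊗ₜ x)) := by
    intro x
    apply evT_ext
    intro p
    rw [evT_act e hδ, evT_act e hδ, evT_act e hδ, ptE_toConv_comp, ptE_toConv_comp,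
      ptE_toConv_comp, MonObj.comp_mul, map_mul, map_mul]
    rfl
  let ψ : A ⊗[k] A →ₐ[k] B := Algebra.TensorProduct.lift (ptE e B g).ofConv (ptE e B h).ofConv
    (fun _ _ => Commute.all _ _)
  have hg : VecGrp.ptMap ψ ≫ g₀ = g := by
    apply (ptE e B).injective
    rw [ptE_ptMap, MulEquiv.apply_symm_apply]
    change WithConv.toConv (ψ.comp Algebra.TensorProduct.includeLeft) = _
    rw [Algebra.TensorProduct.lift_comp_includeLeft]
  have hh : VecGrp.ptMap ψ ≫ h₀ = h := by
    apply (ptE e B).injective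
    rw [ptE_ptMap, MulEquiv.apply_symm_apply]
    change WithConv.toConv (ψ.comp Algebra.TensorProduct.includeRight) = _
    rw [show ψ.comp Algebra.TensorProduct.includeRight = (ptE e B h).ofConv from
      AlgHom.ext fun a => by
        change ψ ((1 : A) ⊗ₜ a) = _
        rw [Algebra.TensorProduct.lift_tmul, map_one, _root_.one_mul]]
  apply lin_ext
  intro x
  have h1 := congrArg (VecGrp.Wmap (M := M) ψ) (key x)
  rw [act_natural, act_natural, act_natural, MonObj.comp_mul, hg, hh, VecGrp.Wmap_tmul,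
    map_one] at h1
  exact h1

/-- The `G`-module of a representation of the group of rational points with a coaction map. -/
def ofRep (ρ : Representation k (Pt k A) M) (δ : M →ₗ[k] A ⊗[k] M) (hδ : IsCoact ρ δ) :
    VecGrp.GMod G M :=
  ofCoact e δ (act_one e hδ) (act_mul e hδ)

@[simp] lemma rep_ofRep (ρ : Representation k (Pt k A) M) (δ : M →ₗ[k] A ⊗[k] M)
    (hδ : IsCoact ρ δ) : rep e (ofRep e ρ δ hδ) = ρ := by
  ext p x
  rw [rep_def, ofRep, ofCoact_ρ, act_one_tmul, MulEquiv.apply_symm_apply, ← hδ]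
  rfl

/-- A finite-dimensional algebraic representation has a coaction map. -/
theorem exists_isCoact [Module.Finite k M] (ρ : Representation k (Pt k A) M) (hρ : IsAlg ρ) :
    ∃ δ : M →ₗ[k] A ⊗[k] M, IsCoact ρ δ := by
  let b := Module.finBasis k M
  choose a ha using fun (i : Fin (Module.finrank k M)) (j : Fin (Module.finrank k M)) =>
    hρ (b.coord i) (b j)
  let δ : M →ₗ[k] A ⊗[k] M := b.constr k fun j => ∑ i, a i j ⊗ₜ[k] b i
  refine ⟨δ, fun p x => ?_⟩
  have : evT M p.ofConv ∘ₗ δ = ρ p := by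
    apply b.ext
    intro j
    rw [LinearMap.comp_apply, Module.Basis.constr_basis, map_sum]
    conv_rhs => rw [← b.sum_repr (ρ p (b j))]
    refine Finset.sum_congr rfl fun i _ => ?_
    rw [evT_tmul]
    congr 1
    exact (ha i j p).symm
  exact LinearMap.congr_fun this x

/-- **Every finite-dimensional algebraic representation of the group of rational points comes from
a rational module.** -/
theorem exists_gmod [Module.Finite k M] (ρ : Representation k (Pt k A) M) (hρ : IsAlg ρ) :
    ∃ m : VecGrp.GMod G M, rep e m = ρ := by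
  obtain ⟨δ, hδ⟩ := exists_isCoact ρ hρ
  exact ⟨ofRep e ρ δ hδ, rep_ofRep e ρ δ hδ⟩

theorem gmod_ext_rep {m m' : VecGrp.GMod G M} (h : rep e m = rep e m') : m = m' := by
  apply gmod_ext_coact e
  ext x
  apply evT_ext
  intro p
  have h1 := rep_apply e m (WithConv.toConv p) x
  have h2 := rep_apply e m' (WithConv.toConv p) x
  rw [h] at h1
  exact h1.symm.trans h2

end ofRep

section sub

variable {k : Type u} [Field k] {A : Type u} [CommRing A] [HopfAlgebra k A]
  {G : Over (Spec (CommRingCat.of k))} [GrpObj G] (e : G ≅ SpecOver k A) [IsMonHom e.hom]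
  {C : Type u} [CommRing C] [HopfAlgebra k C] {H : Over (Spec (CommRingCat.of k))} [GrpObj H]
  (e' : H ≅ SpecOver k C) [IsMonHom e'.hom] (i : H ⟶ G) [IsMonHom i]
  (φ : A →ₐc[k] C) (hφ : i ≫ e.hom = e'.hom ≫ specMap k (φ : A →ₐ[k] C))
  {M : Type v} [AddCommGroup M] [Module k M]

/-- Restriction of a module structure along a homomorphism. -/
def res (m : VecGrp.GMod G M) : VecGrp.GMod H M where
  ρ B _ _ :=
    { toFun := fun h => m.ρ B (h ≫ i)
      map_one' := by rw [MonObj.one_comp, map_one]
      map_mul' := fun x y => by rw [MonObj.mul_comp, map_mul] }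
  naturality ψ g x := by
    have := m.naturality ψ (g ≫ i) x
    rw [← Category.assoc] at this
    exact this

lemma res_ρ (m : VecGrp.GMod G M) {B : Type u} [CommRing B] [Algebra k B]
    (h : VecGrp.pt k B ⟶ H) : (res i m).ρ B h = m.ρ B (h ≫ i) := rfl

include hφ in
lemma rep_res (m : VecGrp.GMod G M) (p : Pt k C) : rep e' (res i m) p = rep e m (Pt.map φ p) := by
  ext x
  rw [rep_def, rep_def, res_ρ]
  congr 4
  apply (ptE e k).injective
  rw [ptE_comp e e' i φ hφ, MulEquiv.apply_symm_apply, MulEquiv.apply_symm_apply]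
  rfl

variable [IsAlgClosed k] [Algebra.FiniteType k C] [_root_.IsReduced C]

/-- Equivariance can be tested on rational points. -/
theorem equivariant_iff {N : Type v} [AddCommGroup N] [Module k N] (m : VecGrp.GMod H M)
    (n : VecGrp.GMod H N) (f : M →ₗ[k] N) :
    (∀ (B : Type u) [CommRing B] [Algebra k B] (h : VecGrp.pt k B ⟶ H) (x : B ⊗[k] M),
      f.baseChange B (m.ρ B h x) = n.ρ B h (f.baseChange B x)) ↔
    ∀ (p : Pt k C) (x : M), f (rep e' m p x) = rep e' n p (f x) := by
  constructor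
  · intro h p x
    have h1 := h k ((ptE e' k).symm p) ((1 : k) ⊗ₜ x)
    rw [ρ_k e', LinearMap.baseChange_tmul, LinearMap.baseChange_tmul, ρ_k e',
      MulEquiv.apply_symm_apply] at h1
    exact (TensorProduct.lid k N).symm.injective h1
  · intro h B _ _ g x
    have h1 : f.baseChange B ∘ₗ (m.ρ B g).toLinearMap = (n.ρ B g).toLinearMap ∘ₗ f.baseChange B := by
      apply lin_ext
      intro x
      rw [LinearMap.comp_apply, LinearMap.comp_apply, LinearMap.baseChange_tmul]
      change f.baseChange B (m.ρ B g _) = n.ρ B g _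
      rw [ρ_one_tmul e', ρ_one_tmul e', ← VecGrp.baseChange_natural]
      congr 1
      apply evT_ext
      intro p
      rw [evT_baseChange]
      have h2 := h (WithConv.toConv p) x
      rw [rep_apply, rep_apply] at h2
      exact h2
    exact LinearMap.congr_fun h1 x

theorem trivial_iff (m : VecGrp.GMod H M) (x : M) :
    (∀ (B : Type u) [CommRing B] [Algebra k B] (h : VecGrp.pt k B ⟶ H),
      m.ρ B h ((1 : B) ⊗ₜ[k] x) = (1 : B) ⊗ₜ[k] x) ↔ ∀ p : Pt k C, rep e' m p x = x := by
  constructor
  · intro h p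
    have h1 := h k ((ptE e' k).symm p)
    rw [ρ_k e', MulEquiv.apply_symm_apply] at h1
    exact (TensorProduct.lid k M).symm.injective h1
  · intro h B _ _ g
    rw [ρ_one_tmul e']
    have h1 : coact e' m x = (1 : C) ⊗ₜ x := by
      apply evT_ext
      intro p
      rw [evT_tmul, map_one, one_smul]
      exact (rep_apply e' m (WithConv.toConv p) x).symm.trans (h _)
    rw [h1, VecGrp.Wmap_tmul, map_one]

include hφ in
/-- Invariants can be tested on rational points. -/
theorem mem_fixedUnder_iff {M : Type u} [AddCommGroup M] [Module k M] (m : VecGrp.GMod G M)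
    (x : M) : x ∈ m.fixedUnder i ↔ ∀ p : Pt k C, rep e m (Pt.map φ p) x = x := by
  refine Iff.trans ?_ ((trivial_iff e' (res i m) x).trans ?_)
  · exact Iff.rfl
  · refine forall_congr' fun p => ?_
    rw [rep_res e e' i φ hφ]

end sub

section sub2

variable {k : Type u} [Field k] [IsAlgClosed k] {A : Type u} [CommRing A] [HopfAlgebra k A]
  {G : Over (Spec (CommRingCat.of k))} [GrpObj G] (e : G ≅ SpecOver k A) [IsMonHom e.hom]
  {H : Over (Spec (CommRingCat.of k))} [GrpObj H] (i : H ⟶ G) [IsMonHom i]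

variable [IsAffine H.left] [Smooth H.hom]

theorem mem_fixedUnder_iff_psub [IsAffine G.left] [Smooth G.hom]
    {M : Type u} [AddCommGroup M] [Module k M] (m : VecGrp.GMod G M)
    (x : M) : x ∈ m.fixedUnder i ↔ ∀ p ∈ psub e i, rep e m p x = x := by
  obtain ⟨C, _, _, e', he', hft, hred⟩ := exists_data H
  have h1 : IsMonHom (e'.inv ≫ i ≫ e.hom) := inferInstance
  obtain ⟨φ, hφ⟩ := exists_bialgHom_of_isMonHom k (e'.inv ≫ i ≫ e.hom)
  have h2 : i ≫ e.hom = e'.hom ≫ specMap k (φ : A →ₐ[k] C) := by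
    rw [hφ, Iso.hom_inv_id_assoc]
  rw [mem_fixedUnder_iff e e' i φ h2, psub_eq_range e i e' φ h2]
  constructor
  · rintro h _ ⟨y, rfl⟩
    exact h y
  · intro h p
    exact h _ ⟨p, rfl⟩

end sub2

end

end K495.GModPt
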