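import Groth.Agent.Ega4B.NagIntClos

/-!
# Finite generation passes through integral extensions of subalgebras
-/

set_option autoImplicit false

universe u

namespace K495.IntFG

/-- A field is a Nagata ring. -/
theorem isNagata_field (k : Type u) [Field k] : CAlg.IsNagata k := by
  refine ⟨inferInstance, ?_⟩
  intro p hp L _ _ _ _ hfin
  have hp' : p = ⊥ := by
    rcases Ideal.eq_bot_or_top p with h | h
    · exact h
    · exact absurd h hp.ne_top
  have hmax : p.IsMaximal := by rw [hp']; exact Ideal.bot_isMaximal
  let : Field (k ⧸ p) := Ideal.Quotient.field p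
  have hsurj : Function.Surjective (algebraMap (k ⧸ p) (FractionRing (k ⧸ p))) :=
    IsField.localization_map_bijective (M := nonZeroDivisors (k ⧸ p)) zero_notMem_nonZeroDivisors
      (Field.toIsField (k ⧸ p)) |>.2
  have h1 : Module.Finite (k ⧸ p) (FractionRing (k ⧸ p)) :=
    Module.Finite.of_surjective (Algebra.linearMap (k ⧸ p) (FractionRing (k ⧸ p))) hsurj
  have h2 : Module.Finite (k ⧸ p) L := Module.Finite.trans (FractionRing (k ⧸ p)) L
  exact Module.Finite.of_injective (Subalgebra.val (integralClosure (k ⧸ p) L)).toLinearMap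
    Subtype.val_injective

variable {k : Type u} [Field k] {A : Type u} [CommRing A] [Algebra k A]

/-- The integral closure of a finitely generated subalgebra in a reduced algebra of finite type is
finite. -/
theorem finite_integralClosure [IsReduced A] [Algebra.FiniteType k A] (C : Subalgebra k A)
    (hC : C.FG) : Module.Finite C (integralClosure C A) := by
  have h1 : Algebra.FiniteType k C := (Subalgebra.fg_iff_finiteType C).1 hC
  have h2 : CAlg.IsNagata C := Groth.Agent.Ega4B.NagFinal.isNagata_of_finiteType (isNagata_field k)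
  have h3 : Algebra.FiniteType C A := Algebra.FiniteType.of_restrictScalars_finiteType k C A
  exact Groth.Agent.Ega4B.NagIntClos.finite_of_isReduced h2

theorem fg_of_fg [IsReduced A] [Algebra.FiniteType k A] {C B : Subalgebra k A} (h : C ≤ B)
    (hint : ∀ b ∈ B, IsIntegral C b) (hC : C.FG) : B.FG := by
  have h1 : Algebra.FiniteType k C := (Subalgebra.fg_iff_finiteType C).1 hC
  have hN : IsNoetherianRing C := Algebra.FiniteType.isNoetherianRing k C
  have h2 := finite_integralClosure C hC
  let _ : Algebra C B := (Subalgebra.inclusion h).toAlgebra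
  have h3 : IsScalarTower k C B := IsScalarTower.of_algebraMap_eq fun x => rfl
  let j : B →ₗ[C] integralClosure C A :=
    { toFun := fun b => ⟨b, hint b b.2⟩
      map_add' := fun _ _ => rfl
      map_smul' := fun _ _ => rfl }
  have h4 : Module.Finite C B := Module.Finite.of_injective j fun x y hxy => by
    apply Subtype.ext
    exact congrArg (fun z : integralClosure C A => (z : A)) hxy
  have h5 : Algebra.FiniteType k B := Algebra.FiniteType.trans (S := C) h1 inferInstance
  exact (Subalgebra.fg_iff_finiteType B).2 h5

theorem fg_of_fg' {C B : Subalgebra k A} (h : C ≤ B)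
    (hint : ∀ b ∈ B, IsIntegral C b) (hB : B.FG) : C.FG := by
  have h1 : Algebra.FiniteType k B := (Subalgebra.fg_iff_finiteType B).1 hB
  let _ : Algebra C B := (Subalgebra.inclusion h).toAlgebra
  have h3 : IsScalarTower k C B := IsScalarTower.of_algebraMap_eq fun x => rfl
  have h4 : Algebra.FiniteType C B := Algebra.FiniteType.of_restrictScalars_finiteType k C B
  have h5 : Algebra.IsIntegral C B := ⟨fun b => by
    obtain ⟨p, hp, hpb⟩ := hint b b.2
    refine ⟨p, hp, ?_⟩
    apply Subtype.ext
    have h6 : (algebraMap C A) = (B.val : B →+* A).comp (algebraMap C B) := rfl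
    rw [h6] at hpb
    have h7 := Polynomial.hom_eval₂ p (algebraMap C B) (B.val : B →+* A) b
    rw [ZeroMemClass.coe_zero]
    exact h7.trans hpb⟩
  have h6 : Module.Finite C B := Algebra.IsIntegral.finite
  have h7 : (⊤ : Subalgebra k C).FG := fg_of_fg_of_fg k C B h1.out h6.fg_top
    (Subalgebra.inclusion_injective h)
  exact (Subalgebra.fg_iff_finiteType C).2 ⟨h7⟩

theorem fg_iff_fg [IsReduced A] [Algebra.FiniteType k A] {C B : Subalgebra k A} (h : C ≤ B)
    (hint : ∀ b ∈ B, IsIntegral C b) : C.FG ↔ B.FG :=
  ⟨fg_of_fg h hint, fg_of_fg' h hint⟩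

end K495.IntFG
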