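import Groth.Agent.AGF.K495.ObsExt

/-!
# Extension of one-dimensional representations implies observability
-/

set_option autoImplicit false
set_option linter.unusedSectionVars false

universe u

open WithConv TensorProduct Coalgebra

namespace K495.ObsExt2

open Groth.Agent.Sga3B.RG K495.ObsPt K495.ObsExt

variable {K : Type u} [Field K] {A : Type u} [CommRing A] [HopfAlgebra K A]
  {B : Type u} [CommRing B] [HopfAlgebra K B]

/-- `InvExt` from the extension of one-dimensional representations. -/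
theorem invExt_of_ext {φ : A →ₐc[K] B}
    (h : ∀ σ : Representation K (Pt K B) K, IsAlg σ →
      ∃ (W : Type u) (_ : AddCommGroup W) (_ : Module K W) (ρ : Representation K (Pt K A) W)
        (f : K →ₗ[K] W), IsAlg ρ ∧ Function.Injective f ∧
        ∀ (y : Pt K B) (v : K), f (σ y v) = ρ (Pt.map φ y) (f v)) :
    InvExt (Pt.map (K := K) φ).range := by
  intro χ F hF h1
  have hχ : ∀ h ∈ (Pt.map (K := K) φ).range, h F = χ h * (1 : Pt K A) F := by
    intro h hh
    have := hF 1 h hh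
    rwa [one_mul] at this
  have hmul : ∀ h ∈ (Pt.map (K := K) φ).range, ∀ h' ∈ (Pt.map (K := K) φ).range,
      χ (h * h') = χ h * χ h' := by
    intro h hh h' hh'
    apply mul_right_cancel₀ h1
    rw [← hχ _ (mul_mem hh hh'), hF h h' hh', hχ h hh]
    ring
  have hone : χ 1 = 1 := by
    apply mul_right_cancel₀ h1
    rw [← hχ 1 (one_mem _), one_mul]
  let σ : Representation K (Pt K B) K :=
    { toFun := fun y => χ (Pt.map φ y⁻¹) • LinearMap.id
      map_one' := by
        rw [inv_one, map_one, hone, one_smul]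
        rfl
      map_mul' := fun y z => by
        rw [mul_inv_rev, map_mul, hmul _ ⟨_, rfl⟩ _ ⟨_, rfl⟩]
        ext
        simp only [LinearMap.smul_apply, LinearMap.id_apply, Module.End.mul_apply, smul_eq_mul,
          mul_one]
        ring }
  have hσ : ∀ y v, σ y v = χ (Pt.map φ y⁻¹) * v := fun y v => rfl
  have hσa : IsAlg σ := by
    intro ℓ v
    have h2 : IsFun fun y : Pt K B => χ (Pt.map φ y⁻¹) := by
      refine ⟨((1 : Pt K A) F)⁻¹ • HopfAlgebra.antipode K (φ F), fun y => ?_⟩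
      have h3 := hχ (Pt.map φ y⁻¹) ⟨_, rfl⟩
      rw [Pt.map_apply, Pt.inv_apply] at h3
      change χ (Pt.map φ y⁻¹) = y.ofConv _
      rw [map_smul]
      change _ = _ • y (HopfAlgebra.antipode K (φ F))
      rw [h3, smul_eq_mul, mul_comm (χ _), inv_mul_cancel_left₀ h1]
    obtain ⟨a, ha⟩ := h2
    refine ⟨ℓ v • a, fun y => ?_⟩
    rw [Pt.apply_smul, ← ha, hσ, ← smul_eq_mul, map_smul, smul_eq_mul, mul_comm]
  obtain ⟨W, _, _, ρ, f, hρ, hf, hfe⟩ := h σ hσa
  have hw : f 1 ≠ 0 := fun h0 => one_ne_zero (hf (h0.trans (map_zero f).symm))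
  obtain ⟨ℓ, hℓ⟩ := Module.Projective.exists_dual_eq_one K hw
  obtain ⟨E, hE⟩ := hρ ℓ (f 1)
  refine ⟨E, ?_, ?_⟩
  · rintro x _ ⟨y, rfl⟩
    rw [← hE, ← hE, map_mul, Module.End.mul_apply]
    have h2 := hfe y 1
    rw [hσ, mul_one] at h2
    have h3 : f (χ (Pt.map φ y⁻¹)) = χ (Pt.map φ y⁻¹) • f 1 := by
      rw [← map_smul, smul_eq_mul, mul_one]
    have h4 : χ (Pt.map φ y) * χ (Pt.map φ y⁻¹) = 1 := by
      rw [← hmul _ ⟨_, rfl⟩ _ ⟨_, rfl⟩, ← map_mul, mul_inv_cancel, map_one, hone]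
    rw [← h2, h3, map_smul, map_smul, smul_eq_mul, ← mul_assoc]
    have h5 : (Pt.map φ) y = Pt.map φ y := rfl
    rw [h4, one_mul]
  · rw [← hE, map_one, Module.End.one_apply, hℓ]
    exact one_ne_zero

end K495.ObsExt2
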