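import Groth.Agent.Sga3B.RG.RepAlg

/-!
# Observable subgroups, in the language of points

`A` a reduced finitely generated commutative Hopf algebra over the algebraically closed field `K`,
`Pt K A` its group of points.

* `rInv H`: the functions right-invariant under the set of points `H`;
* `IsObs H`: the subgroup `H` is observable: a point which fixes under right translation every
  function right-invariant under `H` lies in `H`;
* `exists_finset`: finitely many invariant functions cut out the observable hull;
* `fixed_of_hull`: the observable hull fixes every `H`-fixed vector of an algebraic representation;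
* `isObs_of_vec`, `IsObs.exists_vec`: `H` is observable iff it is the stabiliser of a vector.
-/

set_option autoImplicit false

universe u w w'

open WithConv TensorProduct Coalgebra

namespace K495.ObsPt

open Groth.Agent.Sga3B.RG

section Basic

variable {K : Type u} [Field K] {A : Type u} [CommRing A] [HopfAlgebra K A]

/-- The functions right-invariant under a set of points. -/
def rInv (H : Set (Pt K A)) : Subalgebra K A where
  carrier := {a | ∀ x : Pt K A, ∀ h ∈ H, (x * h) a = x a}
  mul_mem' {a b} ha hb x h hh := by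
    rw [Pt.apply_mul, Pt.apply_mul, ha x h hh, hb x h hh]
  add_mem' {a b} ha hb x h hh := by
    rw [Pt.apply_add, Pt.apply_add, ha x h hh, hb x h hh]
  algebraMap_mem' c x h hh := by
    rw [Pt.apply_algebraMap, Pt.apply_algebraMap]

lemma mem_rInv {H : Set (Pt K A)} {a : A} :
    a ∈ rInv H ↔ ∀ x : Pt K A, ∀ h ∈ H, (x * h) a = x a := Iff.rfl

lemma rInv_anti {H H' : Set (Pt K A)} (h : H ⊆ H') : rInv H' ≤ rInv H :=
  fun _ ha x y hy => ha x y (h hy)

/-- Left translates of invariant functions are invariant. -/
lemma lTr_mem_rInv {H : Set (Pt K A)} {a : A} (ha : a ∈ rInv H) (g : Pt K A) :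
    lTr g a ∈ rInv H := by
  intro x h hh
  rw [lTr_apply_pt, lTr_apply_pt, ← mul_assoc]
  exact ha _ _ hh

/-- Membership in the observable hull. -/
def InHull (H : Set (Pt K A)) (g : Pt K A) : Prop :=
  ∀ a ∈ rInv H, ∀ x : Pt K A, (x * g) a = x a

lemma inHull_iff {H : Set (Pt K A)} {g : Pt K A} :
    InHull H g ↔ ∀ a ∈ rInv H, g a = (1 : Pt K A) a := by
  constructor
  · intro h a ha
    have := h a ha 1
    rwa [one_mul] at this
  · intro h a ha x
    have := h (lTr x⁻¹ a) (lTr_mem_rInv ha _)
    rwa [lTr_apply_pt, lTr_apply_pt, inv_inv, mul_one] at this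

lemma InHull.of_mem {H : Set (Pt K A)} {g : Pt K A} (h : g ∈ H) : InHull H g :=
  fun _ ha x => ha x g h

/-- `H` is observable. -/
def IsObs (H : Subgroup (Pt K A)) : Prop := ∀ g : Pt K A, InHull (H : Set (Pt K A)) g → g ∈ H

/-- Observable subgroups: invariant functions separate cosets. -/
lemma IsObs.mem_of_eq {H : Subgroup (Pt K A)} (hH : IsObs H) {x y : Pt K A}
    (h : ∀ a ∈ rInv (H : Set (Pt K A)), x a = y a) : x⁻¹ * y ∈ H := by
  apply hH
  rw [inHull_iff]
  intro a ha
  have := h (lTr x a) (lTr_mem_rInv ha _)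
  rw [lTr_apply_pt, lTr_apply_pt, inv_mul_cancel] at this
  exact this.symm

lemma rInv_apply_eq {H : Subgroup (Pt K A)} {a : A} (ha : a ∈ rInv (H : Set (Pt K A)))
    {x y : Pt K A} (h : x⁻¹ * y ∈ H) : y a = x a := by
  have := ha x _ h
  rwa [mul_inv_cancel_left] at this

/-- Finitely many invariant functions cut out the observable hull. -/
theorem exists_finset [IsNoetherianRing A] (H : Set (Pt K A)) :
    ∃ s : Finset A, (↑s : Set A) ⊆ rInv H ∧
      ∀ g : Pt K A, (∀ a ∈ s, g a = (1 : Pt K A) a) → InHull H g := by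
  classical
  let f : A → A := fun a => a - algebraMap K A (counit (R := K) a)
  have h1 : (Submodule.span A (f '' (rInv H : Set A))).FG := IsNoetherian.noetherian _
  obtain ⟨t, ht1, ht2⟩ := Submodule.fg_span_iff_fg_span_finset_subset _ |>.1 h1
  obtain ⟨s, hs1, hs2⟩ := Finset.subset_set_image_iff.1 ht1
  refine ⟨s, hs1, fun g hg => ?_⟩
  rw [inHull_iff]
  intro a ha
  have h2 : f a ∈ Submodule.span A (↑t : Set A) := by
    rw [← ht2]; exact Submodule.subset_span ⟨a, ha, rfl⟩
  have h3 : ∀ b ∈ Submodule.span A (↑t : Set A), g b = 0 := by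
    intro b hb
    induction hb using Submodule.span_induction with
    | mem c hc =>
      rw [← hs2, Finset.coe_image] at hc
      obtain ⟨a', ha', rfl⟩ := hc
      change g (a' - algebraMap K A _) = 0
      rw [Pt.apply_sub, Pt.apply_algebraMap, hg a' ha', Pt.one_apply, sub_self]
    | zero => exact Pt.apply_zero g
    | add x y _ _ hx hy => rw [Pt.apply_add, hx, hy, add_zero]
    | smul x y _ hy => rw [smul_eq_mul, Pt.apply_mul, hy, mul_zero]
  have h4 := h3 _ h2
  change g (a - algebraMap K A _) = 0 at h4
  rw [Pt.apply_sub, Pt.apply_algebraMap, sub_eq_zero] at h4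
  rw [h4, Pt.one_apply]

/-- Vectors fixed by `H` are fixed by the observable hull. -/
theorem fixed_of_hull {V : Type w} [AddCommGroup V] [Module K V]
    {ρ : Representation K (Pt K A) V} (hρ : IsAlg ρ) {H : Set (Pt K A)} {v : V}
    (hv : ∀ h ∈ H, ρ h v = v) {g : Pt K A} (hg : InHull H g) : ρ g v = v := by
  rw [← sub_eq_zero, ← Module.forall_dual_apply_eq_zero_iff K]
  intro ℓ
  obtain ⟨a, ha⟩ := hρ ℓ v
  have h1 : a ∈ rInv H := by
    intro x h hh
    rw [← ha, ← ha, map_mul, Module.End.mul_apply, hv h hh]
  have h2 := (inHull_iff.1 hg) a h1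
  rw [← ha, ← ha, map_one, Module.End.one_apply] at h2
  rw [map_sub, h2, sub_self]

/-- The stabiliser of a vector of an algebraic representation is observable. -/
theorem isObs_of_vec {V : Type w} [AddCommGroup V] [Module K V]
    {ρ : Representation K (Pt K A) V} (hρ : IsAlg ρ) {H : Subgroup (Pt K A)} (v : V)
    (hv : ∀ g, g ∈ H ↔ ρ g v = v) : IsObs H :=
  fun g hg => (hv g).2 (fixed_of_hull hρ (fun h hh => (hv h).1 hh) hg)

end Basic

section AlgClosed

variable {K : Type u} [Field K] {A : Type u} [CommRing A] [HopfAlgebra K A]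
  [IsAlgClosed K] [Algebra.FiniteType K A] [IsReduced A]

lemma mem_rInv_iff_rTr {H : Set (Pt K A)} {a : A} : a ∈ rInv H ↔ ∀ h ∈ H, rTr h a = a := by
  constructor
  · intro ha h hh
    apply eq_of_forall_pt (K := K)
    intro x
    rw [rTr_apply_pt]
    exact ha x h hh
  · intro h x y hy
    rw [← rTr_apply_pt, h y hy]

/-- An observable subgroup is the stabiliser of a vector of a finite-dimensional algebraic
representation. -/
theorem IsObs.exists_vec {H : Subgroup (Pt K A)} (hH : IsObs H) :
    ∃ (V : Type u) (_ : AddCommGroup V) (_ : Module K V) (_ : FiniteDimensional K V)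
      (ρ : Representation K (Pt K A) V) (v : V), IsAlg ρ ∧ ∀ g, g ∈ H ↔ ρ g v = v := by
  classical
  have : IsNoetherianRing A := Algebra.FiniteType.isNoetherianRing K A
  obtain ⟨s, hs1, hs2⟩ := exists_finset (H : Set (Pt K A))
  have : FiniteDimensional K (Submodule.span K (↑s : Set A)) :=
    FiniteDimensional.span_finset K s
  obtain ⟨U, hU1, hU2, hU3, -⟩ := exists_stable (K := K) (Submodule.span K (↑s : Set A))
  let ρ₀ : Representation K (Pt K A) U := (rTrRep K A).subrepresentation U hU3
  have hρ₀ : IsAlg ρ₀ := (isAlg_rTrRep K A).subrepresentation U hU3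
  let ρ : Representation K (Pt K A) (s → U) :=
    { toFun := fun g => LinearMap.pi fun i => ρ₀ g ∘ₗ LinearMap.proj i
      map_one' := LinearMap.ext fun v => funext fun i => by simp
      map_mul' := fun g h => LinearMap.ext fun v => funext fun i => by simp }
  have hρ : ∀ g v i, ρ g v i = ρ₀ g (v i) := fun g v i => rfl
  refine ⟨s → U, inferInstance, inferInstance, inferInstance, ρ,
    fun i => ⟨i, hU2 (Submodule.subset_span i.2)⟩, isAlg_finite_pi hρ₀ hρ, fun g => ?_⟩
  constructor
  · intro hg
    funext i
    rw [hρ]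
    apply Subtype.ext
    exact (mem_rInv_iff_rTr.1 (hs1 i.2)) g hg
  · intro hg
    apply hH
    apply hs2
    intro a ha
    have h1 := congrArg Subtype.val (congrFun hg ⟨a, ha⟩)
    rw [hρ] at h1
    have h2 : rTr g a = a := h1
    have h3 := rTr_apply_pt g 1 a
    rw [h2, one_mul] at h3
    exact h3.symm

end AlgClosed

end K495.ObsPt
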