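import Groth.Agent.AGF.K495.ObsPt
import Groth.Agent.Flat2D.GenFlatRed4
import Mathlib.AlgebraicGeometry.Morphisms.UniversallyOpen

/-!
# Observable subgroups: invariant functions separate points from closed invariant sets

`H` observable, `Z` closed with `Z H ⊆ Z` and `1 ∉ Z`: some function invariant under `H` vanishes
on `Z` but not at `1`.  The proof uses generic flatness (openness of the map from the group to the
spectrum of a finitely generated algebra of invariants separating the cosets) and homogeneity.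
-/

set_option autoImplicit false

universe u w w'

open WithConv TensorProduct Coalgebra Pointwise
open CategoryTheory AlgebraicGeometry

namespace K495.ObsSep

open Groth.Agent.Sga3B.RG K495.ObsPt

variable {K : Type u} [Field K] {A : Type u} [CommRing A] [HopfAlgebra K A]
  [IsAlgClosed K] [Algebra.FiniteType K A] [IsReduced A]

/-- A finitely generated algebra of invariants, stable under left translations, which separates the
cosets. -/
theorem exists_sepAlg {H : Subgroup (Pt K A)} (hH : IsObs H) :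
    ∃ R : Subalgebra K A, R.FG ∧ R ≤ rInv (H : Set (Pt K A)) ∧
      (∀ g : Pt K A, ∀ r ∈ R, lTr g r ∈ R) ∧
      (∀ x y : Pt K A, (∀ r ∈ R, x r = y r) → x⁻¹ * y ∈ H) := by
  classical
  have : IsNoetherianRing A := Algebra.FiniteType.isNoetherianRing K A
  obtain ⟨s, hs1, hs2⟩ := exists_finset (H : Set (Pt K A))
  have : FiniteDimensional K (Submodule.span K (↑s : Set A)) :=
    FiniteDimensional.span_finset K s
  obtain ⟨U, hU1, hU2, -, hU3⟩ := exists_stable (K := K) (Submodule.span K (↑s : Set A))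
  let U₀ : Submodule K A := U ⊓ Subalgebra.toSubmodule (rInv (H : Set (Pt K A)))
  have hU₀s : ∀ g : Pt K A, ∀ a ∈ U₀, lTr g a ∈ U₀ := fun g a ha =>
    ⟨hU3 g ha.1, lTr_mem_rInv ha.2 g⟩
  have hfin : FiniteDimensional K U₀ := Submodule.finiteDimensional_inf_left _ _
  obtain ⟨t, ht⟩ := (Module.Finite.iff_fg (N := U₀)).1 hfin
  refine ⟨Algebra.adjoin K (U₀ : Set A), ⟨t, by rw [← ht, Algebra.adjoin_span]⟩, ?_, ?_, ?_⟩
  · exact Algebra.adjoin_le fun a ha => ha.2
  · intro g r hr
    have h1 : Algebra.adjoin K (U₀ : Set A) ≤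
        (Algebra.adjoin K (U₀ : Set A)).comap (lTr g) :=
      Algebra.adjoin_le fun a ha => Algebra.subset_adjoin (hU₀s g a ha)
    exact h1 hr
  · intro x y hxy
    apply hH
    apply hs2
    intro a ha
    have h1 : lTr x a ∈ U₀ := hU₀s x a ⟨hU2 (Submodule.subset_span ha), hs1 ha⟩
    have h2 := hxy _ (Algebra.subset_adjoin h1)
    rw [lTr_apply_pt, lTr_apply_pt, inv_mul_cancel] at h2
    exact h2.symm

/-- Openness: for a subalgebra `R` of `A` of finite type there are a point `g` and an open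
neighbourhood `D(r)` of its image, `r ∈ R`, over which `Spec A → Spec R` is open. -/
theorem exists_open (R : Subalgebra K A) :
    ∃ (g : Pt K A) (r : R), g (r : A) ≠ 0 ∧
      ∀ W : Set (PrimeSpectrum A), IsOpen W → W ⊆ {p | (r : A) ∉ p.asIdeal} →
        IsOpen (PrimeSpectrum.comap (algebraMap R A) '' W) := by
  let f : Spec (CommRingCat.of A) ⟶ Spec (CommRingCat.of R) :=
    Spec.map (CommRingCat.ofHom (algebraMap R A))
  have hred : _root_.IsReduced R := isReduced_of_injective R.val Subtype.val_injective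
  have hred' : AlgebraicGeometry.IsReduced (Spec (CommRingCat.of R)) :=
    inferInstance
  have hft : LocallyOfFiniteType f := by
    rw [HasRingHomProperty.Spec_iff (P := @LocallyOfFiniteType)]
    have : Algebra.FiniteType R A := Algebra.FiniteType.of_restrictScalars_finiteType K R A
    exact this
  obtain ⟨U, hU1, hU2, hU3⟩ := Groth.Agent.Flat2D.GenFlatRed.exists_dense_flat_fp f
  have hne : (U : Set (Spec (CommRingCat.of R))).Nonempty := by
    have : Nontrivial A := ⟨⟨0, 1, fun h => by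
      have h1 := Pt.apply_one (1 : Pt K A)
      rw [← h, Pt.apply_zero] at h1
      exact zero_ne_one h1⟩⟩
    have : Nonempty (Spec (CommRingCat.of R)) := inferInstanceAs (Nonempty (PrimeSpectrum R))
    exact hU1.nonempty
  obtain ⟨q, hq⟩ := hne
  obtain ⟨_, ⟨r, rfl⟩, hrq, hrU⟩ :=
    PrimeSpectrum.isTopologicalBasis_basic_opens.exists_subset_of_mem_open hq U.isOpen
  have hr0 : (r : A) ≠ 0 := by
    intro h0
    have : r = 0 := Subtype.ext h0
    apply hrq
    rw [this]
    exact q.asIdeal.zero_mem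
  obtain ⟨g, hg⟩ : ∃ g : Pt K A, g (r : A) ≠ 0 := by
    by_contra! hcon
    exact hr0 (eq_zero_of_forall_pt (K := K) hcon)
  refine ⟨g, r, hg, fun W hW hWr => ?_⟩
  -- the restricted map is open
  have hopen : IsOpenMap ((f ⁻¹ᵁ U).ι ≫ f) := by
    rw [← morphismRestrict_ι]
    have h1 : UniversallyOpen (f ∣_ U ≫ U.ι) := inferInstance
    exact Scheme.Hom.isOpenMap _
  have hWU : W ⊆ (f ⁻¹ᵁ U : Set (Spec (CommRingCat.of A))) := by
    intro p hp
    apply hrU
    exact hWr hp
  have h2 : PrimeSpectrum.comap (algebraMap R A) '' W =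
      ((f ⁻¹ᵁ U).ι ≫ f) '' ((f ⁻¹ᵁ U).ι ⁻¹' W) := by
    ext y
    constructor
    · rintro ⟨p, hp, rfl⟩
      have hp' : p ∈ Set.range (f ⁻¹ᵁ U).ι := by
        rw [Scheme.Opens.range_ι]
        exact hWU hp
      obtain ⟨p', rfl⟩ := hp'
      exact ⟨p', hp, rfl⟩
    · rintro ⟨p', hp, rfl⟩
      exact ⟨_, hp, rfl⟩
  rw [h2]
  exact hopen _ (hW.preimage (f ⁻¹ᵁ U).ι.continuous)

/-- The point of the spectrum defined by a rational point. -/
def pp (g : Pt K A) : PrimeSpectrum A := ⟨RingHom.ker g.ofConv, RingHom.ker_isPrime _⟩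

omit [IsAlgClosed K] [Algebra.FiniteType K A] [IsReduced A] in
lemma mem_pp {g : Pt K A} {a : A} : a ∈ (pp g).asIdeal ↔ g a = 0 := Iff.rfl

/-- **Separation**: `H` observable, `Z` closed, right `H`-stable, not containing `1`: there is an
`H`-invariant function vanishing on `Z` and not at `1`. -/
theorem exists_sep {H : Subgroup (Pt K A)} (hH : IsObs H) {Z : Set (Pt K A)} (hZ : IsCl Z)
    (hZH : ∀ z ∈ Z, ∀ h ∈ H, z * h ∈ Z) (h1 : (1 : Pt K A) ∉ Z) :
    ∃ a ∈ rInv (H : Set (Pt K A)), (∀ z ∈ Z, z a = 0) ∧ (1 : Pt K A) a ≠ 0 := by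
  obtain ⟨R, -, hR2, hR3, hR4⟩ := exists_sepAlg hH
  obtain ⟨g, r, hgr, hop⟩ := exists_open (K := K) R
  -- the translate `g Z`
  let Z' : Set (Pt K A) := {z | g⁻¹ * z ∈ Z}
  have hZ'cl : IsCl Z' := by
    have h2 := hZ.smul g
    have h3 : (g • Z : Set (Pt K A)) = Z' := by
      ext z
      rw [Set.mem_smul_set_iff_inv_smul_mem]
      rfl
    rwa [h3] at h2
  have hgZ' : g ∉ Z' := by
    intro h
    apply h1
    have : g⁻¹ * g ∈ Z := h
    rwa [inv_mul_cancel] at this
  have hZ'H : ∀ z ∈ Z', ∀ h ∈ H, z * h ∈ Z' := by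
    intro z hz h hh
    change g⁻¹ * (z * h) ∈ Z
    rw [← mul_assoc]
    exact hZH _ hz h hh
  -- the open set
  let W : Set (PrimeSpectrum A) := {p | (r : A) ∉ p.asIdeal} ∩ {p | ¬ vanIdeal Z' ≤ p.asIdeal}
  have hW : IsOpen W := by
    apply IsOpen.inter
    · exact (PrimeSpectrum.basicOpen (r : A)).isOpen
    · have : {p : PrimeSpectrum A | ¬ vanIdeal Z' ≤ p.asIdeal} =
          (PrimeSpectrum.zeroLocus (vanIdeal Z' : Set A))ᶜ := by
        ext p; rfl
      rw [this]
      exact (PrimeSpectrum.isClosed_zeroLocus _).isOpen_compl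
  have hopen := hop W hW (fun p hp => hp.1)
  have hgW : pp g ∈ W := by
    refine ⟨hgr, fun hle => hgZ' (hZ'cl ?_)⟩
    intro a ha
    exact hle ha
  obtain ⟨_, ⟨t, rfl⟩, hgt, htW⟩ :=
    PrimeSpectrum.isTopologicalBasis_basic_opens.exists_subset_of_mem_open
      (Set.mem_image_of_mem (PrimeSpectrum.comap (algebraMap R A)) hgW) hopen
  have hgt' : g (t : A) ≠ 0 := hgt
  have htZ : ∀ z ∈ Z', z (t : A) = 0 := by
    intro z hz
    by_contra hne
    have hmem : PrimeSpectrum.comap (algebraMap R A) (pp z) ∈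
        (PrimeSpectrum.basicOpen t : Set (PrimeSpectrum R)) := hne
    obtain ⟨q, hq, hqz⟩ := htW hmem
    obtain ⟨c, hcZ, hcq⟩ := SetLike.not_le_iff_exists.1 hq.2
    obtain ⟨w, hw1, hw2⟩ := exists_algHom_of_notMem_of_isPrime (K := K) (J := q.asIdeal) hcq
    have hwz : ∀ s ∈ R, z s = (toConv w : Pt K A) s := by
      intro s hs
      have e1 : (s - algebraMap K A (z s)) ∈ q.asIdeal := by
        have e2 : (⟨s, hs⟩ - algebraMap K R (z s) : R) ∈
            (PrimeSpectrum.comap (algebraMap R A) (pp z)).asIdeal := by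
          change z ((⟨s, hs⟩ - algebraMap K R (z s) : R) : A) = 0
          change z (s - algebraMap K A (z s)) = 0
          rw [Pt.apply_sub, Pt.apply_algebraMap, sub_self]
        rw [← hqz] at e2
        exact e2
      have e3 := hw1 _ e1
      rw [map_sub, AlgHom.commutes, sub_eq_zero] at e3
      exact e3.symm
    have hzw : z⁻¹ * toConv w ∈ H := hR4 _ _ hwz
    have hw3 := hZ'H z hz _ hzw
    rw [mul_inv_cancel_left] at hw3
    exact hw2 (hcZ _ hw3)
  refine ⟨lTr g⁻¹ (t : A), lTr_mem_rInv (hR2 t.2) _, ?_, ?_⟩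
  · intro z hz
    rw [lTr_apply_pt, inv_inv]
    apply htZ
    change g⁻¹ * (g * z) ∈ Z
    rwa [inv_mul_cancel_left]
  · rw [lTr_apply_pt, inv_inv, mul_one]
    exact hgt'

end K495.ObsSep
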