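import Groth.Agent.AGF.K495.Bridge2
import Groth.Agent.Agf.H584.QBasic
import Groth.Agent.FlatB.GeomRed
import Mathlib.AlgebraicGeometry.Morphisms.Proper

/-!
# Functions on a group invariant under a subgroup with proper quotient
-/

set_option autoImplicit false
set_option linter.unusedSectionVars false

universe u

open CategoryTheory MonoidalCategory CartesianMonoidalCategory MonObj GrpObj AlgebraicGeometry
open scoped TensorProduct

namespace K495.ProperQ

open Groth.Agent.Books.AffBridge Groth.Agent.Books.AffBridge2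
open Groth.Agent.Sga3B.RG Groth.Agent.Sga3B.RG.BrPts K495.ObsPt K495.Bridge

variable {k : Type u} [Field k] [IsAlgClosed k]

/-- Global functions on a proper variety are constant. -/
theorem exists_const {X : Over (Spec (CommRingCat.of k))} [IsIntegral X.left] [IsProper X.hom]
    (s : Γ(X.left, ⊤)) :
    ∃ c : k, s = X.hom.appTop ((Scheme.ΓSpecIso (CommRingCat.of k)).inv c) := by
  have h1 : X.hom.appTop.hom.Finite := finite_appTop_of_universallyClosed k X.hom
  let f : k →+* Γ(X.left, ⊤) :=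
    X.hom.appTop.hom.comp (Scheme.ΓSpecIso (CommRingCat.of k)).inv.hom
  have hinv : Function.Surjective (Scheme.ΓSpecIso (CommRingCat.of k)).inv :=
    ((ConcreteCategory.isIso_iff_bijective (Scheme.ΓSpecIso (CommRingCat.of k)).inv).1
      inferInstance).2
  have h2 : f.Finite := h1.comp (RingHom.Finite.of_surjective _ hinv)
  let _ : Algebra k Γ(X.left, ⊤) := f.toAlgebra
  have h3 : Module.Finite k Γ(X.left, ⊤) := h2
  have h4 : Algebra.IsIntegral k Γ(X.left, ⊤) := inferInstance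
  obtain ⟨c, hc⟩ := (IsAlgClosed.algebraMap_bijective_of_isIntegral (k := k)
    (K := Γ(X.left, ⊤))).2 s
  exact ⟨c, hc.symm⟩

/-- The values of a global function on a proper variety at two points agree. -/
theorem ev_eq_of_proper {X : Over (Spec (CommRingCat.of k))} [IsIntegral X.left] [IsProper X.hom]
    (s : Γ(X.left, ⊤)) (x y : VecGrp.pt k k ⟶ X) : ev x s = ev y s := by
  obtain ⟨c, rfl⟩ := exists_const s
  have h : ∀ z : VecGrp.pt k k ⟶ X, z.left.appTop (X.hom.appTop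
      ((Scheme.ΓSpecIso (CommRingCat.of k)).inv c)) =
      (VecGrp.pt k k).hom.appTop ((Scheme.ΓSpecIso (CommRingCat.of k)).inv c) := by
    intro z
    have h1 := Over.w z
    rw [← h1, Scheme.Hom.comp_appTop]
    rfl
  rw [ev, ev, h, h]

variable {H₁ H₂ : Over (Spec (CommRingCat.of k))} [GrpObj H₁] [GrpObj H₂] [IsAffine H₂.left]
  [Smooth H₂.hom] [IsAffine H₁.left] [Smooth H₁.hom] (i₁ : H₁ ⟶ H₂) [IsMonHom i₁]
  {X : Over (Spec (CommRingCat.of k))} (a : AlgGrp.Action H₂ X)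
  (o : 𝟙_ (Over (Spec (CommRingCat.of k))) ⟶ X)
  {B : Type u} [CommRing B] [HopfAlgebra k B] (e₂ : H₂ ≅ SpecOver k B) [IsMonHom e₂.hom]

/-- Invariant functions descend to the quotient. -/
theorem exists_desc_fn (hX : AGF.IsQuotient i₁ X a o) {b : B}
    (hb : b ∈ rInv (psub e₂ i₁ : Set (Pt k B))) :
    ∃ s : Γ(X.left, ⊤), ∀ t : VecGrp.pt k k ⟶ H₂,
      ptE e₂ k t b = ev (t ≫ a.orbitMap o) s := by
  have hQ := Groth.Agent.Agf.H584.QBasic.isQ_of_isQuotient hX
  let α : Polynomial k →ₐ[k] B := Polynomial.aeval b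
  let φ : H₂ ⟶ SpecOver k (Polynomial k) := e₂.hom ≫ specMap k α
  have hsep : IsSeparated (SpecOver k (Polynomial k)).hom :=
    inferInstanceAs (IsSeparated (Spec.map (CommRingCat.ofHom (algebraMap k (Polynomial k)))))
  have hred : AlgebraicGeometry.IsReduced (H₂ ⊗ H₁).left :=
    Groth.Agent.Books.AlgPtsSmooth.isReduced_of_smooth (H₂ ⊗ H₁)
  have hpt : ∀ t : VecGrp.pt k k ⟶ H₂, t ≫ φ = specMap k ((ptE e₂ k t).ofConv.comp α) := by
    intro t
    have h1 := specMap_ptE e₂ t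
    rw [specMap_comp, h1]
    rfl
  have key : (H₂ ◁ i₁) ≫ μ[H₂] ≫ φ = fst H₂ H₁ ≫ φ := by
    apply hom_ext_of_points
    intro z
    let z' : VecGrp.pt k k ⟶ H₂ ⊗ H₁ := ((unitIso k).inv ≫ z : SpecOver k k ⟶ H₂ ⊗ H₁)
    have h0 : ∀ (f g : H₂ ⊗ H₁ ⟶ SpecOver k (Polynomial k)), z' ≫ f = z' ≫ g →
        z ≫ f = z ≫ g := by
      intro f g hfg
      have h1 : ((unitIso k).inv ≫ z) ≫ f = ((unitIso k).inv ≫ z) ≫ g := hfg
      have h2 := congrArg (fun w => (unitIso k).hom ≫ w) h1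
      rw [Category.assoc, Category.assoc, Iso.hom_inv_id_assoc, Iso.hom_inv_id_assoc] at h2
      exact h2
    apply h0
    have h2 : z' ≫ (H₂ ◁ i₁) ≫ μ[H₂] = (z' ≫ fst H₂ H₁) * ((z' ≫ snd H₂ H₁) ≫ i₁) := by
      have h3 : z' = lift (z' ≫ fst H₂ H₁) (z' ≫ snd H₂ H₁) := by
        rw [← comp_lift, lift_fst_snd, Category.comp_id]
      conv_lhs => rw [h3, ← Category.assoc, lift_whiskerLeft]
      rfl
    have h4 : z' ≫ (H₂ ◁ i₁) ≫ μ[H₂] ≫ φ =
        ((z' ≫ fst H₂ H₁) * ((z' ≫ snd H₂ H₁) ≫ i₁)) ≫ φ := by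
      rw [← h2, Category.assoc, Category.assoc]
    rw [h4, ← Category.assoc z' (fst H₂ H₁) φ, hpt, hpt]
    congr 1
    apply Polynomial.algHom_ext
    rw [AlgHom.comp_apply, AlgHom.comp_apply, Polynomial.aeval_X, map_mul]
    exact hb _ _ ⟨z' ≫ snd H₂ H₁, rfl⟩
  obtain ⟨ψ, hψ⟩ := hQ.desc φ (by
    intro T g x
    have h1 : lift g x ≫ (H₂ ◁ i₁) ≫ μ[H₂] ≫ φ = lift g x ≫ fst H₂ H₁ ≫ φ :=
      congrArg (fun f => lift g x ≫ f) key
    have h2 : lift g x ≫ (H₂ ◁ i₁) ≫ μ[H₂] ≫ φ = (g * (x ≫ i₁)) ≫ φ := by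
      rw [← Category.assoc, lift_whiskerLeft, ← Category.assoc (lift g (x ≫ i₁)) μ[H₂] φ]
      rfl
    have h3 : lift g x ≫ fst H₂ H₁ ≫ φ = g ≫ φ := by
      rw [← Category.assoc (lift g x) (fst H₂ H₁) φ, lift_fst]
    rw [← h2, h1, h3])
  refine ⟨ψ.left.appTop ((Scheme.ΓSpecIso (CommRingCat.of (Polynomial k))).inv Polynomial.X),
    fun t => ?_⟩
  rw [← ev_comp]
  have h1 : (t ≫ a.orbitMap o) ≫ ψ = specMap k ((ptE e₂ k t).ofConv.comp α) := by
    rw [Category.assoc, hψ, hpt]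
  have h3 : specMap k ((ptE e₂ k t).ofConv.comp α) ≫ (Iso.refl (SpecOver k (Polynomial k))).inv =
    specMap k ((ptE e₂ k t).ofConv.comp α) := Category.comp_id _
  have h2 : ev (specMap k ((ptE e₂ k t).ofConv.comp α) :
      VecGrp.pt k k ⟶ SpecOver k (Polynomial k))
      ((Scheme.ΓSpecIso (CommRingCat.of (Polynomial k))).inv Polynomial.X) =
      ((ptE e₂ k t).ofConv.comp α) (fn (Iso.refl (SpecOver k (Polynomial k)))
        ((Scheme.ΓSpecIso (CommRingCat.of (Polynomial k))).inv Polynomial.X)) :=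
    (congrArg (fun w : SpecOver k k ⟶ SpecOver k (Polynomial k) =>
      ev (w : VecGrp.pt k k ⟶ SpecOver k (Polynomial k))
      ((Scheme.ΓSpecIso (CommRingCat.of (Polynomial k))).inv Polynomial.X)) h3.symm).trans
      (ev_specMap (Iso.refl (SpecOver k (Polynomial k))) ((ptE e₂ k t).ofConv.comp α)
      ((Scheme.ΓSpecIso (CommRingCat.of (Polynomial k))).inv Polynomial.X))
  rw [h1, h2]
  have h4 : fn (Iso.refl (SpecOver k (Polynomial k)))
      ((Scheme.ΓSpecIso (CommRingCat.of (Polynomial k))).inv Polynomial.X) = Polynomial.X := by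
    rw [fn_apply]
    have h5 : (Iso.refl (SpecOver k (Polynomial k))).inv.left.appTop
      ((Scheme.ΓSpecIso (CommRingCat.of (Polynomial k))).inv Polynomial.X) =
      ((Scheme.ΓSpecIso (CommRingCat.of (Polynomial k))).inv Polynomial.X) := by
      change (𝟙 (SpecOver k (Polynomial k)).left : _ ⟶ _).appTop _ = _
      rw [Scheme.Hom.id_appTop]
      rfl
    rw [h5]
    exact congrArg (fun (F : CommRingCat.of (Polynomial k) ⟶ CommRingCat.of (Polynomial k)) =>
      F Polynomial.X) (Scheme.ΓSpecIso (CommRingCat.of (Polynomial k))).inv_hom_id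
  rw [h4, AlgHom.comp_apply, Polynomial.aeval_X]

/-- Functions on `H₂` invariant under `H₁` are constant if `H₂ / H₁` is proper and irreducible. -/
theorem apply_eq_of_proper (hX : AGF.IsQuotient i₁ X a o) [IsProper X.hom]
    [IrreducibleSpace X.left] {b : B} (hb : b ∈ rInv (psub e₂ i₁ : Set (Pt k B)))
    (s t : Pt k B) : s b = t b := by
  have hf : Flat (a.orbitMap o).left := hX.2.1
  have hs : Surjective (a.orbitMap o).left := hX.2.2.1
  have hred2 : AlgebraicGeometry.IsReduced H₂.left :=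
    Groth.Agent.Books.AlgPtsSmooth.isReduced_of_smooth H₂
  have hred : AlgebraicGeometry.IsReduced X.left :=
    Groth.Agent.FlatB.GeomRed.isReduced_of_flat_of_surjective (a.orbitMap o).left
  have hint : IsIntegral X.left := isIntegral_of_irreducibleSpace_of_isReduced X.left
  obtain ⟨f, hf⟩ := exists_desc_fn i₁ a o e₂ hX hb
  obtain ⟨s, rfl⟩ := (ptE e₂ k).surjective s
  obtain ⟨t, rfl⟩ := (ptE e₂ k).surjective t
  exact (hf s).trans ((ev_eq_of_proper f _ _).trans (hf t).symm)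

end K495.ProperQ
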