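import Groth.Agent.AGF.K495.ProperQ
import Groth.Agent.AGF.K495.ObsSep
import Groth.Agent.Desc.LqfQAff
import Groth.Agent.Agf.H586.QuotSep
import Groth.Agent.Agf.H609.MaxTorSch
import Mathlib.AlgebraicGeometry.QuasiAffine

/-!
# Observable subgroups and quasi-affine quotients
-/

set_option autoImplicit false
set_option linter.unusedSectionVars false

universe u

open CategoryTheory MonoidalCategory CartesianMonoidalCategory MonObj GrpObj AlgebraicGeometry
open scoped TensorProduct

namespace K495.QAff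

open Groth.Agent.Books.AffBridge Groth.Agent.Books.AffBridge2 Groth.Agent.Books.AlgPts
open Groth.Agent.Sga3B.RG Groth.Agent.Sga3B.RG.BrPts K495.ObsPt K495.Bridge

variable {k : Type u} [Field k] [IsAlgClosed k]

/-- A morphism injective on rational points is quasi-finite. -/
theorem locallyQuasiFinite_of_pts {X Y : Over (Spec (CommRingCat.of k))}
    [LocallyOfFiniteType X.hom] [LocallyOfFiniteType Y.hom] (f : X ⟶ Y)
    (hinj : ∀ x y : 𝟙_ (Over (Spec (CommRingCat.of k))) ⟶ X, x ≫ f = y ≫ f → x = y) :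
    LocallyQuasiFinite f.left := by
  have hlft : LocallyOfFiniteType f.left := by
    have : LocallyOfFiniteType (f.left ≫ Y.hom) := by rw [Over.w]; infer_instance
    exact locallyOfFiniteType_of_comp f.left Y.hom
  rw [← Scheme.Hom.quasiFiniteLocus_eq_top_iff]
  by_contra hne
  have hne' : ((f.left.quasiFiniteLocus : Set X.left)ᶜ).Nonempty := by
    rw [Set.nonempty_compl]
    intro h
    exact hne (TopologicalSpace.Opens.ext h)
  obtain ⟨x, hx⟩ := exists_pt_mem (X := X) hne'
    f.left.quasiFiniteLocus.isOpen.isClosed_compl.isLocallyClosed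
  apply hx
  change f.left.QuasiFiniteAt (pt x)
  rw [Scheme.Hom.quasiFiniteAt_iff_isOpen_singleton_asFiber]
  have hcl : IsClosed (f.left ⁻¹' {f.left (pt x)}) := by
    rw [← pt_comp]
    exact (isClosed_pt (x ≫ f)).preimage f.left.continuous
  have hsub : f.left ⁻¹' {f.left (pt x)} ⊆ {pt x} := by
    refine subset_of_forall_pt hcl.isLocallyClosed (isClosed_pt x) fun y hy => ?_
    have h1 : f.left (pt y) = f.left (pt x) := hy
    rw [← pt_comp, ← pt_comp] at h1
    rw [hinj y x (pt_injective h1)]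
    rfl
  have huniv : ({f.left.asFiber (pt x)} : Set (f.left.fiber (f.left (pt x)))) = Set.univ := by
    apply Set.eq_univ_of_forall
    intro z
    rw [Set.mem_singleton_iff]
    apply (f.left.fiberHomeo (f.left (pt x))).injective
    apply Subtype.ext
    have h1 := hsub (f.left.fiberHomeo (f.left (pt x)) z).2
    have h2 := hsub (f.left.fiberHomeo (f.left (pt x)) (f.left.asFiber (pt x))).2
    rw [Set.mem_singleton_iff] at h1 h2
    rw [h1, h2]
  rw [huniv]
  exact isOpen_univ

variable {G H : Over (Spec (CommRingCat.of k))} [GrpObj G] [GrpObj H] [IsAffine G.left]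
  [Smooth G.hom] [IsAffine H.left] [Smooth H.hom] (i : H ⟶ G) [IsMonHom i]
  {X : Over (Spec (CommRingCat.of k))} (a : AlgGrp.Action G X)
  (o : 𝟙_ (Over (Spec (CommRingCat.of k))) ⟶ X)
  {A : Type u} [CommRing A] [HopfAlgebra k A] (e : G ≅ SpecOver k A) [IsMonHom e.hom]

/-- Maps to affine schemes given by invariant functions descend to the quotient. -/
theorem exists_desc (hX : AGF.IsQuotient i X a o) {C : Type u} [CommRing C] [Algebra k C]
    (α : C →ₐ[k] A) (hα : ∀ c, α c ∈ rInv (psub e i : Set (Pt k A))) :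
    ∃ ψ : X ⟶ SpecOver k C, a.orbitMap o ≫ ψ = e.hom ≫ specMap k α := by
  have hQ := Groth.Agent.Agf.H584.QBasic.isQ_of_isQuotient hX
  let φ : G ⟶ SpecOver k C := e.hom ≫ specMap k α
  have hsep : IsSeparated (SpecOver k C).hom :=
    inferInstanceAs (IsSeparated (Spec.map (CommRingCat.ofHom (algebraMap k C))))
  have hred : AlgebraicGeometry.IsReduced (G ⊗ H).left :=
    Groth.Agent.Books.AlgPtsSmooth.isReduced_of_smooth (G ⊗ H)
  have hpt : ∀ t : VecGrp.pt k k ⟶ G, t ≫ φ = specMap k ((ptE e k t).ofConv.comp α) := by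
    intro t
    have h1 := specMap_ptE e t
    rw [specMap_comp, h1]
    rfl
  have key : (G ◁ i) ≫ μ[G] ≫ φ = fst G H ≫ φ := by
    apply hom_ext_of_points
    intro z
    let z' : VecGrp.pt k k ⟶ G ⊗ H := ((unitIso k).inv ≫ z : SpecOver k k ⟶ G ⊗ H)
    have h0 : ∀ (f g : G ⊗ H ⟶ SpecOver k C), z' ≫ f = z' ≫ g →
        z ≫ f = z ≫ g := by
      intro f g hfg
      have h1 : ((unitIso k).inv ≫ z) ≫ f = ((unitIso k).inv ≫ z) ≫ g := hfg
      have h2 := congrArg (fun w => (unitIso k).hom ≫ w) h1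
      rw [Category.assoc, Category.assoc, Iso.hom_inv_id_assoc, Iso.hom_inv_id_assoc] at h2
      exact h2
    apply h0
    have h2 : z' ≫ (G ◁ i) ≫ μ[G] = (z' ≫ fst G H) * ((z' ≫ snd G H) ≫ i) := by
      have h3 : z' = lift (z' ≫ fst G H) (z' ≫ snd G H) := by
        rw [← comp_lift, lift_fst_snd, Category.comp_id]
      conv_lhs => rw [h3, ← Category.assoc, lift_whiskerLeft]
      rfl
    have h4 : z' ≫ (G ◁ i) ≫ μ[G] ≫ φ =
        ((z' ≫ fst G H) * ((z' ≫ snd G H) ≫ i)) ≫ φ := by
      rw [← h2, Category.assoc, Category.assoc]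
    rw [h4, ← Category.assoc z' (fst G H) φ, hpt, hpt]
    congr 1
    apply AlgHom.ext
    intro c
    rw [AlgHom.comp_apply, AlgHom.comp_apply, map_mul]
    exact hα c _ _ ⟨z' ≫ snd G H, rfl⟩
  obtain ⟨ψ, hψ⟩ := hQ.desc φ (by
    intro T g x
    have h1 : lift g x ≫ (G ◁ i) ≫ μ[G] ≫ φ = lift g x ≫ fst G H ≫ φ :=
      congrArg (fun f => lift g x ≫ f) key
    have h2 : lift g x ≫ (G ◁ i) ≫ μ[G] ≫ φ = (g * (x ≫ i)) ≫ φ := by
      rw [← Category.assoc, lift_whiskerLeft, ← Category.assoc (lift g (x ≫ i)) μ[G] φ]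
      rfl
    have h3 : lift g x ≫ fst G H ≫ φ = g ≫ φ := by
      rw [← Category.assoc (lift g x) (fst G H) φ, lift_fst]
    rw [← h2, h1, h3])
  exact ⟨ψ, hψ⟩

/-- If the quotient is quasi-affine the subgroup is observable. -/
theorem isObservableIn_of_isQuasiAffine (hX : AGF.IsQuotient i X a o)
    (hq : X.left.IsQuasiAffine) : AGF.IsObservableIn k i := by
  have hQ := Groth.Agent.Agf.H584.QBasic.isQ_of_isQuotient hX
  intro g hg
  have hmono : Mono X.left.toSpecΓ := inferInstance
  have h1 : ∀ s : Γ(X.left, ⊤), ev (g ≫ a.orbitMap o) s =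
      ev ((1 : VecGrp.pt k k ⟶ G) ≫ a.orbitMap o) s := by
    intro s
    have h2 : AGF.IsRTransInv i ((a.orbitMap o).left.appTop s) := by
      rw [isRTransInv_iff]
      intro x t
      rw [← ev_comp, ← ev_comp, hQ.mul_comp]
    have h3 := (isRTransInv_pt_iff g _).1 (hg _ h2) 1
    rw [_root_.one_mul, ← ev_comp, ← ev_comp] at h3
    exact h3
  have h2 : (g ≫ a.orbitMap o).left.appTop =
      ((1 : VecGrp.pt k k ⟶ G) ≫ a.orbitMap o).left.appTop := by
    ext s
    exact (ev_eq_iff _ _ _ _).1 (h1 s)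
  have h3 : g ≫ a.orbitMap o = (1 : VecGrp.pt k k ⟶ G) ≫ a.orbitMap o := by
    apply Over.OverMorphism.ext
    rw [← cancel_mono X.left.toSpecΓ, Scheme.toSpecΓ_naturality, Scheme.toSpecΓ_naturality, h2]
  obtain ⟨h, hh⟩ := (hQ.eq_iff _ _).1 h3.symm
  exact ⟨h, by rw [hh, _root_.one_mul]⟩

/-- **The quotient by an observable subgroup is quasi-affine.** -/
theorem isQuasiAffine_of_isObs [Algebra.FiniteType k A] [_root_.IsReduced A]
    [IsClosedImmersion i.left] (hX : AGF.IsQuotient i X a o) (hobs : IsObs (psub e i)) :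
    X.left.IsQuasiAffine := by
  have hQ := Groth.Agent.Agf.H584.QBasic.isQ_of_isQuotient hX
  obtain ⟨R, hRfg, hRle, -, hsep⟩ := K495.ObsSep.exists_sepAlg hobs
  obtain ⟨ψ, hψ⟩ := exists_desc i a o e hX R.val (fun c => hRle c.2)
  have hlft : LocallyOfFiniteType X.hom := hX.1
  have hft : Algebra.FiniteType k R := R.fg_iff_finiteType.1 hRfg
  have hlftR : LocallyOfFiniteType (SpecOver k R).hom :=
    (locallyOfFiniteType_specOver_iff k R).2 hft
  have hsurj : Surjective (a.orbitMap o).left := hX.2.2.1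
  have hqf : LocallyQuasiFinite ψ.left := by
    apply locallyQuasiFinite_of_pts ψ
    intro x y hxy
    obtain ⟨s, rfl⟩ := Groth.Agent.Agf.H609.MaxTorSch.exists_lift_pt (a.orbitMap o) x
    obtain ⟨t, rfl⟩ := Groth.Agent.Agf.H609.MaxTorSch.exists_lift_pt (a.orbitMap o) y
    let s' : VecGrp.pt k k ⟶ G := ((unitIso k).inv ≫ s : SpecOver k k ⟶ G)
    let t' : VecGrp.pt k k ⟶ G := ((unitIso k).inv ≫ t : SpecOver k k ⟶ G)
    have h1 : s' ≫ e.hom ≫ specMap k R.val = t' ≫ e.hom ≫ specMap k R.val := by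
      rw [← hψ]
      change ((unitIso k).inv ≫ s) ≫ a.orbitMap o ≫ ψ = ((unitIso k).inv ≫ t) ≫ a.orbitMap o ≫ ψ
      rw [Category.assoc, Category.assoc, ← Category.assoc s, ← Category.assoc t, hxy]
    have hpt : ∀ t : VecGrp.pt k k ⟶ G,
        t ≫ e.hom ≫ specMap k R.val = specMap k ((ptE e k t).ofConv.comp R.val) := by
      intro t
      have h1 := specMap_ptE e t
      rw [specMap_comp, h1]
      rfl
    have h2 : (ptE e k s').ofConv.comp R.val = (ptE e k t').ofConv.comp R.val := by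
      rw [hpt, hpt] at h1
      exact specMap_injective k h1
    have h3 := hsep (ptE e k s') (ptE e k t') fun r hr => DFunLike.congr_fun h2 ⟨r, hr⟩
    rw [← map_inv, ← map_mul, ptE_mem_psub] at h3
    obtain ⟨h, hh⟩ := h3
    have h4 : t' = s' * (h ≫ i) := by rw [hh, mul_inv_cancel_left]
    have h5 : t' ≫ a.orbitMap o = s' ≫ a.orbitMap o := by rw [h4, hQ.mul_comp]
    have h6 : (unitIso k).inv ≫ (t ≫ a.orbitMap o) = (unitIso k).inv ≫ (s ≫ a.orbitMap o) := by
      have h7 : ((unitIso k).inv ≫ t) ≫ a.orbitMap o = ((unitIso k).inv ≫ s) ≫ a.orbitMap o := h5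
      rwa [Category.assoc, Category.assoc] at h7
    exact ((cancel_epi _).1 h6).symm
  have hsepX : IsSeparated X.hom :=
    Groth.Agent.Agf.H586.QuotSep.isSeparated_of_isQuotient i a o hX
  have h1 : IsSeparated ψ.left := by
    have : IsSeparated (ψ.left ≫ (SpecOver k R).hom) := by rw [Over.w]; infer_instance
    exact IsSeparated.of_comp ψ.left (SpecOver k R).hom
  have h2 : LocallyOfFiniteType ψ.left := by
    have : LocallyOfFiniteType (ψ.left ≫ (SpecOver k R).hom) := by rw [Over.w]; infer_instance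
    exact locallyOfFiniteType_of_comp ψ.left (SpecOver k R).hom
  have hcG : CompactSpace G.left := inferInstance
  have hcX : CompactSpace X.left := by
    refine ⟨?_⟩
    have h3 := isCompact_range (a.orbitMap o).left.continuous
    rwa [(a.orbitMap o).left.surjective.range_eq] at h3
  have hqc : QuasiCompact X.hom := (quasiCompact_iff_compactSpace _).2 hcX
  have h3 : QuasiCompact ψ.left := Groth.Agent.Agf.H584.QBasic.quasiCompact_left ψ
  have h4 := Groth.Agent.Desc.LqfQAff.isQuasiAffine_of_locallyQuasiFinite ψ.left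
  have haff : IsAffine (SpecOver k R).left := inferInstanceAs (IsAffine (Spec _))
  have h5 : IsAffine ψ.left.normalization :=
    isAffine_of_isAffineHom ψ.left.fromNormalization
  exact Scheme.IsQuasiAffine.of_isImmersion ψ.left.toNormalization

end K495.QAff
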