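import Groth.Agent.AGF.K493.Perf
import Groth.Agent.AGF.K493.SolvU
import Groth.Agent.Agf.H593.UnipRad
import Groth.Agent.Agf.H593.QuotPt
import Groth.Agent.Sga3B.RG.RedExt885
import Groth.Agent.AGF.K495.ObsMore
import Groth.Agent.AGF.K495.Chars
import Groth.Agent.Sga3B.RG.BorConj838

/-!
# The radical, characters of finite order and observability

* `exists_rad`: the radical of the group of points;
* `isObs_of_normal`: closed normal subgroups are observable;
* `char_eq_one`: on a connected group, a character trivial on the radical is trivial;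
* `exists_pow_eq_one`: on any group, a character trivial on the radical has finite order;
* `isObs_of_rad`: a subgroup is observable if its radical is.
-/

set_option autoImplicit false
set_option linter.unusedSectionVars false

universe u

open WithConv TensorProduct Coalgebra

namespace K495.Rad

open Groth.Agent.Sga3B.RG Groth.Agent.Sga3B.Parab.BorelPts172
open Groth.Agent.Agf.H593.UnipRad Groth.Agent.Agf.H593.QuotPt
open K495.ObsPt K495.ObsExt K495.ObsMore

variable {K : Type u} [Field K] {A : Type u} [CommRing A] [HopfAlgebra K A]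
  [IsAlgClosed K] [Algebra.FiniteType K A]

variable (K A) in
/-- The radical of the group of points. -/
theorem exists_rad [IsReduced A] : ∃ R : Subgroup (Pt K A), R.Normal ∧ IsCCS R ∧
    ∀ N : Subgroup (Pt K A), N.Normal → IsCCS N → N ≤ R := by
  obtain ⟨R, ⟨h1, h2⟩, h3⟩ := exists_maximal_isConn (K := K) (A := A)
    (fun N => N.Normal ∧ IsCCS N) ⟨⊥, inferInstance, isCCS_bot⟩
    (fun N h => ⟨h.2.isCl, h.2.isConn⟩)
  refine ⟨R, h1, h2, fun N hN hN' => ?_⟩
  have h4 : IsCCS (clSub (N ⊔ R)) := hN'.sup h2 (by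
    rw [Subgroup.normalizer_eq_top_iff.2 h1]; exact le_top)
  have h5 : (clSub (N ⊔ R)).Normal := BcPt.normal_clSub (Subgroup.sup_normal N R)
  rw [← h3 _ ⟨h5, h4⟩ (le_sup_right.trans (le_clSub _))]
  exact le_sup_left.trans (le_clSub _)

/-- Closed normal subgroups are observable. -/
theorem isObs_of_normal [IsReduced A] {N : Subgroup (Pt K A)} (hn : N.Normal)
    (hcl : IsCl (N : Set (Pt K A))) : IsObs N := by
  obtain ⟨C, _, _, φ, hC, hinj, hs, hker⟩ := exists_quotient N hcl hn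
  intro g hg
  rw [← hker, MonoidHom.mem_ker]
  rw [inHull_iff] at hg
  apply WithConv.ofConv_injective
  apply AlgHom.ext
  intro c
  have h1 : φ c ∈ rInv (N : Set (Pt K A)) := by
    intro x h hh
    rw [← hker] at hh
    rw [← Pt.map_apply, ← Pt.map_apply, map_mul, (MonoidHom.mem_ker.1 hh), mul_one]
  have h2 := hg _ h1
  rw [← Pt.map_apply, ← Pt.map_apply, map_one] at h2
  exact h2

section chars

/-- The kernel of a character. -/
def charKer (c : A) (h1 : (1 : Pt K A) c = 1) (hc : ∀ y z : Pt K A, (y * z) c = y c * z c) :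
    Subgroup (Pt K A) where
  carrier := {x | x c = 1}
  one_mem' := h1
  mul_mem' := fun {x y} hx hy => by
    change (x * y) c = 1
    rw [hc, show x c = 1 from hx, show y c = 1 from hy, one_mul]
  inv_mem' := fun {x} hx => by
    change x⁻¹ c = 1
    have h2 := hc x⁻¹ x
    rw [inv_mul_cancel, h1, show x c = 1 from hx, mul_one] at h2
    exact h2.symm

lemma mem_charKer {c : A} {h1 : (1 : Pt K A) c = 1} {hc : ∀ y z : Pt K A, (y * z) c = y c * z c}
    {x : Pt K A} : x ∈ charKer c h1 hc ↔ x c = 1 := Iff.rfl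

lemma isCl_charKer {c : A} {h1 : (1 : Pt K A) c = 1}
    {hc : ∀ y z : Pt K A, (y * z) c = y c * z c} :
    IsCl (charKer c h1 hc : Set (Pt K A)) := by
  have h2 : (charKer c h1 hc : Set (Pt K A)) = {x | x (c - 1) = 0} := by
    ext x
    change x c = 1 ↔ x (c - 1) = 0
    rw [Pt.apply_sub, Pt.apply_one, sub_eq_zero]
  rw [h2]
  exact isCl_setOf_apply_eq_zero _

lemma comm_mem_charKer {c : A} {h1 : (1 : Pt K A) c = 1}
    {hc : ∀ y z : Pt K A, (y * z) c = y c * z c} (g h : Pt K A) :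
    g * h * g⁻¹ * h⁻¹ ∈ charKer c h1 hc := by
  rw [mem_charKer, hc, hc, hc]
  have h2 := hc g g⁻¹
  have h3 := hc h h⁻¹
  rw [mul_inv_cancel, h1] at h2 h3
  calc g c * h c * g⁻¹ c * h⁻¹ c = (g c * g⁻¹ c) * (h c * h⁻¹ c) := by ring
    _ = 1 := by rw [← h2, ← h3, one_mul]

lemma charKer_normal {c : A} {h1 : (1 : Pt K A) c = 1}
    {hc : ∀ y z : Pt K A, (y * z) c = y c * z c} : (charKer c h1 hc).Normal := by
  constructor
  intro x hx g
  rw [mem_charKer, hc, hc, show x c = 1 from hx, mul_one, ← hc, mul_inv_cancel, h1]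

/-- Unipotent elements are killed by characters. -/
lemma char_of_isUnip [IsReduced A] {c : A} (h1 : (1 : Pt K A) c = 1)
    (hc : ∀ y z : Pt K A, (y * z) c = y c * z c) {g : Pt K A} (hg : IsUnip g) : g c = 1 := by
  obtain ⟨n, hn⟩ := hg c
  have h2 : ∀ m : ℕ, (((rTr g).toLinearMap - 1) ^ m) c = (g c - 1) ^ m • c := by
    intro m
    induction m with
    | zero => rw [pow_zero, pow_zero, one_smul]; rfl
    | succ m ih =>
      rw [pow_succ', Module.End.mul_apply, ih, map_smul]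
      have h3 : ((rTr g).toLinearMap - 1) c = (g c - 1) • c := by
        apply eq_of_forall_pt (K := K)
        intro x
        have h4 : ((rTr g).toLinearMap - 1) c = rTr g c - c := rfl
        rw [h4, Pt.apply_sub, rTr_apply_pt, hc, Pt.apply_smul]
        ring
      rw [h3, smul_smul, pow_succ]
  rw [h2] at hn
  have h3 : (1 : Pt K A) ((g c - 1) ^ n • c) = (1 : Pt K A) 0 := by rw [hn]
  have h4 : (1 : Pt K A) ((g c - 1) ^ n • c) = (g c - 1) ^ n := by
    rw [Pt.apply_smul, h1, mul_one]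
  rw [h4, Pt.apply_zero] at h3
  exact sub_eq_zero.1 (eq_zero_of_pow_eq_zero h3)

/-- A character of a connected group trivial on the radical is trivial. -/
theorem char_eq_one [IsDomain A] {c : A} (h1 : (1 : Pt K A) c = 1)
    (hc : ∀ y z : Pt K A, (y * z) c = y c * z c)
    (hR : ∀ N : Subgroup (Pt K A), N.Normal → IsCCS N → ∀ x ∈ N, x c = 1) (x : Pt K A) :
    x c = 1 := by
  obtain ⟨R, hRn, hRc, hRm⟩ := exists_rad K A
  obtain ⟨C, _, _, φ, hC, hinj, hs, hker⟩ := exists_quotient R hRc.isCl hRn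
  have hdomC : IsDomain C := hinj.isDomain (φ : C →+* A)
  -- normal closed connected solvable subgroups of the quotient are trivial
  have htriv : ∀ N : Subgroup (Pt K C), N.Normal → IsCCS N → N = ⊥ := by
    intro N hN hN'
    have hPcl : IsCl ((N.comap (Pt.map φ) : Subgroup (Pt K A)) : Set (Pt K A)) :=
      hN'.isCl.preimage_map φ
    have hmap : (N.comap (Pt.map φ)).map (Pt.map φ) = N :=
      Subgroup.map_comap_eq_self_of_surjective hs N
    have hPs := isSolvable_comap (Pt.map φ) hN'.isSolvable (by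
      rw [hker]; exact hRc.isSolvable)
    have h0 : IsCCS (idComp (N.comap (Pt.map φ))) := by
      refine ⟨isCl_idComp _, isConn_idComp _, ?_⟩
      exact Group.isSolvable_of_isSolvable_injective (f := Subgroup.inclusion (idComp_le hPcl))
        (Subgroup.inclusion_injective _)
    have hn0 : (idComp (N.comap (Pt.map φ))).Normal := normal_idComp hPcl (hN.comap _)
    have h3 := map_idComp φ hPcl (by rw [hmap]; exact hN'.isConn)
    rw [hmap] at h3
    rw [← h3, eq_bot_iff]
    rintro _ ⟨y, hy, rfl⟩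
    have h4 := hRm _ hn0 h0 hy
    rw [← hker] at h4
    exact h4
  have hss : BcPt.IsSsPt K C := by
    constructor
    · intro N hN hcl hconn hu
      exact htriv N hN (K493.SolvU.isCCS_of_isUnip hcl hconn hu)
    · intro T hT hT'
      exact htriv T hT (BorConj838.isCCS_of_isTorusSub hT')
  have hle : R ≤ charKer c h1 hc := fun y hy => hR R hRn hRc y hy
  have h5 : (charKer c h1 hc).map (Pt.map φ) = ⊤ := by
    apply K493.Perf.eq_top_of_isSsPt hss
    · exact Subgroup.Normal.map charKer_normal _ hs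
    · exact Groth.Agent.Agf.H593.QuotPt.isCl_map φ isCl_charKer
    · intro g h
      obtain ⟨g, rfl⟩ := hs g
      obtain ⟨h, rfl⟩ := hs h
      exact ⟨g * h * g⁻¹ * h⁻¹, comm_mem_charKer g h, by simp⟩
  have h6 : Pt.map φ x ∈ (charKer c h1 hc).map (Pt.map φ) := by rw [h5]; trivial
  obtain ⟨y, hy, hyx⟩ := h6
  have h7 : y⁻¹ * x ∈ (Pt.map φ).ker := by
    rw [MonoidHom.mem_ker, map_mul, map_inv, hyx, inv_mul_cancel]
  rw [hker] at h7
  have h8 := (charKer c h1 hc).mul_mem hy (hle h7)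
  rwa [mul_inv_cancel_left] at h8

/-- A character trivial on the radical has finite order. -/
theorem exists_pow_eq_one [IsReduced A] {c : A} (h1 : (1 : Pt K A) c = 1)
    (hc : ∀ y z : Pt K A, (y * z) c = y c * z c)
    (hR : ∀ N : Subgroup (Pt K A), N.Normal → IsCCS N → ∀ x ∈ N, x c = 1) :
    ∃ m : ℕ, m ≠ 0 ∧ ∀ x : Pt K A, (x c) ^ m = 1 := by
  classical
  let N₀ : Subgroup (Pt K A) := idComp ⊤
  have hN : IsCl (N₀ : Set (Pt K A)) := isCl_idComp _
  have hNc : IsConn (N₀ : Set (Pt K A)) := isConn_idComp _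
  have hNn : N₀.Normal := normal_idComp (by rw [Subgroup.coe_top]; exact isCl_univ) inferInstance
  have hNf : N₀.index ≠ 0 := by
    rw [← Subgroup.relIndex_top_right]
    exact relIndex_idComp_ne_zero (by rw [Subgroup.coe_top]; exact isCl_univ)
  have hJp : (vanIdeal (N₀ : Set (Pt K A))).IsPrime := hNc
  have hdom : IsDomain (A ⧸ vanIdeal (N₀ : Set (Pt K A))) := Ideal.Quotient.isDomain _
  let q := quotMap (K := K) (vanIdeal (N₀ : Set (Pt K A)))
  have hqinj : Function.Injective q := quotMap_injective _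
  have hr : q.range = N₀ := range_quotMap_vanIdeal N₀ hN
  have hqa : ∀ x, (q x) c = x (Ideal.Quotient.mk _ c) := fun x => rfl
  obtain ⟨R', hR'n, hR'c, hR'm⟩ := exists_rad K (A ⧸ vanIdeal (N₀ : Set (Pt K A)))
  have hmapc : IsCCS (R'.map q) := isCCS_map _ hR'c
  have hmapn : (R'.map q).Normal := by
    constructor
    rintro _ ⟨x, hx, rfl⟩ g
    -- the conjugate subgroup
    let S : Subgroup (Pt K A) := (R'.map q).map (MulAut.conj g).toMonoidHom
    have hScoe : (S : Set (Pt K A)) = (fun x => g * x * g⁻¹) '' (R'.map q : Set (Pt K A)) := rfl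
    have hSN : S ≤ N₀ := by
      rintro _ ⟨_, ⟨z, hz, rfl⟩, rfl⟩
      exact hNn.conj_mem _ (hr.le ⟨z, rfl⟩) g
    have hScl : IsCl (S : Set (Pt K A)) := by rw [hScoe]; exact hmapc.isCl.conj g
    have hSconn : IsConn (S : Set (Pt K A)) := by rw [hScoe]; exact hmapc.isConn.conj g
    have hSsol : Group.IsSolvable S := by
      have := hmapc.isSolvable
      exact Group.isSolvable_of_surjective
        (f := (MulAut.conj g).toMonoidHom.subgroupMap (R'.map q))
        ((MulAut.conj g).toMonoidHom.subgroupMap_surjective (R'.map q))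
    have hSmap : (S.comap q).map q = S := by
      rw [Subgroup.map_comap_eq, hr]
      exact inf_eq_right.2 hSN
    have hccs : IsCCS (S.comap q) := by
      refine ⟨hScl.preimage_map _, ?_, ?_⟩
      · apply isConn_of_image_map (φ := Bialgebra.Quotient.mkBialgHom _)
          Ideal.Quotient.mk_surjective
        have : (Pt.map (Bialgebra.Quotient.mkBialgHom (R := K) (vanIdeal (N₀ : Set (Pt K A)))) ''
            (S.comap q : Set _)) = ((S.comap q).map q : Set (Pt K A)) := rfl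
        rw [this, hSmap]
        exact hSconn
      · exact Group.isSolvable_of_isSolvable_injective (f := q.subgroupComap S)
          (fun a b hab => Subtype.ext (hqinj (congrArg Subtype.val hab)))
    have hnorm : (S.comap q).Normal := by
      constructor
      rintro y ⟨_, ⟨r, hr', rfl⟩, hry⟩ z
      have h2 : g⁻¹ * q z * g ∈ q.range := by
        rw [hr]
        have := hNn.conj_mem (q z) (hr.le ⟨z, rfl⟩) g⁻¹
        rwa [inv_inv] at this
      obtain ⟨w, hw⟩ := h2
      refine ⟨q (w * r * w⁻¹), ⟨_, hR'n.conj_mem r hr' w, rfl⟩, ?_⟩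
      have h3 : g * q r * g⁻¹ = q y := hry
      change g * q (w * r * w⁻¹) * g⁻¹ = q (z * y * z⁻¹)
      rw [map_mul, map_mul, map_mul, map_mul, map_inv, map_inv, ← h3, hw]
      group
    have h4 := hR'm _ hnorm hccs
    have h5 : g * q x * g⁻¹ ∈ S := ⟨q x, ⟨x, hx, rfl⟩, rfl⟩
    rw [← hSmap] at h5
    obtain ⟨y, hy, hyx⟩ := h5
    exact ⟨y, h4 hy, hyx⟩
  have hfinal : ∀ x : Pt K (A ⧸ vanIdeal (N₀ : Set (Pt K A))), (q x) c = 1 := by
    intro x
    rw [hqa]
    refine char_eq_one (A := A ⧸ vanIdeal (N₀ : Set (Pt K A))) ?_ ?_ ?_ x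
    · rw [← hqa, map_one]; exact h1
    · intro y z
      rw [← hqa, ← hqa, ← hqa, map_mul]
      exact hc _ _
    · intro M hM hM' y hy
      rw [← hqa]
      exact hR _ hmapn hmapc _ ⟨y, hR'm M hM hM' hy, rfl⟩
  have hpow : ∀ (x : Pt K A) (n : ℕ), (x ^ n) c = (x c) ^ n := by
    intro x n
    induction n with
    | zero => rw [pow_zero, pow_zero]; exact h1
    | succ n ih => rw [pow_succ, hc, ih, pow_succ]
  refine ⟨N₀.index, hNf, fun x => ?_⟩
  rw [← hpow]
  have h2 : x ^ N₀.index ∈ q.range := by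
    rw [hr]
    exact Subgroup.pow_index_mem N₀ x
  obtain ⟨y, hy⟩ := h2
  rw [← hy]
  exact hfinal y

end chars

section main

open K495.ExtRep

/-- The determinant of a stable subspace, as a function on the group. -/
theorem exists_det {V : Type*} [AddCommGroup V] [Module K V] [FiniteDimensional K V]
    {ρ : Representation K (Pt K A) V} (hρ : IsAlg ρ) (L : Subgroup (Pt K A)) (W : Submodule K V)
    (hW : W ≠ ⊥) (hst : ∀ h ∈ L, ∀ a ∈ W, ρ h a ∈ W) :
    ∃ (n : ℕ) (D : A), n ≠ 0 ∧ (1 : Pt K A) D = 1 ∧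
      (∀ x : Pt K A, ∀ h ∈ L, (x * h) D = h D * x D) ∧
      ∀ r ∈ L, ∀ t : K, (∀ a ∈ W, ρ r a = t • a) → r D = t ^ n := by
  classical
  let b : Module.Basis (Fin (Module.finrank K W)) K W := Module.finBasis K W
  obtain ⟨n, hn⟩ : ∃ n, n = Module.finrank K W := ⟨_, rfl⟩
  rw [← hn] at b
  have hn0 : n ≠ 0 := by
    intro h0
    rw [h0] at hn
    exact hW (Submodule.finrank_eq_zero.1 hn.symm)
  let v : Fin n → V := fun i => (b i : V)
  have hv : LinearIndependent K v := b.linearIndependent.map' W.subtype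
    (Submodule.ker_subtype W)
  have hw0 : exteriorPower.ιMulti K n v ≠ 0 := ιMulti_ne_zero hv
  have hwt : ∀ h ∈ L, ∃ t : K,
      extRep ρ n h (exteriorPower.ιMulti K n v) = t • exteriorPower.ιMulti K n v := by
    intro h hh
    let M : Matrix (Fin n) (Fin n) K := fun i j => b.repr ⟨ρ h (v i), hst h hh _ (b i).2⟩ j
    refine ⟨M.det, extRep_ιMulti_eq ρ fun i => ?_⟩
    have h2 := b.sum_repr ⟨ρ h (v i), hst h hh _ (b i).2⟩
    have h3 := congrArg (W.subtype) h2
    rw [map_sum] at h3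
    exact h3.symm
  obtain ⟨ℓ, hℓ⟩ := Module.Projective.exists_dual_eq_one K hw0
  obtain ⟨D, hD⟩ := (isAlg_extRep hρ n) ℓ (exteriorPower.ιMulti K n v)
  have hwt' : ∀ h ∈ L,
      extRep ρ n h (exteriorPower.ιMulti K n v) = h D • exteriorPower.ιMulti K n v := by
    intro h hh
    obtain ⟨t, ht⟩ := hwt h hh
    rw [← hD, ht, map_smul, hℓ, smul_eq_mul, mul_one]
  refine ⟨n, D, hn0, ?_, ?_, ?_⟩
  · rw [← hD, map_one, Module.End.one_apply, hℓ]
  · intro x h hh
    rw [← hD, map_mul, Module.End.mul_apply, hwt' h hh, map_smul, map_smul, hD, smul_eq_mul]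
  · intro r hr t ht
    have h2 : extRep ρ n r (exteriorPower.ιMulti K n v) =
        (Matrix.diagonal fun _ : Fin n => t).det • exteriorPower.ιMulti K n v := by
      apply extRep_ιMulti_eq
      intro i
      have h3 : ρ r (v i) = t • v i := ht _ (b i).2
      rw [h3, Finset.sum_eq_single i]
      · rw [Matrix.diagonal_apply_eq]
      · intro j _ hj
        rw [Matrix.diagonal_apply_ne _ (Ne.symm hj), zero_smul]
      · intro h; exact absurd (Finset.mem_univ _) h
    rw [← hD, h2, map_smul, hℓ, smul_eq_mul, mul_one, Matrix.det_diagonal, Finset.prod_const,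
      Finset.card_univ, Fintype.card_fin]

variable [IsReduced A] {B : Type u} [CommRing B] [HopfAlgebra K B] [Algebra.FiniteType K B]
  [IsReduced B]

/-- The function attached to a weight of the radical. -/
theorem exists_weight {φ : A →ₐc[K] B} {R : Subgroup (Pt K B)} (hRn : R.Normal)
    (χ : Pt K A → K)
    (hχ1 : ∀ g h, g ∈ (Pt.map (K := K) φ).range → h ∈ (Pt.map (K := K) φ).range →
      χ (g * h) = χ g * χ h)
    (hχ0 : ∀ g, g ∈ (Pt.map (K := K) φ).range → χ g ≠ 0) {E : A} (hE0 : E ≠ 0)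
    (hE : ∀ x : Pt K A, ∀ r ∈ R.map (Pt.map φ), χ r * (x * r) E = x E) :
    ∃ (n : ℕ) (D : A), n ≠ 0 ∧ (1 : Pt K A) D = 1 ∧
      (∀ x : Pt K A, ∀ h ∈ (Pt.map (K := K) φ).range, (x * h) D = h D * x D) ∧
      ∀ r ∈ R.map (Pt.map φ), χ r ^ n * r D = 1 := by
  have hone : χ 1 = 1 := by
    have h2 := hχ1 1 1 (one_mem _) (one_mem _)
    rw [mul_one] at h2
    exact (mul_eq_left₀ (hχ0 1 (one_mem _))).1 h2.symm
  have hRle : ∀ r ∈ R.map (Pt.map φ), r ∈ (Pt.map (K := K) φ).range := by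
    rintro _ ⟨y, -, rfl⟩; exact ⟨y, rfl⟩
  obtain ⟨U, hU, hEU, hUst, -⟩ := exists_stable (K := K) (Submodule.span K {E})
  let W : Submodule K U :=
    { carrier := {a | ∀ x : Pt K A, ∀ r ∈ R.map (Pt.map φ), χ r * (x * r) (a : A) = x (a : A)}
      add_mem' := fun {a b} ha hb x r hr => by
        rw [Submodule.coe_add, Pt.apply_add, Pt.apply_add, mul_add, ha x r hr, hb x r hr]
      zero_mem' := fun x r hr => by
        rw [Submodule.coe_zero, Pt.apply_zero, Pt.apply_zero, mul_zero]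
      smul_mem' := fun t a ha x r hr => by
        rw [Submodule.coe_smul, Pt.apply_smul, Pt.apply_smul, ← ha x r hr]; ring }
  have hEW : (⟨E, hEU (Submodule.mem_span_singleton_self E)⟩ : U) ∈ W := fun x r hr => hE x r hr
  obtain ⟨n, D, h1, h2, h3, h4⟩ := exists_det
    (ρ := (rTrRep K A).subrepresentation U hUst) ((isAlg_rTrRep K A).subrepresentation U hUst)
    (Pt.map (K := K) φ).range W (by
      intro h0
      rw [h0, Submodule.mem_bot] at hEW
      exact hE0 (congrArg Subtype.val hEW)) (by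
      rintro _ ⟨y, rfl⟩ a ha x _ ⟨r, hr, rfl⟩
      change χ _ * (x * _) (rTr (Pt.map φ y) (a : A)) = x (rTr (Pt.map φ y) (a : A))
      rw [rTr_apply_pt, rTr_apply_pt]
      have h2 : y⁻¹ * r * y ∈ R := by
        have := hRn.conj_mem r hr y⁻¹
        rwa [inv_inv] at this
      have h3 := ha (x * Pt.map φ y) (Pt.map φ (y⁻¹ * r * y)) ⟨_, h2, rfl⟩
      have h4 : χ (Pt.map φ (y⁻¹ * r * y)) = χ (Pt.map φ r) := by
        rw [map_mul, map_mul, hχ1 _ _ (mul_mem ⟨_, rfl⟩ ⟨_, rfl⟩) ⟨_, rfl⟩,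
          hχ1 _ _ ⟨_, rfl⟩ ⟨_, rfl⟩]
        have h5 : χ (Pt.map φ y⁻¹) * χ (Pt.map φ y) = 1 := by
          rw [← hχ1 _ _ ⟨_, rfl⟩ ⟨_, rfl⟩, ← map_mul, inv_mul_cancel, map_one, hone]
        calc χ (Pt.map φ y⁻¹) * χ (Pt.map φ r) * χ (Pt.map φ y) =
            χ (Pt.map φ r) * (χ (Pt.map φ y⁻¹) * χ (Pt.map φ y)) := by ring
          _ = _ := by rw [h5, mul_one]
      have h5 : x * Pt.map φ y * Pt.map φ (y⁻¹ * r * y) = x * Pt.map φ r * Pt.map φ y := by
        rw [map_mul, map_mul, map_inv]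
        group
      rw [h4, h5] at h3
      exact h3)
  refine ⟨n, D, h1, h2, h3, fun r hr => ?_⟩
  have hχr := hχ0 r (hRle r hr)
  rw [h4 r (hRle r hr) (χ r)⁻¹ fun a ha => ?_]
  · rw [inv_pow, mul_inv_cancel₀ (pow_ne_zero _ hχr)]
  · apply Subtype.ext
    apply eq_of_forall_pt (K := K)
    intro x
    change x (rTr r (a : A)) = x ((χ r)⁻¹ • (a : A))
    rw [rTr_apply_pt, Pt.apply_smul, ← ha x r hr, inv_mul_cancel_left₀ hχr]

/-- **A subgroup whose radical is observable is observable.** -/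
theorem invExt_of_rad {φ : A →ₐc[K] B} {R : Subgroup (Pt K B)} (hRn : R.Normal)
    (hRm : ∀ N : Subgroup (Pt K B), N.Normal → IsCCS N → N ≤ R)
    (hobs : InvExt (R.map (Pt.map φ))) : InvExt (Pt.map (K := K) φ).range := by
  intro χ F hF hF1
  have hχF : ∀ h ∈ (Pt.map (K := K) φ).range, h F = χ h * (1 : Pt K A) F := by
    intro h hh
    have := hF 1 h hh
    rwa [one_mul] at this
  have hmul : ∀ h h', h ∈ (Pt.map (K := K) φ).range → h' ∈ (Pt.map (K := K) φ).range →
      χ (h * h') = χ h * χ h' := by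
    intro h h' hh hh'
    apply mul_right_cancel₀ hF1
    rw [← hχF _ (mul_mem hh hh'), hF h h' hh', hχF h hh]
    ring
  have hone : χ 1 = 1 := by
    apply mul_right_cancel₀ hF1
    rw [← hχF 1 (one_mem _), one_mul]
  have hRle : ∀ r ∈ R.map (Pt.map φ), r ∈ (Pt.map (K := K) φ).range := by
    rintro _ ⟨y, -, rfl⟩; exact ⟨y, rfl⟩
  have hχne : ∀ h, h ∈ (Pt.map (K := K) φ).range → χ h ≠ 0 := by
    intro h hh h0
    have h2 := hmul h h⁻¹ hh (inv_mem hh)
    rw [mul_inv_cancel, hone, h0, zero_mul] at h2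
    exact one_ne_zero h2
  obtain ⟨E, hE, hE1⟩ := hobs χ F (fun x r hr => hF x r (hRle r hr)) hF1
  obtain ⟨n, D, hn, hD1, hDm, hDr⟩ := exists_weight (φ := φ) hRn χ hmul hχne
    (E := E) (by rintro rfl; exact hE1 (Pt.apply_zero _)) hE
  -- the character of finite order
  let c : B := φ ((((1 : Pt K A) F)⁻¹ • F) ^ n * D)
  have hcy : ∀ y : Pt K B, y c = χ (Pt.map φ y) ^ n * (Pt.map φ y) D := by
    intro y
    have h2 : ∀ (z : Pt K A) (a : A) (m : ℕ), z (a ^ m) = z a ^ m := fun z a m =>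
      map_pow z.ofConv a m
    rw [← Pt.map_apply, Pt.apply_mul, h2, Pt.apply_smul, hχF _ ⟨y, rfl⟩, mul_comm (χ _),
      inv_mul_cancel_left₀ hF1]
  obtain ⟨m, hm0, hm⟩ := exists_pow_eq_one (A := B) (c := c)
    (by rw [hcy, map_one, hone, hD1, one_pow, one_mul])
    (by
      intro y z
      rw [hcy, hcy, hcy, map_mul, hmul _ _ ⟨_, rfl⟩ ⟨_, rfl⟩, hDm _ _ ⟨_, rfl⟩, mul_pow]
      ring)
    (by
      intro N hN hN' x hx
      rw [hcy]
      exact hDr _ ⟨x, hRm N hN hN' hx, rfl⟩)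
  have hpw : ∀ (z : Pt K A) (a : A) (m : ℕ), z (a ^ m) = z a ^ m := fun z a m =>
    map_pow z.ofConv a m
  refine ⟨F ^ (n * m - 1) * D ^ m, ?_, ?_⟩
  · rintro x _ ⟨y, rfl⟩
    have h2 := hm y
    rw [hcy, mul_pow, ← pow_mul] at h2
    have h3 : n * m = (n * m - 1) + 1 :=
      (Nat.succ_pred_eq_of_ne_zero (mul_ne_zero hn hm0)).symm
    have h4 : (Pt.map φ) y = Pt.map φ y := rfl
    rw [Pt.apply_mul, Pt.apply_mul, hpw, hpw, hpw, hpw, hF x _ ⟨y, rfl⟩, hDm x _ ⟨y, rfl⟩,
      mul_pow, mul_pow]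
    rw [h3, pow_succ] at h2
    calc χ (Pt.map φ y) * (χ (Pt.map φ y) ^ (n * m - 1) * x F ^ (n * m - 1) *
          ((Pt.map φ y) D ^ m * x D ^ m)) =
        (χ (Pt.map φ y) ^ (n * m - 1) * χ (Pt.map φ y) * (Pt.map φ y) D ^ m) *
          (x F ^ (n * m - 1) * x D ^ m) := by ring
      _ = x F ^ (n * m - 1) * x D ^ m := by rw [h2, one_mul]
  · rw [Pt.apply_mul, hpw, hpw, hD1, one_pow, mul_one]
    exact pow_ne_zero _ hF1

/-- **A subgroup all of whose characters have finite order is observable.** -/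
theorem invExt_of_rad_unip {φ : A →ₐc[K] B}
    (hu : ∀ N : Subgroup (Pt K B), N.Normal → IsCCS N → ∀ g ∈ N, IsUnip g) :
    InvExt (Pt.map (K := K) φ).range := by
  intro χ F hF hF1
  have hχF : ∀ h ∈ (Pt.map (K := K) φ).range, h F = χ h * (1 : Pt K A) F := by
    intro h hh
    have := hF 1 h hh
    rwa [one_mul] at this
  have hmul : ∀ h h', h ∈ (Pt.map (K := K) φ).range → h' ∈ (Pt.map (K := K) φ).range →
      χ (h * h') = χ h * χ h' := by
    intro h h' hh hh'
    apply mul_right_cancel₀ hF1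
    rw [← hχF _ (mul_mem hh hh'), hF h h' hh', hχF h hh]
    ring
  have hone : χ 1 = 1 := by
    apply mul_right_cancel₀ hF1
    rw [← hχF 1 (one_mem _), one_mul]
  let c : B := φ (((1 : Pt K A) F)⁻¹ • F)
  have hcy : ∀ y : Pt K B, y c = χ (Pt.map φ y) := by
    intro y
    rw [← Pt.map_apply, Pt.apply_smul, hχF _ ⟨y, rfl⟩, mul_comm (χ _),
      inv_mul_cancel_left₀ hF1]
  have hc1 : (1 : Pt K B) c = 1 := by rw [hcy, map_one, hone]
  have hcm : ∀ y z : Pt K B, (y * z) c = y c * z c := by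
    intro y z
    rw [hcy, hcy, hcy, map_mul, hmul _ _ ⟨_, rfl⟩ ⟨_, rfl⟩]
  obtain ⟨m, hm0, hm⟩ := exists_pow_eq_one (A := B) (c := c) hc1 hcm
    (fun N hN hN' x hx => char_of_isUnip hc1 hcm (hu N hN hN' x hx))
  have hpw : ∀ (z : Pt K A) (a : A) (m : ℕ), z (a ^ m) = z a ^ m := fun z a m =>
    map_pow z.ofConv a m
  refine ⟨F ^ (m - 1), ?_, ?_⟩
  · rintro x _ ⟨y, rfl⟩
    have h2 := hm y
    rw [hcy] at h2
    have h3 : m = (m - 1) + 1 := (Nat.succ_pred_eq_of_ne_zero hm0).symm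
    rw [hpw, hpw, hF x _ ⟨y, rfl⟩, mul_pow]
    rw [h3, pow_succ] at h2
    calc χ (Pt.map φ y) * (χ (Pt.map φ y) ^ (m - 1) * x F ^ (m - 1)) =
        (χ (Pt.map φ y) ^ (m - 1) * χ (Pt.map φ y)) * x F ^ (m - 1) := by ring
      _ = x F ^ (m - 1) := by rw [h2, one_mul]
  · rw [hpw]
    exact pow_ne_zero _ hF1

end main

end K495.Rad
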