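import Groth.Agent.AGF.K495.Rad
import Groth.Agent.AGF.K495.Bridge2
import Groth.Agent.AGF.K495.FGPt
import Groth.Agent.AGF.K501.RadSch

/-!
# Radicals of subgroups and observability: the scheme side

* `psub_eq_ptsSub`;
* `isRad_psub`: the rational points of a radical;
* `isObservableIn_of_rad`.
-/

set_option autoImplicit false
set_option linter.unusedSectionVars false

universe u

open CategoryTheory MonoidalCategory CartesianMonoidalCategory MonObj GrpObj AlgebraicGeometry
open scoped TensorProduct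

namespace K495.RadSch

open Groth.Agent.Books.AffBridge Groth.Agent.Books.AffBridge2
open Groth.Agent.Sga3B.RG Groth.Agent.Sga3B.RG.BrPts K495.ObsPt K495.ObsExt K495.Bridge K495.Rad
open Groth.Agent.Sga3B.Parab.BorelPts172

variable {k : Type u} [Field k] {A : Type u} [CommRing A] [HopfAlgebra k A]
  {G : Over (Spec (CommRingCat.of k))} [GrpObj G] (e : G ≅ SpecOver k A) [IsMonHom e.hom]
  {H : Over (Spec (CommRingCat.of k))} [GrpObj H] (i : H ⟶ G) [IsMonHom i]

lemma psub_eq_ptsSub : psub e i = ptsSub (i ≫ e.hom) := by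
  ext p
  rw [mem_psub, mem_ptsSub]
  constructor
  · rintro ⟨h, rfl⟩
    refine ⟨(unitIso k).hom ≫ h, ?_⟩
    change _ = (unitIso k).hom ≫ specMap k (ptE e k (h ≫ i)).ofConv
    rw [specMap_ptE, Category.assoc]
    rfl
  · rintro ⟨n, hn⟩
    refine ⟨(unitIso k).inv ≫ n, ?_⟩
    apply (rptEquiv k A k).injective
    rw [rptEquiv_apply, specMap_ptE]
    change ((unitIso k).inv ≫ n) ≫ i ≫ e.hom = specMap k p.ofConv
    rw [Category.assoc, hn]
    exact (unitIso k).inv_hom_id_assoc _

variable [IsAlgClosed k] [Algebra.FiniteType k A] [_root_.IsReduced A]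

/-- The radical on rational points. -/
structure IsRadPt (R : Subgroup (Pt k A)) : Prop where
  normal : R.Normal
  isCCS : IsCCS R
  max : ∀ N : Subgroup (Pt k A), N.Normal → IsCCS N → N ≤ R

lemma isCCS_psub [IsClosedImmersion i.left] [Smooth H.hom] [ConnectedSpace H.left]
    (h : Red.IsSolvableGrp H) : IsCCS (psub e i) := by
  have h1 : IsIso e.hom.left := (Over.forget _).map_isIso e.hom
  have h2 : IsClosedImmersion (i ≫ e.hom).left := by
    rw [Over.comp_left]; infer_instance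
  rw [psub_eq_ptsSub]
  exact ⟨(exists_iso_vanIdeal (i ≫ e.hom)).1, isConn_ptsSub (i ≫ e.hom),
    (isSolvableGrp_iff (i ≫ e.hom)).1 h⟩

lemma isRadPt_psub [Smooth G.hom] [Smooth H.hom] [ConnectedSpace H.left] [IsClosedImmersion i.left]
    (hn : AlgGrp.IsNormalHom i) (hsol : Red.IsSolvableGrp H)
    (hmax : ∀ (R' : Over (Spec (CommRingCat.of k))) [GrpObj R'] (r' : R' ⟶ G) [IsMonHom r'],
      IsClosedImmersion r'.left → Smooth R'.hom →
      ConnectedSpace R'.left → AlgGrp.IsNormalHom r' → Red.IsSolvableGrp R' →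
        ∃ f : R' ⟶ H, f ≫ i = r') : IsRadPt (psub e i) := by
  refine ⟨?_, isCCS_psub e i hsol, ?_⟩
  · rw [psub_eq_ptsSub]
    exact (K501.RadSch.isNormalHom_iff e i).1 hn
  · intro N hN hN'
    obtain ⟨R', _, r', _, h1, h2, h3, h4⟩ := K501.RadSch.exists_sub e hN'.isCl
    have h5 := h4 hN'.isConn
    have h6 : IsIso e.hom.left := (Over.forget _).map_isIso e.hom
    have h7 : IsClosedImmersion (r' ≫ e.hom).left := by
      rw [Over.comp_left]; infer_instance
    obtain ⟨f, hf⟩ := hmax R' r' h1 h2 h5 ((K501.RadSch.isNormalHom_iff e r').2 (h3 ▸ hN))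
      ((isSolvableGrp_iff (r' ≫ e.hom)).2 (h3 ▸ hN'.isSolvable))
    rw [← h3, ← psub_eq_ptsSub]
    rintro _ ⟨h, rfl⟩
    exact ⟨h ≫ f, by rw [Category.assoc, hf]⟩

include e in
lemma isUnip_of_hasNoSubtorus [Smooth G.hom]
    (hrad : ∀ (R : Over (Spec (CommRingCat.of k))) [GrpObj R] (r : R ⟶ G) [IsMonHom r],
      IsClosedImmersion r.left → Smooth R.hom → ConnectedSpace R.left →
      AlgGrp.IsNormalHom r → Red.IsSolvableGrp R → Red.HasNoSubtorus k R)
    {N : Subgroup (Pt k A)} (hN : N.Normal) (hN' : IsCCS N) : ∀ g ∈ N, IsUnip g := by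
  obtain ⟨R', _, r', _, h1, h2, h3, h4⟩ := K501.RadSch.exists_sub e hN'.isCl
  have h5 := h4 hN'.isConn
  have h6 : IsIso e.hom.left := (Over.forget _).map_isIso e.hom
  have h7 : IsClosedImmersion (r' ≫ e.hom).left := by
    rw [Over.comp_left]; infer_instance
  have h8 := hrad R' r' h1 h2 h5 ((K501.RadSch.isNormalHom_iff e r').2 (h3 ▸ hN))
      ((isSolvableGrp_iff (r' ≫ e.hom)).2 (h3 ▸ hN'.isSolvable))
  rw [← h3]
  exact (K501.RadSch.hasNoSubtorus_iff e r').1 h8

end K495.RadSch
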